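import Mathlib
import Cfsg.Agent.CharBasic.Integral
import Cfsg.Agent.H36.Basic
import Cfsg.Agent.H36.Fixed
import Cfsg.Prelude.Def_DegreeGraph

/-! Groups of order 60, and a prime in the degrees of the alternating group of degree five. -/

set_option autoImplicit false

namespace Cfsg.Agent.H70

open Subgroup

theorem five_mem_degreePrimes_altFive :
    5 ∈ Cfsg.degreePrimes (alternatingGroup (Fin 5)) := by
  let A := alternatingGroup (Fin 5)
  let u : A := ⟨Equiv.swap 0 1 * Equiv.swap 2 3, Equiv.Perm.mem_alternatingGroup.mpr (by decide)⟩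
  have hu1 : u ≠ 1 := by decide
  have hcen : Fintype.card {g : A // g * u = u * g} = 4 := by decide
  have hA : Nat.card A = 60 := by
    rw [Nat.card_eq_fintype_card]; decide
  classical
  have hidx : (centralizer ({u} : Set A)).index = 15 := by
    have hc : Nat.card (centralizer ({u} : Set A)) = 4 := by
      rw [← hcen, ← Nat.card_eq_fintype_card]
      exact Nat.card_congr (Equiv.subtypeEquivRight fun g => mem_centralizer_singleton_iff)
    have h := (centralizer ({u} : Set A)).card_mul_index
    rw [hc, hA] at h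
    omega
  refine ⟨by norm_num, ?_⟩
  by_contra hcon
  push Not at hcon
  let one' : Cfsg.IrrCharacter A := ⟨_, CharBasic.isIrrCharacter_one⟩
  -- every other character has degree divisible by three or vanishes at `u`
  have key : ∀ χ : Cfsg.IrrCharacter A, χ ≠ one' →
      IsIntegral ℤ ((χ : A → ℂ) 1 * (χ : A → ℂ) u / 3) := by
    intro χ hχ
    obtain ⟨n, ρ, hρ, he⟩ := χ.2
    have := hρ
    have hd : (χ : A → ℂ) 1 = n := by
      rw [← he, Representation.char_one, Module.finrank_fin_fun]
    by_cases h3 : 3 ∣ n
    · obtain ⟨k, rfl⟩ := h3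
      rw [hd, show ((3 * k : ℕ) : ℂ) * (χ : A → ℂ) u / 3 = (k : ℂ) * (χ : A → ℂ) u by
        push_cast; ring, ← he]
      exact (isIntegral_algebraMap (R := ℤ) (x := (k : ℤ))).mul (CharBasic.isIntegral_character ρ u)
    · have h5 : ¬ 5 ∣ n := by
        refine hcon n ⟨χ, ?_⟩
        rw [Cfsg.charDegree, hd, Complex.natCast_re, Nat.floor_natCast]
      have h15 : Nat.Coprime n 15 := by
        rw [show (15 : ℕ) = 3 * 5 from rfl]
        exact Nat.Coprime.mul_right ((Nat.Prime.coprime_iff_not_dvd (by norm_num)).mpr h3).symm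
          ((Nat.Prime.coprime_iff_not_dvd (by norm_num)).mpr h5).symm
      rcases CharBasic.burnside_zero_or_scalar ρ u (by rwa [Module.finrank_fin_fun, hidx]) with h | h
      · rw [← he, h]; simp [isIntegral_zero]
      · exfalso
        obtain ⟨ω, hω⟩ := (CharBasic.norm_character_eq_iff ρ u).mp h
        have : IsSimpleGroup A := alternatingGroup.isSimpleGroup (by simp)
        rcases (Subgroup.Normal.eq_bot_or_eq_top (MonoidHom.normal_ker ρ)) with hk | hk
        · have hz : u ∈ center A := mem_center_iff.mpr fun g => by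
            apply (MonoidHom.ker_eq_bot_iff _).mp hk
            rw [map_mul, map_mul, hω, mul_smul_comm, smul_mul_assoc]
            rfl
          have hA4 : 4 < Nat.card A := by omega
          have hnc : ¬ IsMulCommutative A := Cfsg.Agent.H36.not_comm_of_simple (by rw [hA]; norm_num)
          rw [Cfsg.Agent.H36.center_eq_bot_of_simple hnc, mem_bot] at hz
          exact hu1 hz
        · have h1 : ∀ g, ρ g = 1 := fun g => (by rw [hk]; exact Subgroup.mem_top g : g ∈ MonoidHom.ker ρ)
          have := CharBasic.classInner_irr_of_ne χ.2 one'.2 (fun e => hχ (Subtype.ext e))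
          have hc : ∀ g, (χ : A → ℂ) g = n := fun g => by
            rw [← he, Representation.character, h1 g]
            simp
          rw [CharBasic.classInner_def] at this
          simp [one', hc] at this
          have hn : 0 < n := by
            have := CharBasic.finrank_pos_of_isIrreducible ρ
            rwa [Module.finrank_fin_fun] at this
          omega
  have hs := CharBasic.sum_degree_mul_apply (G := A) u
  rw [if_neg hu1, ← Finset.add_sum_erase _ _ (Finset.mem_univ one')] at hs
  simp only [one', one_mul] at hs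
  have hint : IsIntegral ℤ (∑ χ ∈ (Finset.univ : Finset (Cfsg.IrrCharacter A)).erase one',
      (χ : A → ℂ) 1 * (χ : A → ℂ) u / 3) :=
    IsIntegral.sum _ fun χ hχ => key χ (Finset.ne_of_mem_erase hχ)
  rw [← Finset.sum_div, eq_neg_of_add_eq_zero_right hs] at hint
  have hq : IsIntegral ℤ (-1 / 3 : ℚ) := by
    refine (isIntegral_algebraMap_iff (A := ℚ) (B := ℂ) (algebraMap ℚ ℂ).injective).1 ?_
    simpa using hint
  obtain ⟨k, hk⟩ := IsIntegrallyClosed.isIntegral_iff.1 hq
  have : (3 : ℚ) * k = -1 := by rw [show (k : ℚ) = -1 / 3 by simpa using hk]; norm_num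
  have : (3 : ℤ) * k = -1 := by exact_mod_cast this
  omega

/-- A group of order 60 with more than one Sylow 5-subgroup is simple. -/
theorem simple_of_card_sixty {G : Type*} [Group G] [Finite G] (hG : Nat.card G = 60)
    (h5 : Nat.card (Sylow 5 G) ≠ 1) : IsSimpleGroup G ∧ Nat.card (Sylow 5 G) = 6 := by
  classical
  have := Fact.mk (by norm_num : Nat.Prime 5)
  have := Fact.mk (by norm_num : Nat.Prime 3)
  have hs5 : Nat.card (Sylow 5 G) = 6 := by
    obtain ⟨hd, hm⟩ := H36.card_sylow_dvd (p := 5) hG (a := 1) (m := 12) rfl (by norm_num)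
    have := Nat.le_of_dvd (by norm_num) hd
    interval_cases h : Nat.card (Sylow 5 G) <;> simp_all
  refine ⟨?_, hs5⟩
  have hP : ∀ P : Sylow 5 G, Nat.card (P : Subgroup G) = 5 := fun P => by
    simpa using H36.card_sylow_eq hG P (a := 1) (m := 12) rfl (by norm_num)
  have hQ : ∀ P : Sylow 3 G, Nat.card (P : Subgroup G) = 3 := fun P => by
    simpa using H36.card_sylow_eq hG P (a := 1) (m := 20) rfl (by norm_num)
  have hc5 : Nat.card {g : G // orderOf g = 5} = 24 := by
    rw [H36.card_orderOf_eq default (hP _), hs5]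
  have hNP : ∀ P : Sylow 5 G, Nat.card (normalizer ((P : Subgroup G) : Set G)) = 10 := fun P => by
    have := H36.card_sylow_mul_normalizer P
    rw [hs5, hG] at this; omega
  have hs3 : Nat.card (Sylow 3 G) = 10 := by
    obtain ⟨hd, hm⟩ := H36.card_sylow_dvd (p := 3) hG (a := 1) (m := 20) rfl (by norm_num)
    by_contra hne
    -- a fixed point gives an element of order 3 normalised by an element of order 5
    have hnd : ¬ 5 ∣ Nat.card (Sylow 3 G) := by
      intro h
      have := Nat.le_of_dvd (by norm_num) hd
      interval_cases h' : Nat.card (Sylow 3 G) <;> omega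
    let P : Sylow 5 G := default
    obtain ⟨Q, hQf⟩ := (P.2 : IsPGroup 5 (P : Subgroup G)).nonempty_fixed_point_of_prime_not_dvd_card
      (Sylow 3 G) hnd
    have hle : (P : Subgroup G) ≤ normalizer ((Q : Subgroup G) : Set G) :=
      (Subgroup.sylow_mem_fixedPoints_iff _).mp hQf
    have hcent : (P : Subgroup G) ≤ centralizer ((Q : Subgroup G) : Set G) := by
      intro x hx
      have hker := (Q : Subgroup G).normalizerMonoidHom_ker
      have hd1 : orderOf ((Q : Subgroup G).normalizerMonoidHom ⟨x, hle hx⟩) ∣ 5 := by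
        refine (orderOf_map_dvd _ _).trans ?_
        rw [Subgroup.orderOf_mk, ← hP P]
        have := _root_.orderOf_dvd_natCard (⟨x, hx⟩ : (P : Subgroup G))
        rwa [Subgroup.orderOf_mk] at this
      have hd2 : orderOf ((Q : Subgroup G).normalizerMonoidHom ⟨x, hle hx⟩) ∣ 2 := by
        refine _root_.orderOf_dvd_natCard _ |>.trans ?_
        have : IsCyclic (Q : Subgroup G) := isCyclic_of_prime_card (hQ Q)
        rw [IsCyclic.card_mulAut, hQ Q]
        decide
      have h1 := orderOf_eq_one_iff.mp (Nat.eq_one_of_dvd_coprimes (by norm_num) hd1 hd2)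
      have h2 : (⟨x, hle hx⟩ : normalizer ((Q : Subgroup G) : Set G)) ∈
          (Q : Subgroup G).normalizerMonoidHom.ker := h1
      rw [hker] at h2
      exact h2
    have hdvd : 3 ∣ Nat.card (normalizer ((P : Subgroup G) : Set G)) := by
      have h : (Q : Subgroup G) ≤ normalizer ((P : Subgroup G) : Set G) :=
        le_trans (Subgroup.le_centralizer_iff.mp hcent) (Subgroup.centralizer_le_normalizer _)
      exact (hQ Q).symm ▸ Subgroup.card_dvd_of_le h
    rw [hNP P] at hdvd
    omega
  have hc3 : Nat.card {g : G // orderOf g = 3} = 20 := by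
    rw [H36.card_orderOf_eq default (hQ _), hs3]
  have : Nontrivial G := Finite.one_lt_card_iff_nontrivial.mp (by omega)
  refine ⟨fun N hN => ?_⟩
  by_contra hcon
  push Not at hcon
  obtain ⟨hNb, hNt⟩ := hcon
  have := Fintype.ofFinite G
  have hord : ∀ p : ℕ, p.Prime → p ∣ Nat.card N → ¬ p ^ 2 ∣ 60 → ∀ g : G, orderOf g = p → g ∈ N := by
    intro p hp hpN hp2 g hg
    by_contra hgN
    have := Fact.mk hp
    have h1 : orderOf (QuotientGroup.mk' N g) = p := by
      rcases (Nat.dvd_prime hp).mp (hg ▸ orderOf_map_dvd (QuotientGroup.mk' N) g) with h | h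
      · exact absurd ((QuotientGroup.eq_one_iff g).mp (orderOf_eq_one_iff.mp h)) hgN
      · exact h
    have h2 : p ∣ N.index := h1 ▸ _root_.orderOf_dvd_natCard _
    apply hp2
    rw [← hG, ← N.card_mul_index, pow_two]
    exact Nat.mul_dvd_mul hpN h2
  have hlt : Nat.card N ≤ 30 := by
    have h1 := N.card_mul_index
    have h2 : 2 ≤ N.index := N.one_lt_index_of_ne_top hNt
    have := Nat.mul_le_mul_left (Nat.card N) h2
    omega
  have hcount : ∀ S : Finset G, (∀ g ∈ S, g ∈ N) → S.card ≤ Nat.card N := fun S hS => by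
    rw [Nat.card_eq_fintype_card, ← Fintype.card_coe]
    exact Fintype.card_le_of_injective (fun g : S => (⟨g.1, hS g.1 g.2⟩ : N))
      fun a b h => Subtype.ext (congrArg Subtype.val h :)
  let E : ℕ → Finset G := fun p => Finset.univ.filter (fun g => orderOf g = p)
  have hE5 : (E 5).card = 24 := by
    rw [← hc5, Nat.card_eq_fintype_card, Fintype.card_subtype]
  have hE3 : (E 3).card = 20 := by
    rw [← hc3, Nat.card_eq_fintype_card, Fintype.card_subtype]
  have hdis : ∀ p q : ℕ, p ≠ q → Disjoint (E p) (E q) := fun p q hpq => by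
    rw [Finset.disjoint_left]
    intro g h h'
    simp only [E, Finset.mem_filter] at h h'
    exact hpq (h.2.symm.trans h'.2)
  have hdvdN : Nat.card N ∣ 60 := hG ▸ N.card_subgroup_dvd_card
  have hN5 : ¬ 5 ∣ Nat.card N := by
    intro h
    have h1 := hord 5 (by norm_num) h (by norm_num)
    by_cases h3 : 3 ∣ Nat.card N
    · have := hcount (E 5 ∪ E 3) (fun g hg => by
        simp only [E, Finset.mem_union, Finset.mem_filter] at hg
        rcases hg with hg | hg
        · exact h1 g hg.2
        · exact hord 3 (by norm_num) h3 (by norm_num) g hg.2)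
      rw [Finset.card_union_of_disjoint (hdis 5 3 (by norm_num)), hE5, hE3] at this
      omega
    · have := hcount (E 5) (fun g hg => h1 g (Finset.mem_filter.mp hg).2)
      rw [hE5] at this
      have := Nat.le_of_dvd (by norm_num) ((Nat.Coprime.dvd_of_dvd_mul_left (m := 3) (n := 20)
        ((Nat.Prime.coprime_iff_not_dvd (by norm_num)).mpr h3).symm (show Nat.card N ∣ _ from hdvdN)))
      omega
  have hN3 : ¬ 3 ∣ Nat.card N := by
    intro h
    have := hcount (E 3) (fun g hg => hord 3 (by norm_num) h (by norm_num) g (Finset.mem_filter.mp hg).2)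
    rw [hE3] at this
    have := Nat.le_of_dvd (by norm_num) ((Nat.Coprime.dvd_of_dvd_mul_left (m := 5) (n := 12)
      ((Nat.Prime.coprime_iff_not_dvd (by norm_num)).mpr hN5).symm (show Nat.card N ∣ _ from hdvdN)))
    omega
  have hN4 : Nat.card N ∣ 4 := by
    have h1 : Nat.card N ∣ 12 := (Nat.Coprime.dvd_of_dvd_mul_left (m := 5) (n := 12)
      ((Nat.Prime.coprime_iff_not_dvd (by norm_num)).mpr hN5).symm (show Nat.card N ∣ _ from hdvdN))
    exact (Nat.Coprime.dvd_of_dvd_mul_left (m := 3) (n := 4)
      ((Nat.Prime.coprime_iff_not_dvd (by norm_num)).mpr hN3).symm h1)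
  have hN1 : Nat.card N ≠ 1 := fun h => hNb (Subgroup.card_eq_one.mp h)
  have hle4 := Nat.le_of_dvd (by norm_num) hN4
  -- elements of order 3 and 5 centralise `N`
  have hcomm : ∀ g : G, orderOf g = 5 → ∀ n ∈ N, g * n = n * g := by
    intro g hg
    let ψ : G →* MulAut N := MulAut.conjNormal
    have hfix : ψ g = 1 := by
      have h1 : orderOf (ψ g) ∣ 5 := hg ▸ orderOf_map_dvd ψ g
      have hfac : Nat.card (MulAut N) ∣ (Nat.card N - 1).factorial := by
        let r : MulAut N →* Equiv.Perm {x : N // x ≠ 1} :=
          MonoidHom.mk' (fun e => e.toEquiv.subtypeEquiv fun x => by simp)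
            (fun e e' => Equiv.ext fun x => Subtype.ext rfl)
        have hr : Function.Injective r := fun e e' h => MulEquiv.ext fun x => by
          by_cases hx : x = 1
          · rw [hx, map_one, map_one]
          · exact congrArg Subtype.val (Equiv.congr_fun h ⟨x, hx⟩)
        refine (Subgroup.card_dvd_of_injective r hr).trans (dvd_of_eq ?_)
        have : Fintype N := Fintype.ofFinite N
        rw [Nat.card_perm, Nat.card_eq_fintype_card, Nat.card_eq_fintype_card]
        congr 1
        simp [Fintype.card_subtype_compl]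
      have h2 : orderOf (ψ g) ∣ (4 - 1).factorial :=
        ((_root_.orderOf_dvd_natCard _).trans hfac).trans (Nat.factorial_dvd_factorial (by omega))
      exact orderOf_eq_one_iff.mp
        (Nat.eq_one_of_dvd_coprimes (by norm_num [Nat.factorial]) h1 h2)
    intro n hn
    have h := congrArg Subtype.val (congrArg (fun e : MulAut N => e ⟨n, hn⟩) hfix)
    simp only [ψ, MulAut.conjNormal_apply, MulAut.one_apply] at h
    exact mul_inv_eq_iff_eq_mul.mp h
  rcases (Nat.dvd_prime_pow Nat.prime_two (m := 2)).mp (show Nat.card N ∣ 2 ^ 2 from hN4) with ⟨i, hi, hci⟩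
  interval_cases i
  · exact hN1 (by simpa using hci)
  · -- central involution: too many elements
    have := Fact.mk Nat.prime_two
    obtain ⟨⟨z, hz⟩, hzo⟩ := exists_prime_orderOf_dvd_card' 2 (G := N) (by rw [hci, pow_one])
    rw [Subgroup.orderOf_mk] at hzo
    have hzc : ∀ g : G, g * z = z * g := by
      intro g
      have h1 : g * z * g⁻¹ ∈ N := hN.conj_mem z hz g
      have h2 : g * z * g⁻¹ ≠ 1 := by
        simp only [ne_eq, mul_inv_eq_one, mul_eq_left]
        rintro rfl; simp at hzo
      have : Fintype N := Fintype.ofFinite N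
      have hcard : Fintype.card N = 2 := by rw [← Nat.card_eq_fintype_card]; simpa using hci
      by_contra hne
      have h3 : ((⟨g * z * g⁻¹, h1⟩ : N) ≠ 1 ∧ (⟨g * z * g⁻¹, h1⟩ : N) ≠ ⟨z, hz⟩) :=
        ⟨fun e => h2 (congrArg Subtype.val e), fun e => hne (mul_inv_eq_iff_eq_mul.mp (congrArg Subtype.val e))⟩
      have hz1 : (1 : N) ≠ ⟨z, hz⟩ := fun e => by
        have : (1 : G) = z := congrArg Subtype.val e
        rw [← this, orderOf_one] at hzo; omega
      have := Finset.card_le_univ ({1, ⟨z, hz⟩, ⟨g * z * g⁻¹, h1⟩} : Finset N)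
      rw [Finset.card_eq_three.mpr ⟨_, _, _, hz1, h3.1.symm, h3.2.symm, rfl⟩, hcard] at this
      omega
    have hmap : ∀ p : ℕ, p.Prime → p ≠ 2 → (E p).card ≤ (E (p * 2)).card := by
      intro p hp hp2
      refine Finset.card_le_card_of_injOn (fun g => g * z) (fun g hg => ?_)
        (fun a _ b _ h => mul_right_cancel h)
      simp only [E, Finset.coe_filter, Finset.mem_univ, true_and, Set.mem_setOf_eq] at hg ⊢
      rw [(show Commute g z from hzc g).orderOf_mul_eq_mul_orderOf_of_coprime
        (by rw [hg, hzo]; exact (Nat.coprime_primes hp Nat.prime_two).mpr hp2), hg, hzo]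
    have h1 := hmap 5 (by norm_num) (by norm_num)
    have h2 := hmap 3 (by norm_num) (by norm_num)
    have h3 : ((E 5 ∪ E 3) ∪ (E (5 * 2) ∪ E (3 * 2))).card ≤ 60 := by
      rw [← hG, Nat.card_eq_fintype_card]; exact Finset.card_le_univ _
    rw [Finset.card_union_of_disjoint, Finset.card_union_of_disjoint (hdis _ _ (by norm_num)),
      Finset.card_union_of_disjoint (hdis _ _ (by norm_num))] at h3
    · omega
    · simp only [Finset.disjoint_union_left, Finset.disjoint_union_right]
      exact ⟨⟨hdis _ _ (by norm_num), hdis _ _ (by norm_num)⟩,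
        ⟨hdis _ _ (by norm_num), hdis _ _ (by norm_num)⟩⟩
  · let P : Sylow 5 G := default
    have hle : N ≤ normalizer ((P : Subgroup G) : Set G) := by
      refine le_trans (fun n hn => ?_) (Subgroup.centralizer_le_normalizer _)
      intro x hx
      by_cases hx1 : x = 1
      · simp [hx1]
      · refine hcomm x ?_ n hn
        have h := _root_.orderOf_dvd_natCard (⟨x, hx⟩ : (P : Subgroup G))
        rw [Subgroup.orderOf_mk, hP P] at h
        exact ((Nat.dvd_prime (by norm_num)).mp h).resolve_left (fun e => hx1 (orderOf_eq_one_iff.mp e))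
    have := Subgroup.card_dvd_of_le hle
    rw [hNP, hci] at this
    norm_num at this

end Cfsg.Agent.H70
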