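import Mathlib

/-! Small facts about point stabilisers of finite faithful primitive actions. -/

set_option autoImplicit false

namespace Cfsg.Agent.H70

open MulAction

variable {G Ω : Type*} [Group G] [MulAction G Ω]

theorem isCoatom_stab (hprim : IsPreprimitive G Ω) {a b : Ω} (hab : a ≠ b) :
    IsCoatom (stabilizer G a) := by
  have : Nontrivial Ω := ⟨⟨a, b, hab⟩⟩
  exact (isCoatom_stabilizer_iff_preprimitive G a).mpr hprim

theorem eq_bot_of_normal_le_stab [FaithfulSMul G Ω] [IsPretransitive G Ω]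
    {N : Subgroup G} (hN : N.Normal) {a : Ω} (hle : N ≤ stabilizer G a) : N = ⊥ := by
  rw [eq_bot_iff]
  intro n hn
  rw [Subgroup.mem_bot]
  apply eq_of_smul_eq_smul (α := Ω)
  intro x
  obtain ⟨g, rfl⟩ := exists_smul_eq G a x
  have h := hle (hN.conj_mem n hn g⁻¹)
  rw [mem_stabilizer_iff, mul_smul, mul_smul, inv_inv] at h
  rw [one_smul]
  exact inv_smul_eq_iff.mp h

theorem card_stab_eq [IsPretransitive G Ω] (a b : Ω) :
    Nat.card (stabilizer G a) = Nat.card (stabilizer G b) := by
  obtain ⟨g, rfl⟩ := exists_smul_eq G a b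
  exact Nat.card_congr (stabilizerEquivStabilizer (g := g) rfl).toEquiv

theorem stab_ne_of_ne [Finite G] [FaithfulSMul G Ω] (hprim : IsPreprimitive G Ω) {a b : Ω}
    (hab : a ≠ b) (hs : stabilizer G a ≠ ⊥) : stabilizer G a ≠ stabilizer G b := by
  intro e
  have ht : IsPretransitive G Ω := hprim.toIsPretransitive
  obtain ⟨g, hg⟩ := exists_smul_eq G a b
  have hmem : g ∈ Subgroup.normalizer (stabilizer G a : Set G) := by
    rw [Subgroup.mem_normalizer_iff]
    intro x
    rw [show x ∈ stabilizer G a ↔ g * x * g⁻¹ ∈ stabilizer G b by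
      simp [mem_stabilizer_iff, mul_smul, ← hg, smul_left_cancel_iff], e]
  rcases (isCoatom_stab hprim hab).le_iff.mp (Subgroup.le_normalizer (H := stabilizer G a))
    with h | h
  · exact hs (eq_bot_of_normal_le_stab (Subgroup.normalizer_eq_top_iff.mp h) le_rfl)
  · rw [h, mem_stabilizer_iff] at hmem
    exact hab (hmem.symm.trans hg)

end Cfsg.Agent.H70
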