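import Mathlib
import Cfsg.Prelude.Def_Transfer
import Cfsg.Agent.Components.Layer
import Cfsg.Agent.Components.PAction
import Cfsg.Agent.Cores.PCore
import Cfsg.Agent.Cores.Residual
import Cfsg.Agent.Fusion.PResidual
import Cfsg.Agent.Coprime.Centralize
import Cfsg.Agent.H70.Primitive

/-!
Point stabilisers of finite primitive groups: the kernels on suborbits, Wielandt's argument
for normal `p`-subgroups and the part coming from components.
-/

set_option autoImplicit false
set_option linter.style.haveILetI false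
set_option linter.unusedSectionVars false

namespace Cfsg.Agent.H70.Wielandt

open MulAction

section Group

variable {G : Type*} [Group G]

theorem le_normalizer_of_conj {H X : Subgroup G}
    (h : ∀ g ∈ H, ∀ x ∈ X, g * x * g⁻¹ ∈ X) : H ≤ Subgroup.normalizer (X : Set G) := by
  intro g hg
  rw [Subgroup.mem_normalizer_iff]
  refine fun x => ⟨h g hg x, fun hx => ?_⟩
  simpa [mul_assoc] using h g⁻¹ (inv_mem hg) _ hx

/-- A subnormal subgroup contains every element of order prime to its index. -/
theorem mem_of_isSubnormal [Finite G] {A : Subgroup G} (hA : A.IsSubnormal) {x : G}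
    (hi : (orderOf x).Coprime A.index) : x ∈ A := by
  induction hA with
  | top => trivial
  | step A B hle _ hn ih =>
    have hmul : A.relIndex B * B.index = A.index := Subgroup.relIndex_mul_index hle
    have hxB : x ∈ B := ih (hi.coprime_dvd_right (Dvd.intro_left _ hmul))
    haveI := hn
    have h1 : orderOf (QuotientGroup.mk' (A.subgroupOf B) ⟨x, hxB⟩) ∣ orderOf x :=
      (orderOf_map_dvd _ _).trans (by rw [← Subgroup.orderOf_coe])
    have h2 : orderOf (QuotientGroup.mk' (A.subgroupOf B) ⟨x, hxB⟩) ∣ A.relIndex B :=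
      orderOf_dvd_natCard _
    have h3 : (orderOf x).Coprime (A.relIndex B) :=
      hi.coprime_dvd_right (Dvd.intro _ hmul)
    have h4 := orderOf_eq_one_iff.mp (Nat.eq_one_of_dvd_coprimes h3 h1 h2)
    exact (QuotientGroup.eq_one_iff (N := A.subgroupOf B) _).mp h4

/-- A normal `p`-subgroup normalises every subnormal `X` with `O^p(X) = X`. -/
theorem normal_pGroup_le_normalizer [Finite G] {p : ℕ} [Fact p.Prime] {X Q : Subgroup G}
    [Q.Normal] (hQ : IsPGroup p Q) (hX : X.IsSubnormal) (hres : Cfsg.pResidual p X = ⊤) :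
    Q ≤ Subgroup.normalizer (X : Set G) := by
  set M := X ⊔ Q with hM
  have hXM : X ≤ M := le_sup_left
  obtain ⟨n, hn⟩ := hQ.exists_card_eq
  have hdvd : X.relIndex M ∣ p ^ n := by
    refine ⟨Nat.card (Q ⊓ X : Subgroup G), ?_⟩
    have hMc : Nat.card Q * Q.relIndex X = Nat.card M := by
      rw [← Subgroup.relIndex_bot_left, ← Subgroup.relIndex_bot_left (H := M),
        ← Subgroup.relIndex_sup_right (H := X) (K := Q),
        Subgroup.relIndex_mul_relIndex _ _ _ bot_le le_sup_right]
    have hXc : Nat.card (Q ⊓ X : Subgroup G) * Q.relIndex X = Nat.card X := by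
      rw [← Subgroup.relIndex_bot_left, ← Subgroup.relIndex_bot_left (H := X),
        ← Subgroup.inf_relIndex_right (H := Q) (K := X),
        Subgroup.relIndex_mul_relIndex _ _ _ bot_le inf_le_right]
    have hXM' : Nat.card X * X.relIndex M = Nat.card M := by
      rw [← Subgroup.relIndex_bot_left, ← Subgroup.relIndex_bot_left (H := M),
        Subgroup.relIndex_mul_relIndex _ _ _ bot_le hXM]
    have h0 : Q.relIndex X ≠ 0 := by
      intro h; rw [h, mul_zero] at hXc; exact Nat.card_pos.ne' hXc.symm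
    rw [← hn]
    apply Nat.eq_of_mul_eq_mul_right (Nat.pos_of_ne_zero h0)
    rw [hMc, ← hXM', ← hXc]; ring
  have hsub : (X.subgroupOf M).IsSubnormal := hX.subgroupOf
  have key : X = (Cfsg.pResidual p M).map M.subtype := by
    refine le_antisymm ?_ (Subgroup.map_le_iff_le_comap.mpr
      (Fusion.pResidual_le.mpr fun g hg => ?_))
    · have h1 : (Cfsg.pResidual p X).map X.subtype ≤ (Cfsg.pResidual p M).map M.subtype :=
        Subgroup.map_le_iff_le_comap.mpr (Fusion.pResidual_le.mpr fun g hg =>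
          Fusion.mem_pResidual_subgroup (hXM g.2) (by rw [Subgroup.coe_subtype, Subgroup.orderOf_coe]; exact hg))
      rwa [hres, ← MonoidHom.range_eq_map, Subgroup.range_subtype] at h1
    · exact mem_of_isSubnormal hsub ((hg.pow_right n).coprime_dvd_right hdvd)
  have h := Components.le_normalizer_map_characteristic (Cfsg.pResidual p M) (Y := M)
    Subgroup.le_normalizer
  rw [← key] at h
  exact (le_sup_right : Q ≤ M).trans h

/-- `A ◁ B ◁ C` gives `A` subnormal in `C`. -/
theorem sn_two {A B C : Subgroup G} (hAB : A ≤ B) (hBC : B ≤ C)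
    (hA : B ≤ Subgroup.normalizer (A : Set G)) (hB : C ≤ Subgroup.normalizer (B : Set G)) :
    (A.subgroupOf C).IsSubnormal := by
  have h1 : (B.subgroupOf C).Normal := Subgroup.normal_subgroupOf_of_le_normalizer hB
  refine .step _ _ (Subgroup.comap_mono hAB) h1.isSubnormal ?_
  refine Subgroup.normal_subgroupOf_of_le_normalizer fun x hx => ?_
  rw [Subgroup.mem_normalizer_iff]
  intro y
  have := Subgroup.mem_normalizer_iff.mp (hA (Subgroup.mem_subgroupOf.mp hx)) (y : G)
  simpa [Subgroup.mem_subgroupOf] using this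

/-- `O_p` of a subgroup, inside the ambient group. -/
def opIn (p : ℕ) (H : Subgroup G) : Subgroup G := (Cfsg.pCore p H).map H.subtype

theorem opIn_le (p : ℕ) (H : Subgroup G) : opIn p H ≤ H := Subgroup.map_subtype_le _

theorem le_normalizer_opIn (p : ℕ) (H : Subgroup G) :
    H ≤ Subgroup.normalizer (opIn p H : Set G) :=
  Components.le_normalizer_map_characteristic _ Subgroup.le_normalizer

theorem isPGroup_opIn [Finite G] {p : ℕ} [Fact p.Prime] (H : Subgroup G) :
    IsPGroup p (opIn p H) :=
  (Components.isPGroup_pCore p).map _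

theorem le_opIn {p : ℕ} {A H : Subgroup G} (hAH : A ≤ H) (hA : (A.subgroupOf H).IsSubnormal)
    (hp : IsPGroup p A) : A ≤ opIn p H := by
  have h : A.subgroupOf H ≤ Cfsg.pCore p H :=
    Cores.le_pCore_of_isSubnormal hA (hp.of_equiv (Subgroup.subgroupOfEquivOfLe hAH).symm)
  exact fun x hx => ⟨⟨x, hAH hx⟩, h hx, rfl⟩

theorem le_opIn_of_normalized {p : ℕ} {A H : Subgroup G} (hAH : A ≤ H)
    (hA : H ≤ Subgroup.normalizer (A : Set G)) (hp : IsPGroup p A) : A ≤ opIn p H :=
  le_opIn hAH (Subgroup.normal_subgroupOf_of_le_normalizer hA).isSubnormal hp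

theorem opIn_le_normalizer [Finite G] {p : ℕ} [Fact p.Prime] {X L : Subgroup G} (hXL : X ≤ L)
    (hsn : (X.subgroupOf L).IsSubnormal) (hres : Cfsg.pResidual p X = ⊤) :
    opIn p L ≤ Subgroup.normalizer (X : Set G) := by
  have hres' : Cfsg.pResidual p (X.subgroupOf L) = ⊤ := by
    rw [← Fusion.map_pResidual_equiv (Subgroup.subgroupOfEquivOfLe hXL).symm, hres]
    exact Subgroup.map_top_of_surjective _ (MulEquiv.surjective _)
  refine (Subgroup.map_mono (normal_pGroup_le_normalizer (Components.isPGroup_pCore p) hsn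
    hres')).trans ((Subgroup.le_normalizer_map _).trans ?_)
  rw [Components.map_subgroupOf hXL]

/-- `E` of a subgroup, inside the ambient group. -/
def eOf (H : Subgroup G) : Subgroup G := (Cfsg.layer H).map H.subtype

theorem le_normalizer_eOf (H : Subgroup G) : H ≤ Subgroup.normalizer (eOf H : Set G) :=
  Components.le_normalizer_map_characteristic _ Subgroup.le_normalizer

theorem layer_le_normalizer {H : Type*} [Group H] {X : Subgroup H} (hX : X.IsSubnormal) :
    Cfsg.layer H ≤ Subgroup.normalizer (X : Set H) :=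
  Components.layer_le_iff.mpr fun _ hC =>
    (Components.component_le_or_commutator_eq_bot hC hX).elim
      (fun h => h.trans Subgroup.le_normalizer) Components.le_normalizer_of_commutator_eq_bot

theorem eOf_le_normalizer {X H : Subgroup G} (hXH : X ≤ H)
    (hX : (X.subgroupOf H).IsSubnormal) : eOf H ≤ Subgroup.normalizer (X : Set G) := by
  refine (Subgroup.map_mono (layer_le_normalizer hX)).trans
    ((Subgroup.le_normalizer_map _).trans ?_)
  rw [Components.map_subgroupOf hXH]

/-- `C` is a component of the subgroup `H`. -/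
def Comp (H C : Subgroup G) : Prop := C ≤ H ∧ Cfsg.IsComponent (C.subgroupOf H)

theorem Comp.qs {H C : Subgroup G} (h : Comp H C) : Cfsg.IsQuasisimple C :=
  Components.qs_congr (Subgroup.subgroupOfEquivOfLe h.1) h.2.2

theorem Comp.le_eOf {H C : Subgroup G} (h : Comp H C) : C ≤ eOf H := fun x hx =>
  ⟨⟨x, h.1 hx⟩, Components.component_le_layer h.2 hx, rfl⟩

theorem eOf_le_iff {H M : Subgroup G} : eOf H ≤ M ↔ ∀ C, Comp H C → C ≤ M := by
  refine ⟨fun h C hC => hC.le_eOf.trans h, fun h => Subgroup.map_le_iff_le_comap.mpr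
    (Components.layer_le_iff.mpr fun C hC => Subgroup.map_le_iff_le_comap.mp
      (h _ ⟨Subgroup.map_subtype_le C, ?_⟩))⟩
  show Cfsg.IsComponent ((C.map H.subtype).comap H.subtype)
  rwa [Subgroup.comap_map_eq_self_of_injective H.subtype_injective]

/-- A quasisimple subgroup of `H` cannot centralise both `E(H)` and `F(H)`. -/
theorem qs_false [Finite G] {H C : Subgroup G} (hqs : Cfsg.IsQuasisimple C) (hCH : C ≤ H)
    (h1 : ∀ e ∈ Cfsg.layer H, ∀ c ∈ C, c * (e : G) = e * c)
    (h2 : ∀ e ∈ Cfsg.fittingSubgroup H, ∀ c ∈ C, c * (e : G) = e * c) : False := by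
  have hc : Cfsg.generalizedFittingSubgroup H ≤
      Subgroup.centralizer ((C.subgroupOf H : Subgroup H) : Set H) := by
    refine sup_le ?_ ?_
    · exact fun e he c hc => Subtype.ext (h1 e he _ hc)
    · exact fun e he c hc => Subtype.ext (h2 e he _ hc)
  have hC : C.subgroupOf H ≤ Subgroup.centralizer (C.subgroupOf H : Set H) :=
    (Subgroup.le_centralizer_iff.mp hc).trans (Components.centralizer_genFitting_le.trans hc)
  have hperf : ⁅C, C⁆ = ⊥ := by
    rw [Subgroup.commutator_eq_bot_iff_le_centralizer]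
    intro x hx y hy
    exact congrArg Subtype.val (hC (Subgroup.mem_subgroupOf (h := ⟨x, hCH hx⟩).mpr hx) ⟨y, hCH hy⟩
      (Subgroup.mem_subgroupOf.mpr hy))
  exact Components.qsSub_ne_bot hqs ((Components.qsSub_perfect hqs).symm.trans hperf)

theorem card_opIn (p : ℕ) (H : Subgroup G) :
    Nat.card (opIn p H) = Nat.card (Cfsg.pCore p H) :=
  Nat.card_congr ((Cfsg.pCore p H).equivMapOfInjective _ H.subtype_injective).symm.toEquiv

theorem card_eOf (H : Subgroup G) : Nat.card (eOf H) = Nat.card (Cfsg.layer H) :=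
  Nat.card_congr ((Cfsg.layer H).equivMapOfInjective _ H.subtype_injective).symm.toEquiv

end Group

variable {G Ω : Type*} [Group G] [MulAction G Ω]

/-- The elements fixing `a` and every point of the suborbit of `b`. -/
def K (a b : Ω) : Subgroup G :=
  stabilizer G a ⊓ fixingSubgroup G (orbit (stabilizer G a) b)

theorem mem_K {a b : Ω} {g : G} :
    g ∈ (K a b : Subgroup G) ↔ g • a = a ∧ ∀ x ∈ orbit (stabilizer G a) b, g • x = x := by
  simp [K, mem_fixingSubgroup_iff]

theorem K_le_fst (a b : Ω) : (K a b : Subgroup G) ≤ stabilizer G a := inf_le_left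

theorem K_le_snd (a b : Ω) : (K a b : Subgroup G) ≤ stabilizer G b :=
  fun _ hg => (mem_K.mp hg).2 b (mem_orbit_self b)

theorem K_le (a b : Ω) : (K a b : Subgroup G) ≤ stabilizer G a ⊓ stabilizer G b :=
  le_inf (K_le_fst a b) (K_le_snd a b)

theorem K_congr {a b c : Ω} (hc : c ∈ orbit (stabilizer G a) b) :
    (K a c : Subgroup G) = K a b := by
  rw [K, K, orbit_eq_iff.mpr hc]

theorem conj_mem_K {a b : Ω} {x : G} (hx : x ∈ (K a b : Subgroup G)) (g : G) :
    g * x * g⁻¹ ∈ (K (g • a) (g • b) : Subgroup G) := by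
  rw [mem_K] at hx ⊢
  refine ⟨by simp [mul_smul, hx.1], ?_⟩
  rintro y ⟨⟨k, hk⟩, rfl⟩
  have hk' : g⁻¹ * k * g ∈ stabilizer G a := by
    rw [mem_stabilizer_iff] at hk ⊢
    simp [mul_smul, hk]
  have h := hx.2 (g⁻¹ • k • g • b) ⟨⟨_, hk'⟩, by simp [Subgroup.smul_def, mul_smul]⟩
  simp [Subgroup.smul_def, mul_smul, h]

theorem le_normalizer_K (a b : Ω) :
    stabilizer G a ≤ Subgroup.normalizer ((K a b : Subgroup G) : Set G) := by
  refine le_normalizer_of_conj fun g hg x hx => ?_
  have h := conj_mem_K hx g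
  rw [mem_stabilizer_iff.mp hg, K_congr (show g • b ∈ orbit (stabilizer G a) b from ⟨⟨g, hg⟩, rfl⟩)] at h
  exact h

/-- The elements of `K a b` fixing, for every `c` in the suborbit, the suborbit of `a` under the
stabiliser of `c`. -/
def P (a b : Ω) : Subgroup G :=
  K a b ⊓ ⨅ c ∈ orbit (stabilizer G a) b, K c a

theorem mem_P {a b : Ω} {g : G} :
    g ∈ (P a b : Subgroup G) ↔
      g ∈ (K a b : Subgroup G) ∧ ∀ c ∈ orbit (stabilizer G a) b, g ∈ (K c a : Subgroup G) := by
  simp [P, Subgroup.mem_iInf]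

theorem P_le_K (a b : Ω) : (P a b : Subgroup G) ≤ K a b := inf_le_left

theorem P_le_K' (a b : Ω) : (P a b : Subgroup G) ≤ K b a :=
  fun _ hg => (mem_P.mp hg).2 b (mem_orbit_self b)

theorem le_normalizer_P (a b : Ω) :
    stabilizer G a ≤ Subgroup.normalizer ((P a b : Subgroup G) : Set G) := by
  refine le_normalizer_of_conj fun g hg x hx => ?_
  rw [mem_P] at hx ⊢
  refine ⟨(Subgroup.mem_normalizer_iff.mp (le_normalizer_K a b hg) x).mp hx.1, fun c hc => ?_⟩
  have hc' : g⁻¹ • c ∈ orbit (stabilizer G a) b := by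
    obtain ⟨k, rfl⟩ := hc
    exact ⟨⟨g, hg⟩⁻¹ * k, by simp [Subgroup.smul_def, mul_smul]⟩
  have h := conj_mem_K (hx.2 _ hc') g
  rwa [smul_inv_smul, mem_stabilizer_iff.mp hg] at h

/-- The standing hypotheses. -/
structure Hyp (G : Type*) {Ω : Type*} [Group G] [MulAction G Ω] (a b : Ω) : Prop where
  prim : IsPreprimitive G Ω
  ne : a ≠ b
  nt : stabilizer G a ≠ ⊥

section

variable [Finite G] [FaithfulSMul G Ω] {a b : Ω}

theorem Hyp.symm (h : Hyp G a b) : Hyp G b a := by
  refine ⟨h.prim, h.ne.symm, fun e => h.nt ?_⟩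
  haveI := h.prim.toIsPretransitive
  rw [Subgroup.eq_bot_iff_card, card_stab_eq a b, e, Subgroup.card_bot]

theorem Hyp.of_card (hprim : IsPreprimitive G Ω) {d : ℕ}
    (hd : Nat.card (orbit (stabilizer G a) b) = d) (h2 : 2 ≤ d) : Hyp G a b := by
  refine ⟨hprim, ?_, ?_⟩ <;> intro e
  · subst e
    have : orbit (stabilizer G a) a = {a} :=
      Set.eq_singleton_iff_unique_mem.mpr ⟨mem_orbit_self a, by rintro _ ⟨k, rfl⟩; exact k.2⟩
    rw [this, Nat.card_coe_set_eq, Set.ncard_singleton] at hd
    omega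
  · have : orbit (stabilizer G a) b = {b} := by
      refine Set.eq_singleton_iff_unique_mem.mpr ⟨mem_orbit_self b, ?_⟩
      rintro _ ⟨k, rfl⟩
      have hk : (k : G) = 1 := Subgroup.mem_bot.mp (e ▸ k.2)
      simp [Subgroup.smul_def, hk]
    rw [this, Nat.card_coe_set_eq, Set.ncard_singleton] at hd
    omega

theorem Hyp.normalizer_le (h : Hyp G a b) {X : Subgroup G} (hX : X ≠ ⊥)
    (hXH : X ≤ stabilizer G a) (hn : stabilizer G a ≤ Subgroup.normalizer (X : Set G)) :
    Subgroup.normalizer (X : Set G) ≤ stabilizer G a := by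
  haveI := h.prim.toIsPretransitive
  rcases (isCoatom_stab h.prim h.ne).le_iff.mp hn with e | e
  · exact absurd (eq_bot_of_normal_le_stab (Subgroup.normalizer_eq_top_iff.mp e) hXH) hX
  · exact e.le

theorem Hyp.eq_bot_of_both (h : Hyp G a b) {X : Subgroup G}
    (hXH : X ≤ stabilizer G a) (hn : stabilizer G a ≤ Subgroup.normalizer (X : Set G))
    (hn' : stabilizer G b ≤ Subgroup.normalizer (X : Set G)) : X = ⊥ := by
  by_contra hX
  haveI := h.prim.toIsPretransitive
  refine stab_ne_of_ne h.prim h.ne h.nt (Subgroup.eq_of_le_of_card_ge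
    (hn'.trans (h.normalizer_le hX hXH hn)) (card_stab_eq a b).le).symm

theorem card_opIn_stab (h : Hyp G a b) (p : ℕ) :
    Nat.card (opIn p (stabilizer G a)) = Nat.card (opIn p (stabilizer G b)) := by
  haveI := h.prim.toIsPretransitive
  obtain ⟨g, hg⟩ := exists_smul_eq G a b
  let e := stabilizerEquivStabilizer (G := G) (a := a) (b := b) (g := g) hg.symm
  rw [card_opIn, card_opIn, ← Cores.pCore_map_mulEquiv e]
  exact Nat.card_congr ((Cfsg.pCore p _).equivMapOfInjective _ e.injective).toEquiv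

theorem card_eOf_stab (h : Hyp G a b) :
    Nat.card (eOf (stabilizer G a)) = Nat.card (eOf (stabilizer G b)) := by
  haveI := h.prim.toIsPretransitive
  obtain ⟨g, hg⟩ := exists_smul_eq G a b
  let e := stabilizerEquivStabilizer (G := G) (a := a) (b := b) (g := g) hg.symm
  rw [card_eOf, card_eOf, ← Components.map_layer_equiv e]
  exact Nat.card_congr ((Cfsg.layer _).equivMapOfInjective _ e.injective).toEquiv

/-- If `O_p` of the two-point stabiliser is nontrivial and normal in the stabiliser of `b`,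
it contains `O_p` of the stabiliser of `a`. -/
theorem Hyp.opIn_le_of (h : Hyp G a b) {p : ℕ} [Fact p.Prime]
    (hT : opIn p (stabilizer G a ⊓ stabilizer G b) ≠ ⊥)
    (hn : stabilizer G b ≤
      Subgroup.normalizer (opIn p (stabilizer G a ⊓ stabilizer G b) : Set G)) :
    opIn p (stabilizer G a) ≤ opIn p (stabilizer G a ⊓ stabilizer G b) := by
  set H := stabilizer G a
  set L := stabilizer G b
  set T := opIn p (H ⊓ L) with hTdef
  set U := opIn p H
  have hTH : T ≤ H := (opIn_le p _).trans inf_le_left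
  have hTL : T ≤ L := (opIn_le p _).trans inf_le_right
  set R := U ⊔ T with hR
  have hRp : IsPGroup p R := (isPGroup_opIn H).to_sup_of_normal_left' (isPGroup_opIn _)
    (hTH.trans (le_normalizer_opIn p H))
  have hRH : R ≤ H := sup_le (opIn_le p H) hTH
  have hRn : H ⊓ L ≤ Subgroup.normalizer (R : Set G) :=
    (le_inf (inf_le_left.trans (le_normalizer_opIn p H)) (le_normalizer_opIn p _)).trans
      (Subgroup.normalizer_inf_normalizer_le_normalizer_sup U T)
  have hRD : R ⊓ (H ⊓ L) ≤ T :=
    le_opIn_of_normalized inf_le_right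
      ((le_inf hRn Subgroup.le_normalizer).trans Subgroup.inf_normalizer_le_normalizer_inf)
      (hRp.to_le inf_le_left)
  have hgrow : R ⊓ Subgroup.normalizer (T : Set G) ≤ T := fun x hx =>
    hRD ⟨hx.1, hRH hx.1, h.symm.normalizer_le hT hTL hn hx.2⟩
  refine (le_sup_left : U ≤ R).trans ?_
  by_contra hlt
  haveI := hRp.isNilpotent
  have h1 : T.subgroupOf R < ⊤ := lt_top_iff_ne_top.mpr fun e =>
    hlt (Subgroup.subgroupOf_eq_top.mp e)
  obtain ⟨x, hx, hxT⟩ := SetLike.exists_of_lt
    (Group.normalizerCondition_of_isNilpotent _ h1)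
  refine hxT (hgrow ⟨x.2, ?_⟩)
  have := (Subgroup.le_normalizer_map R.subtype) ⟨x, hx, rfl⟩
  rwa [Components.map_subgroupOf (le_sup_right : T ≤ R)] at this

/-- Wielandt: if `P a b` is not a `p`-group, the stabiliser of `a` has trivial `p`-core. -/
theorem Hyp.opIn_eq_bot (h : Hyp G a b) {p : ℕ} [hp : Fact p.Prime]
    (hP : ¬ IsPGroup p (P a b : Subgroup G)) : opIn p (stabilizer G a) = ⊥ := by
  set H := stabilizer G a
  set L := stabilizer G b
  set X := (Cfsg.pResidual p (P a b : Subgroup G)).map (P a b : Subgroup G).subtype with hX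
  have hXP : X ≤ P a b := Subgroup.map_subtype_le _
  have hX0 : X ≠ ⊥ := by
    intro e
    rw [hX, Subgroup.map_eq_bot_iff_of_injective _ (Subgroup.subtype_injective _)] at e
    exact hP (Cores.pResidual_eq_bot_iff.mp e)
  have hres : Cfsg.pResidual p X = ⊤ := by
    rw [← Fusion.map_pResidual_equiv
      ((Cfsg.pResidual p (P a b : Subgroup G)).equivMapOfInjective _
        (Subgroup.subtype_injective _)), Fusion.pResidual_pResidual_eq_top]
    exact Subgroup.map_top_of_surjective _ (MulEquiv.surjective _)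
  have hXH : X ≤ H := hXP.trans ((P_le_K a b).trans (K_le_fst a b))
  have hHX : H ≤ Subgroup.normalizer (X : Set G) :=
    Components.le_normalizer_map_characteristic _ (le_normalizer_P a b)
  have hNX : Subgroup.normalizer (X : Set G) ≤ H := h.normalizer_le hX0 hXH hHX
  have hXK' : X ≤ K b a := hXP.trans (P_le_K' a b)
  have hK'H : (K b a : Subgroup G) ≤ H := K_le_snd b a
  have hOL : opIn p L ≤ H := (opIn_le_normalizer (hXK'.trans (K_le_fst b a))
    (sn_two hXK' (K_le_fst b a) (hK'H.trans hHX) (le_normalizer_K b a)) hres).trans hNX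
  have hOLD : opIn p L ≤ opIn p (H ⊓ L) :=
    le_opIn_of_normalized (le_inf hOL (opIn_le p L))
      (inf_le_right.trans (le_normalizer_opIn p L)) (isPGroup_opIn L)
  have hfix : opIn p (H ⊓ L) ≤ K b a := by
    intro y hy
    rw [mem_K]
    have hyD := opIn_le p _ hy
    refine ⟨hyD.2, ?_⟩
    rintro _ ⟨⟨l, hl⟩, rfl⟩
    show y • l • a = l • a
    set φ := MulAut.conj l with hφ
    set Xl := X.map φ.toMonoidHom with hXl
    have hK'n : (K b a : Subgroup G).map φ.toMonoidHom ≤ K b a := by
      rintro _ ⟨k, hk, rfl⟩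
      exact (Subgroup.mem_normalizer_iff.mp (le_normalizer_K b a hl) k).mp hk
    have hXlK : Xl ≤ K b a := (Subgroup.map_mono hXK').trans hK'n
    have hKXl : (K b a : Subgroup G) ≤ Subgroup.normalizer (Xl : Set G) := by
      intro k hk
      rw [hXl, ← Subgroup.map_equiv_normalizer_eq]
      refine ⟨l⁻¹ * k * l, hHX (hK'H ?_), by simp [hφ, mul_assoc]⟩
      have := (Subgroup.mem_normalizer_iff.mp (le_normalizer_K b a (inv_mem hl)) k).mp hk
      simpa using this
    have hresl : Cfsg.pResidual p Xl = ⊤ := by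
      rw [← Fusion.map_pResidual_equiv (X.equivMapOfInjective φ.toMonoidHom φ.injective), hres]
      exact Subgroup.map_top_of_surjective _ (MulEquiv.surjective _)
    have hyN := opIn_le_normalizer (L := H ⊓ L) (hXlK.trans (le_inf hK'H (K_le_fst b a)))
      (sn_two hXlK (le_inf hK'H (K_le_fst b a)) hKXl
        (inf_le_right.trans (le_normalizer_K b a))) hresl hy
    rw [hXl, ← Subgroup.map_equiv_normalizer_eq] at hyN
    obtain ⟨z, hz, rfl⟩ := hyN
    have hza : z • a = a := hNX hz
    simp [hφ, mul_smul, hza]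
  have hDL : opIn p (H ⊓ L) ≤ opIn p L :=
    le_opIn ((opIn_le p _).trans inf_le_right)
      (sn_two hfix (K_le_fst b a)
        ((le_inf hK'H (K_le_fst b a)).trans (le_normalizer_opIn p _)) (le_normalizer_K b a))
      (isPGroup_opIn _)
  have heq : opIn p (H ⊓ L) = opIn p L := le_antisymm hDL hOLD
  have hcard := card_opIn_stab h p
  by_contra hne
  have hOL0 : opIn p L ≠ ⊥ := fun e => hne
    (Subgroup.eq_bot_of_card_eq _ (hcard.trans (by rw [e, Subgroup.card_bot])))
  have hle := h.opIn_le_of (heq ▸ hOL0) (heq ▸ le_normalizer_opIn p L)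
  rw [heq] at hle
  have he : opIn p H = opIn p L := Subgroup.eq_of_le_of_card_ge hle hcard.ge
  exact hne (h.eq_bot_of_both (opIn_le p H) (le_normalizer_opIn p H)
    (he ▸ le_normalizer_opIn p L))

/-- If `P b a` is nontrivial, then `E` of the stabiliser of `a` fixes the suborbit. -/
theorem Hyp.eOf_le_K (h : Hyp G a b) (hP : (P b a : Subgroup G) ≠ ⊥) :
    eOf (stabilizer G a) ≤ K a b := by
  have hsn : ((P b a : Subgroup G).subgroupOf (stabilizer G a)).IsSubnormal :=
    sn_two (P_le_K' b a) (K_le_fst a b)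
      ((K_le_snd a b).trans (le_normalizer_P b a)) (le_normalizer_K a b)
  have hL : eOf (stabilizer G a) ≤ stabilizer G b :=
    (eOf_le_normalizer ((P_le_K' b a).trans (K_le_fst a b)) hsn).trans
      (h.symm.normalizer_le hP ((P_le_K b a).trans (K_le_fst b a)) (le_normalizer_P b a))
  intro y hy
  rw [mem_K]
  refine ⟨Subgroup.map_subtype_le _ hy, ?_⟩
  rintro _ ⟨⟨k, hk⟩, rfl⟩
  show y • k • b = k • b
  have hy' : k⁻¹ * y * k ∈ eOf (stabilizer G a) := by
    simpa using (Subgroup.mem_normalizer_iff.mp (le_normalizer_eOf _ (inv_mem hk)) y).mp hy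
  have := mem_stabilizer_iff.mp (hL hy')
  rw [mul_smul, mul_smul, inv_smul_eq_iff] at this
  exact this

/-- The components: if those of the stabiliser of `b` that centralise `K a b` do not exist,
the stabiliser of `a` has no component. -/
theorem Hyp.eOf_eq_bot (h : Hyp G a b) (hP : (P a b : Subgroup G) ≠ ⊥)
    (hP' : (P b a : Subgroup G) ≠ ⊥)
    (hex : ∀ C, Comp (stabilizer G b) C → C ≤ stabilizer G a →
      ⁅C, (K a b : Subgroup G)⁆ = ⊥ → False) :
    eOf (stabilizer G a) = ⊥ := by
  set H := stabilizer G a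
  set L := stabilizer G b
  have hle : eOf L ≤ eOf H := by
    refine eOf_le_iff.mpr fun C hC => ?_
    have hCH : C ≤ H := (hC.le_eOf.trans (h.symm.eOf_le_K hP)).trans (K_le_snd b a)
    have hCD : C ≤ H ⊓ L := le_inf hCH hC.1
    have hsn : (C.subgroupOf (H ⊓ L)).IsSubnormal := by
      have := hC.2.1.comap (Subgroup.inclusion (inf_le_right : H ⊓ L ≤ L))
      exact this
    rcases Components.qs_subnormal_le_or_commutator_eq_bot hC.qs hCD hsn (K_le a b)
      (inf_le_left.trans (le_normalizer_K a b)) with hCK | hCK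
    · refine (Comp.le_eOf (H := H) ⟨hCH, ?_, ?_⟩)
      · have hs : (C.subgroupOf (K a b : Subgroup G)).IsSubnormal :=
          hsn.comap (Subgroup.inclusion (K_le a b))
        have hn : ((K a b : Subgroup G).subgroupOf H).Normal :=
          Subgroup.normal_subgroupOf_of_le_normalizer (le_normalizer_K a b)
        have e : ((C.subgroupOf H).subgroupOf ((K a b : Subgroup G).subgroupOf H)) =
            (C.subgroupOf (K a b : Subgroup G)).comap
              (Subgroup.subgroupOfEquivOfLe (K_le_fst a b)).toMonoidHom := rfl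
        have h2 := hs.comap (Subgroup.subgroupOfEquivOfLe (K_le_fst a b)).toMonoidHom
        rw [← e] at h2
        have h3 := h2.trans' hn.isSubnormal
        rwa [Subgroup.subgroupOf_map_subtype,
          inf_eq_left.mpr (show C.subgroupOf H ≤ (K a b : Subgroup G).subgroupOf H from Subgroup.comap_mono hCK)] at h3
      · exact Components.qs_congr (Subgroup.subgroupOfEquivOfLe hCH).symm hC.qs
    · exact (hex C hC hCH hCK).elim
  have he : eOf L = eOf H := Subgroup.eq_of_le_of_card_ge hle (card_eOf_stab h).le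
  exact h.eq_bot_of_both (Subgroup.map_subtype_le _) (le_normalizer_eOf H)
    (he ▸ le_normalizer_eOf L)

theorem fitting_eq_pCore {H : Type*} [Group H] [Finite H] {p : ℕ} [Fact p.Prime]
    (h : ∀ q : ℕ, q.Prime → q ≠ p → Cfsg.pCore q H = ⊥) :
    Cfsg.fittingSubgroup H = Cfsg.pCore p H := by
  refine le_antisymm ?_ (Components.pCore_le_fitting p)
  rw [Components.fitting_eq_iSup_pCore]
  refine iSup_le fun q => ?_
  by_cases hq : (q : ℕ) = p
  · rw [hq]
  · rw [h _ (Nat.prime_of_mem_primeFactors q.2) hq]; exact bot_le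

theorem fitting_eq_bot {H : Type*} [Group H] [Finite H]
    (h : ∀ q : ℕ, q.Prime → Cfsg.pCore q H = ⊥) : Cfsg.fittingSubgroup H = ⊥ := by
  rw [Components.fitting_eq_iSup_pCore, iSup_eq_bot]
  exact fun q => h _ (Nat.prime_of_mem_primeFactors q.2)

theorem pCore_eq_bot_of_opIn {p : ℕ} {H : Subgroup G} (h : opIn p H = ⊥) :
    Cfsg.pCore p H = ⊥ :=
  (Subgroup.map_eq_bot_iff_of_injective _ H.subtype_injective).mp h

theorem Hyp.commute_eOf (h : Hyp G a b) (hP' : (P b a : Subgroup G) ≠ ⊥) {C : Subgroup G}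
    (hCK : ⁅C, (K a b : Subgroup G)⁆ = ⊥) :
    ∀ e ∈ Cfsg.layer (stabilizer G a), ∀ c ∈ C, c * (e : G) = e * c := fun e he _ hc =>
  Components.commute_of_commutator_eq_bot hCK hc
    (h.eOf_le_K hP' ⟨e, he, rfl⟩)

/-- If `P a b` has no prime-power order then `P b a` is trivial. -/
theorem Hyp.P_eq_bot (h : Hyp G a b)
    (hP : ∀ p : ℕ, p.Prime → ¬ IsPGroup p (P a b : Subgroup G)) :
    (P b a : Subgroup G) = ⊥ := by
  by_contra hP'
  have hF : Cfsg.fittingSubgroup (stabilizer G a) = ⊥ := fitting_eq_bot fun q hq =>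
    haveI := Fact.mk hq
    pCore_eq_bot_of_opIn (h.opIn_eq_bot (hP q hq))
  have hP0 : (P a b : Subgroup G) ≠ ⊥ := fun e => hP 2 Nat.prime_two (e ▸ IsPGroup.of_bot)
  have hE := h.eOf_eq_bot hP0 hP' fun C hC hCH hCK =>
    qs_false hC.qs hCH (h.commute_eOf hP' hCK) (fun e he c _ => by
      rw [hF, Subgroup.mem_bot] at he; subst he; simp)
  have hgen : Cfsg.generalizedFittingSubgroup (stabilizer G a) = ⊥ := by
    rw [Components.genFitting_eq_sup, hF, sup_bot_eq]
    exact (Subgroup.map_eq_bot_iff_of_injective _ (Subgroup.subtype_injective _)).mp hE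
  have h1 := Components.centralizer_genFitting_le (G := stabilizer G a)
  rw [hgen] at h1
  refine h.nt ((Subgroup.eq_bot_iff_forall _).mpr fun x hx => ?_)
  have := h1 (x := ⟨x, hx⟩) (by simp [Subgroup.mem_centralizer_iff])
  exact congrArg Subtype.val (Subgroup.mem_bot.mp this)

end

section Index

variable [Finite G] {a b : Ω}

theorem card_orbit_symm [IsPretransitive G Ω] (a b : Ω) :
    Nat.card (orbit (stabilizer G a) b) = Nat.card (orbit (stabilizer G b) a) := by
  have key : ∀ x y : Ω, Nat.card (orbit (stabilizer G x) y) *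
      Nat.card (stabilizer G x ⊓ stabilizer G y : Subgroup G) = Nat.card (stabilizer G x) := by
    intro x y
    have hs : stabilizer (stabilizer G x) y = (stabilizer G y).subgroupOf (stabilizer G x) := by
      ext; rfl
    rw [Nat.card_coe_set_eq, ← index_stabilizer, hs, ← Subgroup.card_mul_index
      ((stabilizer G y).subgroupOf (stabilizer G x)), mul_comm, ← Subgroup.inf_subgroupOf_left,
      Nat.card_congr (Subgroup.subgroupOfEquivOfLe
        (inf_le_left : stabilizer G x ⊓ stabilizer G y ≤ _)).toEquiv]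
  have h1 := key a b
  rw [card_stab_eq a b, ← key b a, inf_comm] at h1
  exact Nat.eq_of_mul_eq_mul_right Nat.card_pos h1

theorem relIndex_K_dvd {d : ℕ} [Finite Ω] (hd : Nat.card (orbit (stabilizer G a) b) = d) :
    (K a b : Subgroup G).relIndex (stabilizer G a) ∣ Nat.factorial d := by
  set H := stabilizer G a
  have hker : (K a b : Subgroup G).subgroupOf H = (toPermHom H (orbit H b)).ker := by
    ext k
    rw [Subgroup.mem_subgroupOf, mem_K, MonoidHom.mem_ker, Equiv.Perm.ext_iff]
    constructor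
    · exact fun hk x => Subtype.ext (hk.2 x x.2)
    · exact fun hk => ⟨k.2, fun x hx => congrArg Subtype.val (hk ⟨x, hx⟩)⟩
  show ((K a b : Subgroup G).subgroupOf H).index ∣ _
  rw [hker, Subgroup.index_ker, ← hd, ← Nat.card_perm]
  exact Subgroup.card_subgroup_dvd_card _

/-- The restriction of a subgroup to an invariant set. -/
def restrictHom (A : Subgroup G) (S : Set Ω) (hS : ∀ k ∈ A, ∀ x, (k • x ∈ S ↔ x ∈ S)) :
    A →* Equiv.Perm S where
  toFun k := (MulAction.toPerm (k : G)).subtypePerm (fun x => hS k k.2 x)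
  map_one' := by ext; simp
  map_mul' k l := by ext; exact mul_smul (k : G) (l : G) _

theorem relIndex_P_dvd [IsPretransitive G Ω] [Finite Ω] {d : ℕ}
    (hd : Nat.card (orbit (stabilizer G a) b) = d) :
    (P a b : Subgroup G).relIndex (K a b) ∣ (Nat.factorial (d - 1)) ^ d := by
  set Δ := orbit (stabilizer G a) b
  let S : Δ → Set Ω := fun c => orbit (stabilizer G (c : Ω)) a \ {a}
  have hS : ∀ c : Δ, ∀ k ∈ (K a b : Subgroup G), ∀ x, (k • x ∈ S c ↔ x ∈ S c) := by
    intro c k hk x
    rw [mem_K] at hk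
    have hkc : k ∈ stabilizer G (c : Ω) := hk.2 c c.2
    have h1 : k • x ∈ orbit (stabilizer G (c : Ω)) a ↔ x ∈ orbit (stabilizer G (c : Ω)) a := by
      rw [← orbit_eq_iff, ← orbit_eq_iff]
      exact Eq.congr_left (orbit_eq_iff.mpr ⟨⟨k, hkc⟩, rfl⟩)
    have h2 : k • x = a ↔ x = a := by
      conv_lhs => rw [← hk.1]
      exact smul_left_cancel_iff k
    exact and_congr h1 (not_congr h2)
  let Φ := MonoidHom.pi fun c : Δ => restrictHom (K a b : Subgroup G) (S c) (hS c)
  have hker : (P a b : Subgroup G).subgroupOf (K a b) = Φ.ker := by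
    ext k
    rw [Subgroup.mem_subgroupOf, mem_P, MonoidHom.mem_ker, funext_iff]
    constructor
    · intro hk c
      refine Equiv.Perm.ext fun x => Subtype.ext ?_
      exact (mem_K.mp (hk.2 c c.2)).2 x x.2.1
    · intro hk
      refine ⟨k.2, fun c hc => mem_K.mpr ⟨(mem_K.mp k.2).2 c hc, fun x hx => ?_⟩⟩
      by_cases hxa : x = a
      · subst hxa; exact (mem_K.mp k.2).1
      · exact congrArg Subtype.val (DFunLike.congr_fun (hk ⟨c, hc⟩) ⟨x, hx, hxa⟩)
  have hcard : ∀ c : Δ, Nat.card (S c) = d - 1 := by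
    intro c
    have h := card_orbit_symm (G := G) a (c : Ω)
    rw [show orbit (stabilizer G a) (c : Ω) = Δ from orbit_eq_iff.mpr c.2, hd] at h
    rw [Nat.card_coe_set_eq, Set.ncard_sdiff_singleton_of_mem (mem_orbit_self a),
      ← Nat.card_coe_set_eq, ← h]
  show ((P a b : Subgroup G).subgroupOf (K a b)).index ∣ _
  rw [hker, Subgroup.index_ker]
  refine (Subgroup.card_subgroup_dvd_card _).trans (dvd_of_eq ?_)
  haveI : Fintype Δ := Fintype.ofFinite _
  rw [Nat.card_pi, Finset.prod_congr rfl fun c _ => by rw [Nat.card_perm, hcard],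
    Finset.prod_const, Finset.card_univ, ← Nat.card_eq_fintype_card, hd]

theorem relIndex_dvd [IsPretransitive G Ω] [Finite Ω] {d : ℕ}
    (hd : Nat.card (orbit (stabilizer G a) b) = d) :
    (P a b : Subgroup G).relIndex (stabilizer G a) ∣
      Nat.factorial d * (Nat.factorial (d - 1)) ^ d := by
  rw [← Subgroup.relIndex_mul_relIndex _ _ _ (P_le_K a b) (K_le_fst a b), mul_comm]
  exact mul_dvd_mul (relIndex_K_dvd hd) (relIndex_P_dvd hd)

theorem card_stab_dvd [IsPretransitive G Ω] [Finite Ω] {d : ℕ}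
    (hd : Nat.card (orbit (stabilizer G a) b) = d)
    (hP : (P a b : Subgroup G) = ⊥ ∨ (P b a : Subgroup G) = ⊥) :
    Nat.card (stabilizer G a) ∣ Nat.factorial d * (Nat.factorial (d - 1)) ^ d := by
  rcases hP with e | e
  · have := relIndex_dvd (G := G) hd
    rwa [e, Subgroup.relIndex_bot_left] at this
  · rw [card_orbit_symm a b] at hd
    have := relIndex_dvd (G := G) hd
    rwa [e, Subgroup.relIndex_bot_left, ← card_stab_eq a b] at this

end Index

end Cfsg.Agent.H70.Wielandt
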