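import Cfsg.Agent.H70.FpfSum

/-! Facts for lifting elements of a group with a Frobenius quotient (`S3703`). -/

set_option autoImplicit false

namespace Cfsg.Agent.H70

open Subgroup

variable {G : Type*} [Group G]

theorem card_dvd_of_forall_sylow [Finite G] {D E : Subgroup G} (hDE : D ≤ E)
    (h : ∀ p : ℕ, p.Prime → p ∣ Nat.card E →
      ∃ P : Sylow p E, (P : Subgroup E).map E.subtype ≤ D) : E ≤ D := by
  refine (Subgroup.eq_of_le_of_card_ge hDE (Nat.le_of_dvd Nat.card_pos ?_)).ge
  rw [Nat.dvd_iff_prime_pow_dvd_dvd]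
  intro p k hp hk
  have := Fact.mk hp
  rcases Nat.eq_zero_or_pos k with rfl | hk0
  · simp
  obtain ⟨P, hP⟩ := h p hp ((dvd_pow_self p hk0.ne').trans hk)
  calc p ^ k ∣ Nat.card (P : Subgroup E) := P.pow_dvd_card_of_pow_dvd_card hk
    _ = Nat.card ((P : Subgroup E).map E.subtype) :=
        (Subgroup.card_map_of_injective E.subtype_injective).symm
    _ ∣ Nat.card D := Subgroup.card_dvd_of_le hP

/-- The elementary induction along derived subgroups. -/
theorem centralizes_pGroup [Finite G] {p l : ℕ} [Fact p.Prime] (hlp : l.Coprime p)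
    (L : Subgroup G) (hL : IsPGroup l L) (x : G) (m : ℕ) (hm : 0 < m)
    (hxL : ∀ y ∈ L, x * y * x⁻¹ ∈ L)
    (hfpf : ∀ i, 0 < i → i < m → ∀ y ∈ L, x ^ i * y * (x ^ i)⁻¹ = y → y = 1) :
    ∀ W : Subgroup G, IsPGroup p W → L ≤ normalizer (W : Set G) → x ∈ normalizer (W : Set G) →
      (∀ w ∈ W, (w * x) ^ m = x ^ m) → W ≤ centralizer (L : Set G) := by
  intro W
  induction hn : Nat.card W using Nat.strong_induction_on generalizing W with
  | _ n ih =>
  subst hn
  intro hW hLW hxW hnorm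
  rcases eq_or_ne W ⊥ with rfl | hWne
  · exact bot_le
  set D : Subgroup G := ⁅W, W⁆ with hD
  have hDW : D ≤ W := Subgroup.commutator_le.mpr fun a ha b hb => by
    rw [commutatorElement_def]
    exact mul_mem (mul_mem (mul_mem ha hb) (inv_mem ha)) (inv_mem hb)
  have hNle : normalizer (W : Set G) ≤ normalizer (D : Set G) := by
    intro g hg
    rw [mem_normalizer_iff]
    have key : ∀ g ∈ normalizer (W : Set G), ∀ d ∈ D, g * d * g⁻¹ ∈ D := by
      intro g hg d hd
      have hmap : W.map (MulAut.conj g).toMonoidHom = W := by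
        ext w
        rw [Subgroup.mem_map]
        constructor
        · rintro ⟨v, hv, rfl⟩; simpa using (mem_normalizer_iff.mp hg v).mp hv
        · intro hw
          exact ⟨g⁻¹ * w * g, (mem_normalizer_iff.mp hg _).mpr (by simpa [mul_assoc] using hw), by
            simp [mul_assoc]⟩
      have hd' := Subgroup.mem_map_of_mem (MulAut.conj g).toMonoidHom hd
      rw [hD, Subgroup.map_commutator, hmap] at hd'
      simpa using hd'
    intro d
    refine ⟨key g hg d, fun h => ?_⟩
    have := key g⁻¹ (inv_mem hg) _ h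
    simpa [mul_assoc] using this
  have hDlt : D ≠ W := by
    intro e
    have hsol : Group.IsSolvable W := by
      have := hW.isNilpotent
      infer_instance
    have : Nontrivial W := (nontrivial_iff_ne_bot W).mpr hWne
    apply (Group.IsSolvable.commutator_lt_top_of_nontrivial W).ne
    apply Subgroup.map_injective W.subtype_injective
    rw [Subgroup.map_subtype_commutator, ← MonoidHom.range_eq_map, Subgroup.range_subtype]
    exact e
  have hDL : D ≤ centralizer (L : Set G) :=
    ih _ (by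
      refine lt_of_le_of_ne (Subgroup.card_le_of_le hDW) fun e => hDlt ?_
      exact Subgroup.eq_of_le_of_card_ge hDW e.ge) D rfl (hW.to_le hDW) (hLW.trans hNle)
      (hNle hxW) (fun w hw => hnorm w (hDW hw))
  set K : Subgroup G := normalizer (D : Set G)
  let N := D.subgroupOf K
  have : N.Normal := Subgroup.normal_in_normalizer
  let φ := QuotientGroup.mk' N
  have hWK : W ≤ K := (Subgroup.le_normalizer).trans hNle
  have hLK : L ≤ K := hLW.trans hNle
  let V := (W.subgroupOf K).map φ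
  let Q := (L.subgroupOf K).map φ
  let x' : K ⧸ N := φ ⟨x, hNle hxW⟩
  have hinj : ∀ y z : K, (y : G) ∈ L → (z : G) ∈ L → φ y = φ z → y = z := by
    intro y z hy hz e
    have h1 : (y⁻¹ * z : K) ∈ N := (QuotientGroup.eq).mp e
    have h2 : ((y : G)⁻¹ * z) ∈ D := by simpa [N, mem_subgroupOf] using h1
    have h3 : (y : G)⁻¹ * z = 1 := by
      have ho1 := (hW.to_le hDW) ⟨_, h2⟩
      have ho2 := hL ⟨_, mul_mem (inv_mem hy) hz⟩
      obtain ⟨a, ha⟩ := ho1
      obtain ⟨b, hb⟩ := ho2
      have d1 := orderOf_dvd_of_pow_eq_one (congrArg Subtype.val ha)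
      have d2 := orderOf_dvd_of_pow_eq_one (congrArg Subtype.val hb)
      exact orderOf_eq_one_iff.mp (Nat.eq_one_of_dvd_coprimes (Nat.Coprime.pow b a hlp) d2 d1)
    exact Subtype.ext (inv_mul_eq_one.mp h3)
  have hVp : IsPGroup p V :=
    (hW.comap_of_injective K.subtype K.subtype_injective).map φ
  have hQp : IsPGroup l Q :=
    (hL.comap_of_injective K.subtype K.subtype_injective).map φ
  have hco : (Nat.card Q).Coprime (Nat.card V) := by
    apply Nat.coprime_of_dvd
    intro r hr hrQ hrV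
    have := Fact.mk hr
    obtain ⟨y, hy⟩ := exists_prime_orderOf_dvd_card' r hrQ
    obtain ⟨z, hz⟩ := exists_prime_orderOf_dvd_card' r hrV
    obtain ⟨a, ha⟩ := hQp y
    obtain ⟨b, hb⟩ := hVp z
    have d1 := orderOf_dvd_of_pow_eq_one ha
    have d2 := orderOf_dvd_of_pow_eq_one hb
    rw [hy] at d1; rw [hz] at d2
    exact hr.ne_one (Nat.eq_one_of_dvd_coprimes (Nat.Coprime.pow a b hlp) d1 d2)
  have hVc : IsMulCommutative V := by
    refine ⟨⟨?_⟩⟩
    rintro ⟨_, a, ha, rfl⟩ ⟨_, b, hb, rfl⟩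
    apply Subtype.ext
    show φ a * φ b = φ b * φ a
    rw [← map_mul, ← map_mul]
    apply (QuotientGroup.eq).mpr
    rw [mem_subgroupOf]
    have := Subgroup.commutator_mem_commutator (inv_mem (mem_subgroupOf.mp hb)) (inv_mem (mem_subgroupOf.mp ha))
    rw [commutatorElement_def] at this
    simpa [mul_assoc] using this
  have hQV : Q ≤ normalizer (V : Set (K ⧸ N)) := by
    refine le_trans (Subgroup.map_mono ?_) (Subgroup.le_normalizer_map φ)
    intro y hy
    rw [mem_normalizer_iff]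
    intro w
    simpa [mem_subgroupOf] using mem_normalizer_iff.mp (hLW (mem_subgroupOf.mp hy)) (w : G)
  have hxV : x' ∈ normalizer (V : Set (K ⧸ N)) := by
    apply Subgroup.le_normalizer_map φ
    refine ⟨_, ?_, rfl⟩
    show (⟨x, hNle hxW⟩ : K) ∈ normalizer ((W.subgroupOf K) : Set K)
    rw [mem_normalizer_iff]
    intro w
    simpa [mem_subgroupOf] using mem_normalizer_iff.mp hxW (w : G)
  have hxQ : ∀ y ∈ Q, x' * y * x'⁻¹ ∈ Q := by
    rintro _ ⟨y, hy, rfl⟩
    exact ⟨⟨x, hNle hxW⟩ * y * ⟨x, hNle hxW⟩⁻¹, by simpa [mem_subgroupOf] using hxL _ (mem_subgroupOf.mp hy),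
      by simp [x']⟩
  have hxpowL : ∀ (i : ℕ), ∀ y ∈ L, x ^ i * y * (x ^ i)⁻¹ ∈ L := by
    intro i
    induction i with
    | zero => intro y hy; simpa using hy
    | succ i ih' =>
      intro y hy
      have h := hxL _ (ih' y hy)
      convert h using 1
      rw [pow_succ']; group
  have hfpf' : ∀ i, 0 < i → i < m → ∀ y ∈ Q, x' ^ i * y * (x' ^ i)⁻¹ = y → y = 1 := by
    rintro i hi hi' _ ⟨y, hy, rfl⟩ e
    have e' : φ (⟨x, hNle hxW⟩ ^ i * y * (⟨x, hNle hxW⟩ ^ i)⁻¹) = φ y := by
      simp only [map_mul, map_inv, map_pow]; exact e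
    have h1 := hinj _ y (by simpa using hxpowL i _ (mem_subgroupOf.mp hy)) (mem_subgroupOf.mp hy) e'
    have h2 := hfpf i hi hi' _ (mem_subgroupOf.mp hy) (by simpa using congrArg Subtype.val h1)
    rw [show y = 1 from Subtype.ext h2, map_one]
  have hnorm' : ∀ v ∈ V, (v * x') ^ m = x' ^ m := by
    rintro _ ⟨w, hw, rfl⟩
    show (φ w * φ ⟨x, hNle hxW⟩) ^ m = φ ⟨x, hNle hxW⟩ ^ m
    rw [← map_mul, ← map_pow, ← map_pow]
    congr 1
    exact Subtype.ext (by simpa using hnorm _ (mem_subgroupOf.mp hw))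
  intro w hw z hz
  have hcomm := commute_of_trivial_norm V Q hVc hQV x' hxV hco m hm hxQ hfpf' hnorm'
    (φ ⟨z, hLK hz⟩) (mem_map_of_mem φ (mem_subgroupOf.mpr hz))
    (φ ⟨w, hWK hw⟩) (mem_map_of_mem φ (mem_subgroupOf.mpr hw))
  set u := z * w * z⁻¹ * w⁻¹ with hu
  have huD : u ∈ D := by
    have e : φ (⟨z, hLK hz⟩ * ⟨w, hWK hw⟩ * ⟨z, hLK hz⟩⁻¹ * ⟨w, hWK hw⟩⁻¹) = 1 := by
      simp only [map_mul, map_inv]
      rw [hcomm]; group
    exact mem_subgroupOf.mp ((QuotientGroup.eq_one_iff _).mp e)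
  have hzu : z * u = u * z := hDL huD z hz
  have hzw : z * w = u * w * z := by rw [hu]; group
  have hk : ∀ k : ℕ, z ^ k * w = u ^ k * w * z ^ k := by
    intro k
    induction k with
    | zero => simp
    | succ k ih' =>
      have hc : z * u ^ k = u ^ k * z := (show Commute z u from hzu).pow_right k
      calc z ^ (k + 1) * w = z * (z ^ k * w) := by rw [pow_succ', mul_assoc]
        _ = (z * u ^ k) * (w * z ^ k) := by rw [ih']; group
        _ = u ^ k * (z * w) * z ^ k := by rw [hc]; group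
        _ = u ^ (k + 1) * w * z ^ (k + 1) := by rw [hzw, pow_succ, pow_succ']; group
  have hu1 : u = 1 := by
    obtain ⟨a, ha⟩ := hW ⟨u, hDW huD⟩
    obtain ⟨b, hb⟩ := hL ⟨z, hz⟩
    have hb' : z ^ l ^ b = 1 := congrArg Subtype.val hb
    have h := hk (l ^ b)
    rw [hb'] at h
    simp at h
    have d1 := orderOf_dvd_of_pow_eq_one (congrArg Subtype.val ha : u ^ p ^ a = 1)
    exact orderOf_eq_one_iff.mp
      (Nat.eq_one_of_dvd_coprimes (Nat.Coprime.pow b a hlp) (orderOf_dvd_of_pow_eq_one h) d1)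
  rw [hzw, hu1, one_mul]

end Cfsg.Agent.H70
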