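import Mathlib

/-! An averaging argument: if `x` acts fixed-point-freely on a finite subgroup `Q` and has trivial
norm on an abelian group `V` on which both act, then `Q` fixes `V` pointwise in the coprime case. -/

set_option autoImplicit false

namespace Cfsg.Agent.H70

open Finset

section Abstract

variable {M V : Type*} [Group M] [CommGroup V] [MulDistribMulAction M V]

theorem pow_card_eq_prod (Q : Subgroup M) [Fintype Q] (x : M) (m : ℕ) (hm : 0 < m)
    (hxQ : ∀ y ∈ Q, x * y * x⁻¹ ∈ Q)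
    (hfpf : ∀ i, 0 < i → i < m → ∀ y ∈ Q, x ^ i * y * (x ^ i)⁻¹ = y → y = 1)
    (hnorm : ∀ v : V, ∏ i ∈ range m, (x ^ i) • v = 1) (v : V) :
    v ^ Fintype.card Q = ∏ y : Q, (y : M) • v := by
  have hpow : ∀ (i : ℕ), ∀ y ∈ Q, x ^ i * y * (x ^ i)⁻¹ ∈ Q := by
    intro i
    induction i with
    | zero => intro y hy; simpa using hy
    | succ i ih =>
      intro y hy
      have := hxQ _ (ih y hy)
      convert this using 1
      rw [pow_succ']; group
  have h1 : ∀ y : Q, ∏ i ∈ range m, ((y : M) * x ^ i * (y : M)⁻¹) • v = 1 := fun y => by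
    have := congrArg ((y : M) • ·) (hnorm ((y : M)⁻¹ • v))
    simpa [Finset.smul_prod', smul_one, smul_smul, mul_assoc] using this
  have h2 : ∏ i ∈ range m, ∏ y : Q, ((y : M) * x ^ i * (y : M)⁻¹) • v = 1 := by
    rw [Finset.prod_comm]; exact Finset.prod_eq_one fun y _ => h1 y
  obtain ⟨k, rfl⟩ : ∃ k, m = k + 1 := ⟨m - 1, by omega⟩
  rw [prod_range_succ'] at h2
  have h3 : ∀ i ∈ range k, ∏ y : Q, ((y : M) * x ^ (i + 1) * (y : M)⁻¹) • v
      = ∏ z : Q, (z : M) • ((x ^ (i + 1)) • v) := by
    intro i hi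
    rw [mem_range] at hi
    let e : Q → Q := fun y => ⟨(y : M) * (x ^ (i + 1) * (y : M)⁻¹ * (x ^ (i + 1))⁻¹),
      mul_mem y.2 (hpow _ _ (inv_mem y.2))⟩
    have einj : Function.Injective e := by
      intro a b h
      have h' : (a : M) * x ^ (i + 1) * (a : M)⁻¹ = (b : M) * x ^ (i + 1) * (b : M)⁻¹ := by
        simpa [e, ← mul_assoc] using congrArg Subtype.val h
      have := hfpf (i + 1) (by omega) (by omega) _ (mul_mem (inv_mem b.2) a.2) (by
        have h'' := congrArg (fun z => (b : M)⁻¹ * z * (a : M)) h'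
        simp only [mul_assoc, inv_mul_cancel, mul_one, inv_mul_cancel_left] at h''
        rw [mul_inv_eq_iff_eq_mul, mul_assoc, ← h'']
        )
      exact Subtype.ext (inv_mul_eq_one.mp this).symm
    have ebij := Finite.injective_iff_bijective.mp einj
    refine Fintype.prod_bijective e ebij _ _ fun y => ?_
    rw [smul_smul]
    simp [e, mul_assoc]
  rw [Finset.prod_congr rfl h3, Finset.prod_comm] at h2
  have h4 : ∀ z : Q, ∏ i ∈ range k, (z : M) • ((x ^ (i + 1)) • v) = ((z : M) • v)⁻¹ := fun z => by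
    rw [← Finset.smul_prod']
    have := hnorm v
    rw [prod_range_succ', pow_zero, one_smul] at this
    rw [eq_inv_of_mul_eq_one_left this, smul_inv']
  rw [Finset.prod_congr rfl fun z _ => h4 z, Finset.prod_inv_distrib, inv_mul_eq_one] at h2
  simpa using h2.symm

theorem smul_eq_of_trivial_norm (Q : Subgroup M) [Finite Q] [Finite V]
    (hco : (Nat.card Q).Coprime (Nat.card V)) (x : M) (m : ℕ) (hm : 0 < m)
    (hxQ : ∀ y ∈ Q, x * y * x⁻¹ ∈ Q)
    (hfpf : ∀ i, 0 < i → i < m → ∀ y ∈ Q, x ^ i * y * (x ^ i)⁻¹ = y → y = 1)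
    (hnorm : ∀ v : V, ∏ i ∈ range m, (x ^ i) • v = 1) (z : Q) (v : V) : (z : M) • v = v := by
  classical
  have : Fintype Q := Fintype.ofFinite Q
  have hinj : Function.Injective (fun v : V => v ^ Nat.card Q) :=
    (powCoprime (G := V) hco.symm).injective
  apply hinj
  show ((z : M) • v) ^ Nat.card Q = v ^ Nat.card Q
  rw [← smul_pow']
  rw [Nat.card_eq_fintype_card, pow_card_eq_prod Q x m hm hxQ hfpf hnorm v, Finset.smul_prod']
  simp only [smul_smul]
  exact Fintype.prod_equiv (Equiv.mulLeft z) _ _ fun y => rfl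

end Abstract

/-- The form used in groups: `V` abelian normalised by `Q` and `x`, `x` acts fixed-point-freely on `Q`
below exponent `m`, and every `v * x` has the same `m`-th power as `x`. -/
theorem commute_of_trivial_norm {G : Type*} [Group G] (V Q : Subgroup G) [Finite V] [Finite Q]
    (hV : IsMulCommutative V) (hQV : Q ≤ Subgroup.normalizer (V : Set G)) (x : G)
    (hxV : x ∈ Subgroup.normalizer (V : Set G))
    (hco : (Nat.card Q).Coprime (Nat.card V)) (m : ℕ) (hm : 0 < m)
    (hxQ : ∀ y ∈ Q, x * y * x⁻¹ ∈ Q)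
    (hfpf : ∀ i, 0 < i → i < m → ∀ y ∈ Q, x ^ i * y * (x ^ i)⁻¹ = y → y = 1)
    (hnorm : ∀ v ∈ V, (v * x) ^ m = x ^ m) (z : G) (hz : z ∈ Q) (v : G) (hv : v ∈ V) :
    z * v = v * z := by
  classical
  let N : Subgroup G := Subgroup.normalizer (V : Set G)
  letI : CommGroup V := { (inferInstance : Group V) with mul_comm := fun a b => hV.is_comm.comm a b }
  letI : MulDistribMulAction N V :=
    { smul := fun g v => ⟨(g : G) * v * (g : G)⁻¹,
        (Subgroup.mem_normalizer_iff.mp g.2 v).mp v.2⟩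
      one_smul := fun v => Subtype.ext (by show (1 : G) * v * (1 : G)⁻¹ = v; simp)
      mul_smul := fun g h v => Subtype.ext (by
        show (g : G) * h * v * ((g : G) * h)⁻¹ = g * (h * v * (h : G)⁻¹) * (g : G)⁻¹
        group)
      smul_mul := fun g v w => Subtype.ext (by
        show (g : G) * (v * w) * (g : G)⁻¹ = g * v * (g : G)⁻¹ * (g * w * (g : G)⁻¹)
        group)
      smul_one := fun g => Subtype.ext (by show (g : G) * 1 * (g : G)⁻¹ = 1; simp) }
  have hsmul : ∀ (g : N) (w : V), ((g • w : V) : G) = g * w * (g : G)⁻¹ := fun g w => rfl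
  let x' : N := ⟨x, hxV⟩
  have hP : ∀ (w : V) (k : ℕ),
      ((w : G) * x) ^ k = ((∏ i ∈ range k, (x' ^ i) • w : V) : G) * x ^ k := by
    intro w k
    induction k with
    | zero => simp
    | succ k ih =>
      have e : (∏ i ∈ range (k + 1), (x' ^ i) • w) = w * x' • ∏ i ∈ range k, (x' ^ i) • w := by
        rw [prod_range_succ', pow_zero, one_smul, mul_comm, Finset.smul_prod']
        simp only [smul_smul, ← pow_succ']
      rw [pow_succ', ih, e, Subgroup.coe_mul, hsmul]
      show (w : G) * x * _ = (w : G) * (x * _ * x⁻¹) * x ^ (k + 1)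
      rw [pow_succ']; group
  have hco' : (Nat.card (Q.subgroupOf N)).Coprime (Nat.card V) := by
    rwa [Nat.card_congr (Subgroup.subgroupOfEquivOfLe hQV).toEquiv]
  have : Finite (Q.subgroupOf N) := Finite.of_equiv _ (Subgroup.subgroupOfEquivOfLe hQV).toEquiv.symm
  have key := smul_eq_of_trivial_norm (Q.subgroupOf N) hco' x' m hm
    (fun y hy => by simpa [Subgroup.mem_subgroupOf, x'] using hxQ _ hy)
    (fun i hi hi' y hy e => by
      apply Subtype.ext
      exact hfpf i hi hi' _ hy (by simpa [x'] using congrArg Subtype.val e))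
    (fun w => by
      have h := (hP w m).symm.trans (hnorm w w.2)
      exact Subtype.ext (mul_eq_right.mp h))
    ⟨⟨z, hQV hz⟩, hz⟩ ⟨v, hv⟩
  have := congrArg Subtype.val key
  rw [hsmul] at this
  exact mul_inv_eq_iff_eq_mul.mp this

end Cfsg.Agent.H70
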