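import Cfsg.Agent.H66.AltFive
import Mathlib

/-!
# Extensions of a four-dimensional natural module by `A₅`

`Data G` records a normal elementary abelian 2-subgroup `N` with a complement isomorphic to `A₅` in
which elements of order three and five act without fixed points.  Such a group contains a copy of
the natural module; when this copy is all of `N`, the group is determined up to isomorphism.
-/

set_option autoImplicit false
set_option linter.unusedSectionVars false
set_option linter.style.haveILetI false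

namespace Cfsg.Agent.H70.AffA5

open Equiv

/-- The alternating group of degree five. -/
abbrev A5 := alternatingGroup (Fin 5)

/-- `(0 1)(2 3)` -/
def pa : A5 := ⟨swap 0 1 * swap 2 3, Perm.mem_alternatingGroup.mpr (by decide)⟩
/-- `(0 1 2)` -/
def pc : A5 := ⟨swap 0 1 * swap 1 2, Perm.mem_alternatingGroup.mpr (by decide)⟩
/-- `(0 1)(3 4)` -/
def pu : A5 := ⟨swap 0 1 * swap 3 4, Perm.mem_alternatingGroup.mpr (by decide)⟩
/-- the conjugate of `(0 1)(2 3)` by `(0 1 2)⁻¹` -/
def pa' : A5 := pc⁻¹ * pa * pc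

theorem pa_sq : pa * pa = 1 := by decide +kernel
theorem pu_sq : pu * pu = 1 := by decide +kernel
theorem pa'_sq : pa' * pa' = 1 := by decide +kernel
theorem pa'_comm : pa * pa' = pa' * pa := by decide +kernel
theorem pc_eq_inv : pc * pc * pc = 1 := by decide +kernel
theorem pu_pc_pu : pu * pc * pu = pc * pc := by decide +kernel
theorem pc_pu_pc : pc * pu * pc = pu := by decide +kernel
theorem orderOf_pc : orderOf pc = 3 :=
  orderOf_eq_prime (hp := ⟨Nat.prime_three⟩) (by decide) (by decide)
theorem orderOf_pa_pu : orderOf (pa * pu) = 3 :=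
  orderOf_eq_prime (hp := ⟨Nat.prime_three⟩) (by decide) (by decide)
theorem pa_conj : pa * pc = pc * pa' := by decide +kernel
theorem pc_word : pc = pu * pa * pu * pa' * (pu * pa' * pu) * pa := by decide +kernel
theorem x5_word : H66.x5 = pa * pc * pa := by decide +kernel
theorem y5_word : H66.y5 = pc * pa * pu := by decide +kernel

theorem closure_eq_top (S : Subgroup A5) (ha : pa ∈ S) (hc : pc ∈ S) (hu : pu ∈ S) : S = ⊤ := by
  rw [eq_top_iff, ← H66.closure_x5_y5, Subgroup.closure_le]
  rintro x (rfl | rfl)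
  · rw [x5_word]; exact S.mul_mem (S.mul_mem ha hc) ha
  · rw [y5_word]; exact S.mul_mem (S.mul_mem hc ha) hu

/-- The module data. -/
structure Data (G : Type*) [Group G] where
  N : Subgroup G
  normal : N.Normal
  comm : ∀ a ∈ N, ∀ b ∈ N, a * b = b * a
  sq : ∀ a ∈ N, a * a = 1
  nontriv : N ≠ ⊥
  ι : A5 →* G
  meet : ∀ k : A5, ι k ∈ N → k = 1
  join : ∀ g : G, ∃ n ∈ N, ∃ k : A5, g = n * ι k
  fpf : ∀ k : A5, orderOf k = 3 ∨ orderOf k = 5 → ∀ n ∈ N, Commute n (ι k) → n = 1

/-- Index vectors. -/
abbrev V4 := Fin 4 → ZMod 2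

/-- Table of the action of `(0 1)(2 3)`. -/
def Ta (f : V4) : V4 := ![f 0 + f 2, f 1 + f 3, f 2, f 3]
/-- Table of the action of `(0 1 2)`. -/
def Tc (f : V4) : V4 := ![f 1, f 0 + f 1, f 2 + f 3, f 2]
/-- Table of the action of `(0 1)(3 4)`. -/
def Tu (f : V4) : V4 := ![f 2, f 3, f 0, f 1]

theorem zmod_two_cases (x : ZMod 2) : x = 0 ∨ x = 1 := by revert x; decide

namespace Data

variable {G : Type*} [Group G] [Finite G] (D : Data G)

instance : D.N.Normal := D.normal

/-- The module is commutative. -/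
@[reducible] def commGroup : CommGroup D.N :=
  { (inferInstance : Group D.N) with
    mul_comm := fun a b => Subtype.ext (D.comm a a.2 b b.2) }

theorem sq_eq (x : D.N) : x * x = 1 := Subtype.ext (D.sq x x.2)

/-- The action on the module. -/
def act : A5 →* MulAut D.N := MulAut.conjNormal.comp D.ι

theorem act_val (k : A5) (x : D.N) : (D.act k x : G) = D.ι k * x * (D.ι k)⁻¹ := rfl

theorem act_mul (k l : A5) (x : D.N) : D.act (k * l) x = D.act k (D.act l x) := by
  rw [map_mul, MulAut.mul_apply]

theorem act_one (x : D.N) : D.act 1 x = x := by rw [map_one, MulAut.one_apply]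

theorem eq_one_of_fix {k : A5} (hk : orderOf k = 3 ∨ orderOf k = 5) {x : D.N}
    (h : D.act k x = x) : x = 1 :=
  Subtype.ext (D.fpf k hk x x.2 (mul_inv_eq_iff_eq_mul.1 (congrArg Subtype.val h)).symm)

theorem cycle {k : A5} (hk : orderOf k = 3) (x : D.N) :
    x * D.act k x * D.act k (D.act k x) = 1 := by
  letI := D.commGroup
  refine D.eq_one_of_fix (k := k) (Or.inl hk) ?_
  have h3 : D.act k (D.act k (D.act k x)) = x := by
    rw [← D.act_mul, ← D.act_mul, show k * k * k = 1 from by
      rw [← pow_three', ← hk, pow_orderOf_eq_one], D.act_one]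
  rw [map_mul, map_mul, h3]
  ac_rfl

theorem act_pc_sq (x : D.N) : D.act pc (D.act pc x) = x * D.act pc x := by
  have h := D.cycle orderOf_pc x
  calc D.act pc (D.act pc x) = (x * D.act pc x) * (x * D.act pc x) * D.act pc (D.act pc x) := by
        rw [D.sq_eq (x * D.act pc x), one_mul]
    _ = x * D.act pc x := by rw [mul_assoc (x * D.act pc x), h, mul_one]

/-- The key relation: if `a` fixes `v` then `a` moves `u v` to `v (u v)`. -/
theorem act_pa_pu {v : D.N} (hv : D.act pa v = v) :
    D.act pa (D.act pu v) = D.act pu v * v := by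
  letI := D.commGroup
  set w := D.act pa (D.act pu v) with hw
  have h := D.cycle orderOf_pa_pu v
  rw [D.act_mul pa pu v, ← hw, D.act_mul pa pu w] at h
  have h2 := congrArg (D.act pa) h
  rw [map_mul, map_mul, map_one, hv, hw, ← D.act_mul pa pa, ← D.act_mul pa pa, pa_sq, D.act_one,
    D.act_one, ← hw] at h2
  have h3 := congrArg (D.act pu) h2
  rw [map_mul, map_mul, map_one, ← D.act_mul pu pu, ← D.act_mul pu pu, pu_sq, D.act_one,
    D.act_one] at h3
  calc w = (D.act pu v * v * w) * (D.act pu v * v) := by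
        rw [mul_comm (D.act pu v * v) w, mul_assoc, D.sq_eq, mul_one]
    _ = D.act pu v * v := by rw [h3, one_mul]

theorem exists_fixed : ∃ v : D.N, v ≠ 1 ∧ D.act pa v = v ∧ D.act pa' v = v := by
  letI := D.commGroup
  obtain ⟨n, hn⟩ := Subgroup.ne_bot_iff_exists_ne_one.1 D.nontriv
  have key : ∀ k : A5, k * k = 1 → ∀ x : D.N, D.act k (x * D.act k x) = x * D.act k x := by
    intro k hk x
    rw [map_mul, ← D.act_mul, hk, D.act_one, mul_comm]
  have hdeg : ∀ k : A5, ∀ x : D.N, x * D.act k x = 1 → D.act k x = x := fun k x h => by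
    calc D.act k x = (x * x) * D.act k x := by rw [D.sq_eq, one_mul]
      _ = x := by rw [mul_assoc, h, mul_one]
  obtain ⟨w, hw1, hw⟩ : ∃ w : D.N, w ≠ 1 ∧ D.act pa w = w := by
    by_cases h : n * D.act pa n = 1
    · exact ⟨n, hn, hdeg _ _ h⟩
    · exact ⟨_, h, key _ pa_sq n⟩
  by_cases h : w * D.act pa' w = 1
  · exact ⟨w, hw1, hw, hdeg _ _ h⟩
  · refine ⟨_, h, ?_, key _ pa'_sq w⟩
    rw [map_mul, hw, ← D.act_mul, pa'_comm, D.act_mul, hw]

/-- A fixed vector of the four-group. -/
noncomputable def vec : D.N := D.exists_fixed.choose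

theorem vec_ne : D.vec ≠ 1 := D.exists_fixed.choose_spec.1
theorem pa_vec : D.act pa D.vec = D.vec := D.exists_fixed.choose_spec.2.1
theorem pa'_vec : D.act pa' D.vec = D.vec := D.exists_fixed.choose_spec.2.2

theorem pa_cvec : D.act pa (D.act pc D.vec) = D.act pc D.vec := by
  rw [← D.act_mul, pa_conj, D.act_mul, D.pa'_vec]

theorem pa'_cvec : D.act pa' (D.act pc D.vec) = D.act pc D.vec := by
  have h : pa' * pc = pc * (pa * pa') := by decide +kernel
  rw [← D.act_mul, h, D.act_mul, D.act_mul pa pa', D.pa'_vec, D.pa_vec]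

/-- Scalar multiples. -/
def sm (x : D.N) (t : ZMod 2) : D.N := x ^ t.val

theorem sm_add (x : D.N) (s t : ZMod 2) : D.sm x (s + t) = D.sm x s * D.sm x t := by
  rcases zmod_two_cases s with rfl | rfl <;> rcases zmod_two_cases t with rfl | rfl <;>
    simp [sm, show (1 : ZMod 2) + 1 = 0 from rfl, ZMod.val_one, D.sq_eq]

theorem act_sm (k : A5) (x : D.N) (t : ZMod 2) : D.act k (D.sm x t) = D.sm (D.act k x) t :=
  map_pow _ _ _

/-- Coordinates on the natural module inside `N`. -/
noncomputable def psi (f : V4) : D.N :=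
  D.sm D.vec (f 0) * D.sm (D.act pc D.vec) (f 1) * D.sm (D.act pu D.vec) (f 2) *
    D.sm (D.act pu (D.act pc D.vec)) (f 3)

theorem psi_add (f g : V4) : D.psi (f + g) = D.psi f * D.psi g := by
  letI := D.commGroup
  simp only [psi, Pi.add_apply, sm_add]
  ac_rfl

theorem sm_mul (x y : D.N) (t : ZMod 2) : D.sm (x * y) t = D.sm x t * D.sm y t := by
  letI := D.commGroup
  exact mul_pow x y _

theorem act_pa_psi (f : V4) : D.act pa (D.psi f) = D.psi (Ta f) := by
  letI := D.commGroup
  have e4 := D.act_pa_pu (v := D.act pc D.vec) D.pa_cvec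
  simp only [psi, map_mul, act_sm, D.pa_vec, D.pa_cvec, D.act_pa_pu D.pa_vec, e4, sm_mul, Ta,
    Matrix.cons_val_zero, Matrix.cons_val_one, Matrix.cons_val, sm_add]
  ac_rfl

theorem act_pu_psi (f : V4) : D.act pu (D.psi f) = D.psi (Tu f) := by
  letI := D.commGroup
  have h : ∀ x, D.act pu (D.act pu x) = x := fun x => by rw [← D.act_mul, pu_sq, D.act_one]
  simp only [psi, map_mul, act_sm, h, Tu, Matrix.cons_val_zero, Matrix.cons_val_one, Matrix.cons_val]
  ac_rfl

theorem act_pc_psi (f : V4) : D.act pc (D.psi f) = D.psi (Tc f) := by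
  letI := D.commGroup
  have e3 : D.act pc (D.act pu D.vec) = D.act pu D.vec * D.act pu (D.act pc D.vec) := by
    have h : pc * pu = pu * (pc * pc) := by decide +kernel
    rw [← D.act_mul, h, D.act_mul, D.act_mul, D.act_pc_sq, map_mul]
  have e4 : D.act pc (D.act pu (D.act pc D.vec)) = D.act pu D.vec := by
    rw [← D.act_mul, ← D.act_mul, pc_pu_pc]
  simp only [psi, map_mul, act_sm, D.act_pc_sq, e3, e4, sm_mul, Tc,
    Matrix.cons_val_zero, Matrix.cons_val_one, Matrix.cons_val, sm_add]
  ac_rfl

theorem psi_zero : D.psi 0 = 1 := by simp [psi, sm]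

theorem fixed_eq_one {x : D.N} (h1 : D.act pa x = x) (h2 : D.act pa' x = x)
    (h3 : D.act pa (D.act pu x) = D.act pu x) (h4 : D.act pa' (D.act pu x) = D.act pu x) :
    x = 1 := by
  refine D.eq_one_of_fix (k := pc) (Or.inl orderOf_pc) ?_
  have h : ∀ y, D.act pu (D.act pu y) = y := fun y => by rw [← D.act_mul, pu_sq, D.act_one]
  conv_lhs => rw [pc_word]
  simp only [D.act_mul, h1, h4, h, h2, h3]

theorem psi_injective : Function.Injective D.psi := by
  letI := D.commGroup
  have hsum : ∀ f, D.psi f = 1 → f = 0 := by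
    intro f hf
    set l := D.sm D.vec (f 0) * D.sm (D.act pc D.vec) (f 1) with hl
    set r := D.sm D.vec (f 2) * D.sm (D.act pc D.vec) (f 3) with hr
    have hpa : ∀ s t, D.act pa (D.sm D.vec s * D.sm (D.act pc D.vec) t)
        = D.sm D.vec s * D.sm (D.act pc D.vec) t := fun s t => by
      rw [map_mul, act_sm, act_sm, D.pa_vec, D.pa_cvec]
    have hpa' : ∀ s t, D.act pa' (D.sm D.vec s * D.sm (D.act pc D.vec) t)
        = D.sm D.vec s * D.sm (D.act pc D.vec) t := fun s t => by
      rw [map_mul, act_sm, act_sm, D.pa'_vec, D.pa'_cvec]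
    have hlr : l = D.act pu r := by
      have : l * D.act pu r = 1 := by
        rw [hr, map_mul, act_sm, act_sm, hl, ← mul_assoc]; exact hf
      calc l = l * (D.act pu r * D.act pu r) := by rw [D.sq_eq, mul_one]
        _ = D.act pu r := by rw [← mul_assoc, this, one_mul]
    have hl1 : l = 1 := by
      have hr' : D.act pu l = r := by rw [hlr, ← D.act_mul, pu_sq, D.act_one]
      exact D.fixed_eq_one (hpa _ _) (hpa' _ _) (by rw [hr']; exact hpa _ _)
        (by rw [hr']; exact hpa' _ _)
    have hr1 : r = 1 := by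
      have : D.act pu l = r := by rw [hlr, ← D.act_mul, pu_sq, D.act_one]
      rw [← this, hl1, map_one]
    have hpair : ∀ s t, D.sm D.vec s * D.sm (D.act pc D.vec) t = 1 → s = 0 ∧ t = 0 := by
      intro s t h
      rcases zmod_two_cases s with rfl | rfl <;> rcases zmod_two_cases t with rfl | rfl
      · exact ⟨rfl, rfl⟩
      · exfalso
        simp [sm, ZMod.val_one] at h
        exact D.vec_ne h
      · exfalso
        simp [sm, ZMod.val_one] at h
        exact D.vec_ne h
      · exfalso
        simp [sm, ZMod.val_one] at h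
        refine D.vec_ne (D.eq_one_of_fix (Or.inl orderOf_pc) ?_)
        calc D.act pc D.vec = (D.vec * D.vec) * D.act pc D.vec := by rw [D.sq_eq, one_mul]
          _ = D.vec := by rw [mul_assoc, h, mul_one]
    obtain ⟨h0, h1⟩ := hpair _ _ hl1
    obtain ⟨h2, h3⟩ := hpair _ _ hr1
    funext i; fin_cases i <;> assumption
  intro f g h
  have : D.psi (f + g) = 1 := by rw [psi_add, h, D.sq_eq]
  have h0 := hsum _ this
  funext i
  have hi := congrFun h0 i
  simp only [Pi.add_apply, Pi.zero_apply] at hi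
  rcases zmod_two_cases (f i) with e | e <;> rcases zmod_two_cases (g i) with e' | e' <;>
    rw [e, e'] at hi ⊢ <;> simp_all

/-- The stabiliser of the natural module. -/
theorem range_invariant (k : A5) (f : V4) : ∃ f', D.act k (D.psi f) = D.psi f' := by
  let S : Subgroup A5 :=
    { carrier := {k | ∀ f, ∃ f', D.act k (D.psi f) = D.psi f'}
      one_mem' := fun f => ⟨f, D.act_one _⟩
      mul_mem' := fun {a b} ha hb f => by
        obtain ⟨f₁, h₁⟩ := hb f
        obtain ⟨f₂, h₂⟩ := ha f₁
        exact ⟨f₂, by rw [D.act_mul, h₁, h₂]⟩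
      inv_mem' := fun {a} ha f => by
        have hinj : Function.Injective fun f => (ha f).choose := fun f g hfg => by
          apply D.psi_injective
          apply (D.act a).injective
          rw [(ha f).choose_spec, (ha g).choose_spec]; exact congrArg D.psi hfg
        obtain ⟨g, hg⟩ := Finite.surjective_of_injective hinj f
        refine ⟨g, ?_⟩
        rw [← hg, ← (ha g).choose_spec, ← D.act_mul, inv_mul_cancel, D.act_one] }
  have : S = ⊤ := closure_eq_top S (fun f => ⟨_, D.act_pa_psi f⟩) (fun f => ⟨_, D.act_pc_psi f⟩)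
    (fun f => ⟨_, D.act_pu_psi f⟩)
  exact (this ▸ Subgroup.mem_top k : k ∈ S) f

theorem exists_coord (hsurj : Function.Surjective D.psi) (g : G) :
    ∃ p : V4 × A5, (D.psi p.1 : G) * D.ι p.2 = g := by
  obtain ⟨n, hn, k, rfl⟩ := D.join g
  obtain ⟨f, hf⟩ := hsurj ⟨n, hn⟩
  exact ⟨(f, k), by rw [hf]⟩

theorem coord_injective :
    Function.Injective fun p : V4 × A5 => (D.psi p.1 : G) * D.ι p.2 := by
  rintro ⟨f, k⟩ ⟨g, l⟩ h
  simp only at h
  have hk : D.ι (k * l⁻¹) = (D.psi f : G)⁻¹ * D.psi g := by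
    calc D.ι (k * l⁻¹) = (D.psi f : G)⁻¹ * ((D.psi f : G) * D.ι k) * (D.ι l)⁻¹ := by
          rw [map_mul, map_inv]; group
      _ = _ := by rw [h]; group
  have hkl : k = l := mul_inv_eq_one.1
    (D.meet _ (hk ▸ D.N.mul_mem (D.N.inv_mem (D.psi f).2) (D.psi g).2))
  subst hkl
  exact Prod.ext (D.psi_injective (Subtype.ext (mul_right_cancel h))) rfl

/-- Two module data with spanning natural module give isomorphic groups. -/
theorem iso {H : Type*} [Group H] [Finite H] (E : Data H) (hD : Function.Surjective D.psi)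
    (hE : Function.Surjective E.psi) : Nonempty (G ≃* H) := by
  let θD : V4 × A5 ≃ G := Equiv.ofBijective _ ⟨D.coord_injective, D.exists_coord hD⟩
  let θE : V4 × A5 ≃ H := Equiv.ofBijective _ ⟨E.coord_injective, E.exists_coord hE⟩
  have hequiv : ∀ (k : A5) (f f' : V4),
      D.act k (D.psi f) = D.psi f' → E.act k (E.psi f) = E.psi f' := by
    let S : Subgroup A5 :=
      { carrier := {k | ∀ f f', D.act k (D.psi f) = D.psi f' → E.act k (E.psi f) = E.psi f'}
        one_mem' := fun f f' h => by
          rw [D.act_one] at h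
          rw [E.act_one, D.psi_injective h]
        mul_mem' := fun {a b} ha hb f f' h => by
          obtain ⟨g, hg⟩ := D.range_invariant b f
          rw [D.act_mul, hg] at h
          rw [E.act_mul, hb f g hg, ha g f' h]
        inv_mem' := fun {a} ha f f' h => by
          have h' : D.act a (D.psi f') = D.psi f := by
            rw [← h, ← D.act_mul, mul_inv_cancel, D.act_one]
          rw [← ha f' f h', ← E.act_mul, inv_mul_cancel, E.act_one] }
    have : S = ⊤ := closure_eq_top S
      (fun f f' h => by rw [D.act_pa_psi] at h; rw [E.act_pa_psi, D.psi_injective h])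
      (fun f f' h => by rw [D.act_pc_psi] at h; rw [E.act_pc_psi, D.psi_injective h])
      (fun f f' h => by rw [D.act_pu_psi] at h; rw [E.act_pu_psi, D.psi_injective h])
    exact fun k => (this ▸ Subgroup.mem_top k : k ∈ S)
  refine ⟨{ θD.symm.trans θE with map_mul' := fun x y => ?_ }⟩
  obtain ⟨⟨f, k⟩, rfl⟩ := θD.surjective x
  obtain ⟨⟨g, l⟩, rfl⟩ := θD.surjective y
  obtain ⟨g', hg'⟩ := D.range_invariant k g
  have hp : θD (f, k) * θD (g, l) = θD (f + g', k * l) := by
    show (D.psi f : G) * D.ι k * ((D.psi g : G) * D.ι l) = (D.psi (f + g') : G) * D.ι (k * l)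
    rw [D.psi_add, ← hg', Subgroup.coe_mul, D.act_val, map_mul]
    group
  show θE (θD.symm (θD (f, k) * θD (g, l))) = θE (θD.symm (θD (f, k))) * θE (θD.symm (θD (g, l)))
  rw [hp, Equiv.symm_apply_apply, Equiv.symm_apply_apply, Equiv.symm_apply_apply]
  show (E.psi (f + g') : H) * E.ι (k * l) = (E.psi f : H) * E.ι k * ((E.psi g : H) * E.ι l)
  rw [E.psi_add, ← hequiv k g g' hg', Subgroup.coe_mul, E.act_val, map_mul]
  group

end Data

end Cfsg.Agent.H70.AffA5
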