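import Cfsg.Agent.H70.SplitExt

/-! Element orders and fixed vectors in two-dimensional special linear groups. -/

set_option autoImplicit false

namespace Cfsg.Agent.H70

open Matrix

variable {F : Type*} [Field F]

theorem sq_eq_trace_smul (A : SpecialLinearGroup (Fin 2) F) :
    (A : Matrix (Fin 2) (Fin 2) F) ^ 2
      = (A 0 0 + A 1 1) • (A : Matrix (Fin 2) (Fin 2) F) - 1 := by
  have hd : A 0 0 * A 1 1 - A 0 1 * A 1 0 = 1 := by
    have := A.2; rwa [Matrix.det_fin_two] at this
  ext i j
  fin_cases i <;> fin_cases j <;>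
    simp [pow_two, Matrix.mul_apply, Fin.sum_univ_two] <;>
    first | ring1 | linear_combination hd | linear_combination (-1 : F) * hd

/-- The natural action of `SL₂` on column vectors. -/
@[reducible] noncomputable def slAction (F : Type*) [Field F] :
    DistribMulAction (SpecialLinearGroup (Fin 2) F) (Fin 2 → F) where
  smul A v := (A : Matrix (Fin 2) (Fin 2) F) *ᵥ v
  one_smul v := by show ((1 : SpecialLinearGroup (Fin 2) F) : Matrix _ _ F) *ᵥ v = v; simp
  mul_smul A B v := by
    change (A.1 * B.1) *ᵥ v = A.1 *ᵥ (B.1 *ᵥ v)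
    exact (Matrix.mulVec_mulVec _ _ _).symm
  smul_zero A := Matrix.mulVec_zero _
  smul_add A := Matrix.mulVec_add _

theorem sq_eq_one_of_fixed [CharP F 2] (A : SpecialLinearGroup (Fin 2) F) (v : Fin 2 → F)
    (hv : v ≠ 0) (h : (A : Matrix (Fin 2) (Fin 2) F) *ᵥ v = v) : A ^ 2 = 1 := by
  have hdet : ((A : Matrix (Fin 2) (Fin 2) F) - 1).det = 0 :=
    Matrix.exists_mulVec_eq_zero_iff.mp ⟨v, hv, by rw [Matrix.sub_mulVec, h, Matrix.one_mulVec, sub_self]⟩
  have hd : A 0 0 * A 1 1 - A 0 1 * A 1 0 = 1 := by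
    have := A.2; rwa [Matrix.det_fin_two] at this
  rw [Matrix.det_fin_two] at hdet
  simp at hdet
  have h2 : (2 : F) = 0 := CharTwo.two_eq_zero
  have ht : A 0 0 + A 1 1 = 0 := by linear_combination (-1 : F) * hdet + hd + h2
  have hm : (A : Matrix (Fin 2) (Fin 2) F) ^ 2 = 1 := by
    rw [sq_eq_trace_smul, ht, zero_smul, zero_sub, CharTwo.neg_eq]
  rw [pow_two] at hm ⊢
  apply Subtype.ext
  exact hm

theorem two_dvd_card_SL [Finite F] [CharP F 2] :
    2 ∣ Nat.card (SpecialLinearGroup (Fin 2) F) := by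
  let u : SpecialLinearGroup (Fin 2) F := ⟨!![1, 1; 0, 1], by simp [Matrix.det_fin_two]⟩
  have hu : orderOf u = 2 := by
    apply orderOf_eq_prime
    · refine sq_eq_one_of_fixed u ![1, 0] (fun h => one_ne_zero (congrFun h 0)) ?_
      funext i
      fin_cases i <;> simp [u, Matrix.mulVec, dotProduct, Fin.sum_univ_two]
    · intro h
      have := congrArg (fun B : SpecialLinearGroup (Fin 2) F => B 0 1) h
      simp [u] at this
  exact hu.symm.dvd.trans (orderOf_dvd_natCard u)

theorem exists_large_sameGraph_SL [Finite F] [CharP F 2] (N : ℕ) :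
    ∃ (H : Type) (_ : Group H) (_ : Finite H),
      N < Nat.card H ∧ SameGraph (SpecialLinearGroup (Fin 2) F) H := by
  letI := slAction F
  refine exists_large_sameGraph (V := Fin 2 → F) 2 Nat.prime_two (fun v => ?_) two_dvd_card_SL
    (fun s v hv h => ⟨1, by
      rw [pow_one]; exact orderOf_dvd_of_pow_eq_one (sq_eq_one_of_fixed s v hv h)⟩) N
  funext i
  simp [CharTwo.two_eq_zero]

end Cfsg.Agent.H70
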