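import Cfsg.Agent.H36.Basic
import Cfsg.Agent.H74.EPPO
import Mathlib

/-!
# No extension of a simple group of order 360 by an element of order two has element orders at most five

Suppose `G` has a simple normal subgroup `N` of order 360 and index 2, all elements of `G` have
prime power order and order at most 5.  In the action on the ten Sylow 3-subgroups every element
outside `N` then fixes exactly two points, which contradicts orbit counting.
-/

set_option autoImplicit false

namespace Cfsg.Agent.H70.SpecTwo

open Subgroup Equiv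

theorem sign_of_two_fixed {α : Type*} [Fintype α] [DecidableEq α] (σ : Perm α) (h4 : σ ^ 4 = 1)
    (hfix : ∀ x, (σ ^ 2) x = x → σ x = x) (hsupp : σ.support.card = 8) : Perm.sign σ = 1 := by
  have hall : ∀ n ∈ σ.cycleType, n = 4 := by
    intro n hn
    have hd : n ∣ 4 := (Perm.dvd_of_mem_cycleType hn).trans (orderOf_dvd_of_pow_eq_one h4)
    have h2 := Perm.two_le_of_mem_cycleType hn
    have hle := Nat.le_of_dvd (by norm_num) hd
    have : n = 2 ∨ n = 4 := by interval_cases n <;> simp_all
    refine this.resolve_left ?_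
    rintro rfl
    obtain ⟨c, τ, rfl, hdisj, hc, hcard⟩ := Perm.mem_cycleType_iff.1 hn
    obtain ⟨x, y, hxy, rfl⟩ := Perm.card_support_eq_two.1 hcard
    have hτx : τ x = x := (hdisj x).resolve_left (by simp [hxy.symm])
    have hτy : τ y = y := (hdisj y).resolve_left (by simp [hxy])
    have h1 : (Equiv.swap x y * τ) x = y := by simp [Perm.mul_apply, hτx]
    have h2 : (Equiv.swap x y * τ) y = x := by simp [Perm.mul_apply, hτy]
    have h3 := hfix x (by rw [pow_two, Perm.mul_apply, h1, h2])
    exact hxy (by rw [← h3, h1])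
  have hs := Perm.sum_cycleType σ
  rw [hsupp, Multiset.eq_replicate_card.2 hall, Multiset.sum_replicate, smul_eq_mul] at hs
  have hcard : Multiset.card σ.cycleType = 2 := by omega
  rw [Perm.sign_of_cycleType, Multiset.eq_replicate_card.2 hall, hcard]
  decide

variable {G : Type*} [Group G] [Finite G]

/-- In a group with element orders prime powers, an element of order prime to `p` commuting with
a non-trivial `p`-element is trivial. -/
theorem eq_one_of_commute (hpp : ∀ g : G, g ≠ 1 → IsPrimePow (orderOf g)) {p : ℕ} (hp : p.Prime)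
    {x y : G} (hxy : Commute x y) (hx : x ≠ 1) {k : ℕ} (hxk : x ^ (p ^ k) = 1)
    (hy : ¬ p ∣ orderOf y) : y = 1 := by
  by_contra hy1
  obtain ⟨j, -, hj⟩ := (Nat.dvd_prime_pow hp).1 (orderOf_dvd_of_pow_eq_one hxk)
  have hpx : p ∣ orderOf x := by
    rw [hj]
    refine dvd_pow_self p fun h => hx (orderOf_eq_one_iff.1 ?_)
    rw [hj, h, pow_zero]
  obtain ⟨r, hr, hry⟩ := Nat.exists_prime_and_dvd (orderOf_eq_one_iff.not.2 hy1)
  have := H74.EPPO.prime_eq hpp
    ((hxy.pow_left (orderOf x / p)).pow_right (orderOf y / r)) hp hr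
    (orderOf_pow_orderOf_div (orderOf_pos x).ne' hpx)
    (orderOf_pow_orderOf_div (orderOf_pos y).ne' hry)
  exact hy (this ▸ hry)

/-- The hypotheses. -/
structure Hyp (G : Type*) [Group G] [Finite G] (N : Subgroup G) [N.Normal] : Prop where
  hpp : ∀ g : G, g ≠ 1 → IsPrimePow (orderOf g)
  five : ∀ g : G, orderOf g ≤ 5
  index : N.index = 2
  simple : IsSimpleGroup N
  card : Nat.card N = 360

namespace Hyp

set_option linter.unusedSectionVars false

variable {N : Subgroup G} [N.Normal] (h : Hyp G N)

include h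

theorem card_G : Nat.card G = 720 := by rw [← N.card_mul_index, h.card, h.index]

theorem card_P (P : Sylow 3 G) : Nat.card (P : Subgroup G) = 9 := by
  have := Fact.mk Nat.prime_three
  simpa using H36.card_sylow_eq h.card_G P (a := 2) (m := 80) rfl (by norm_num)

theorem mem_of_odd {x : G} (hx : Odd (orderOf x)) : x ∈ N := by
  obtain ⟨k, hk⟩ := hx
  have h2 : ∀ y : G, y ^ 2 ∈ N := fun y => by
    simpa [h.index] using N.pow_index_mem y
  have : (x ^ 2) ^ (k + 1) = x := by
    rw [← pow_mul, show 2 * (k + 1) = (2 * k + 1) + 1 by ring, pow_succ, ← hk,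
      pow_orderOf_eq_one, one_mul]
  exact this ▸ N.pow_mem (h2 x) _

theorem pow_four_eq_one {x : G} (hx : x ∉ N) : x ^ 4 = 1 := by
  rw [← orderOf_dvd_iff_pow_eq_one]
  have h5 := h.five x
  have hne : ¬ Odd (orderOf x) := fun ho => hx (h.mem_of_odd ho)
  have := orderOf_pos x
  interval_cases hh : orderOf x <;> first | decide | (exact absurd (Nat.odd_iff.2 rfl) hne)

theorem sylow_le (P : Sylow 3 G) : (P : Subgroup G) ≤ N := by
  intro x hx
  have := Fact.mk Nat.prime_three
  obtain ⟨k, hk⟩ := (IsPGroup.iff_orderOf.1 P.2) ⟨x, hx⟩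
  refine h.mem_of_odd ?_
  rw [← Subgroup.orderOf_mk x hx, hk]
  exact Odd.pow (by decide)

theorem sq_of_P {P : Sylow 3 G} {p : G} (hp : p ∈ (P : Subgroup G)) : p ^ (3 ^ 2) = 1 := by
  rw [show (3 : ℕ) ^ 2 = Nat.card (P : Subgroup G) by rw [h.card_P]; rfl]
  exact congrArg Subtype.val (pow_card_eq_one' (x := (⟨p, hp⟩ : (P : Subgroup G))))

theorem normalizer_subtype (P : Sylow 3 G) :
    normalizer (((P.subtype (h.sylow_le P) : Sylow 3 N) : Subgroup N) : Set N)
      = (MulAction.stabilizer G P).subgroupOf N := by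
  have := Fact.mk Nat.prime_three
  ext x
  rw [mem_subgroupOf, MulAction.mem_stabilizer_iff, Sylow.smul_eq_iff_mem_normalizer,
    mem_normalizer_iff]
  change _ ↔ (x : G) ∈ normalizer (((P : Subgroup G)) : Set G)
  rw [mem_normalizer_iff]
  constructor
  · intro hx p
    by_cases hpN : p ∈ N
    · exact hx ⟨p, hpN⟩
    · refine iff_of_false (fun hp => hpN (h.sylow_le P hp)) fun hp => hpN ?_
      simpa [mul_assoc] using N.mul_mem (N.mul_mem (N.inv_mem x.2) (h.sylow_le P hp)) x.2
  · exact fun hx p => hx p

theorem card_stab_inf (P : Sylow 3 G) :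
    Nat.card (Sylow 3 N) * Nat.card (MulAction.stabilizer G P ⊓ N : Subgroup G) = 360
      ∧ Nat.card (Sylow 3 N) % 3 = 1 := by
  have := Fact.mk Nat.prime_three
  refine ⟨?_, by simpa [Nat.ModEq] using card_sylow_modEq_one 3 N⟩
  have he := H36.card_sylow_mul_normalizer (P.subtype (h.sylow_le P))
  rw [h.normalizer_subtype, h.card] at he
  rw [inf_comm, ← Nat.card_congr (subgroupOfEquivOfLe (inf_le_left :
      N ⊓ MulAction.stabilizer G P ≤ N)).toEquiv, inf_comm]
  rwa [inf_subgroupOf_right]

theorem card_sylow : Nat.card (Sylow 3 G) = 10 := by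
  have := Fact.mk Nat.prime_three
  have := Fact.mk (by norm_num : Nat.Prime 5)
  have := h.simple
  obtain ⟨hd, hm⟩ := H36.card_sylow_dvd (p := 3) h.card_G (a := 2) (m := 80) rfl (by norm_num)
  obtain ⟨P⟩ := Sylow.nonempty (p := 3) (G := G)
  set H := normalizer ((P : Subgroup G) : Set G) with hH
  have hmul : Nat.card (Sylow 3 G) * Nat.card H = 720 := by
    rw [H36.card_sylow_mul_normalizer P, h.card_G]
  -- five does not divide the normaliser
  have hfive : ¬ 5 ∣ Nat.card H := by
    intro h5
    obtain ⟨y, hy⟩ := exists_prime_orderOf_dvd_card' (G := H) 5 h5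
    let Y : Subgroup G := zpowers (y : G)
    have hY : IsPGroup 5 Y := by
      refine IsPGroup.of_card (n := 1) ?_
      rw [Nat.card_zpowers, Subgroup.orderOf_coe, hy, pow_one]
    have hYH : Y ≤ H := zpowers_le.2 y.2
    let act : MulAction Y (P : Subgroup G) :=
      { smul := fun a p => ⟨(a : G) * p * (a : G)⁻¹,
          ((mem_normalizer_iff.1 (hYH a.2)) p).1 p.2⟩
        one_smul := fun p => Subtype.ext (show (1 : G) * p * (1 : G)⁻¹ = p by simp)
        mul_smul := fun a b p => Subtype.ext (show ((a : G) * b) * p * ((a : G) * b)⁻¹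
            = (a : G) * ((b : G) * p * (b : G)⁻¹) * (a : G)⁻¹ by group) }
    have hmod := hY.card_modEq_card_fixedPoints (α := (P : Subgroup G))
    rw [h.card_P] at hmod
    have hone : ∀ q : (P : Subgroup G), q ∈ MulAction.fixedPoints Y (P : Subgroup G) → q = 1 := by
      intro q hq
      by_contra hq1
      have e : (y : G) * q * (y : G)⁻¹ = q := congrArg Subtype.val (hq ⟨y, mem_zpowers _⟩)
      have hc : Commute (q : G) (y : G) := (mul_inv_eq_iff_eq_mul.1 e).symm
      have hy1 := eq_one_of_commute h.hpp Nat.prime_three hc (fun h1 => hq1 (Subtype.ext h1))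
        (k := 2) (h.sq_of_P q.2) (by rw [Subgroup.orderOf_coe, hy]; norm_num)
      rw [← orderOf_eq_one_iff, Subgroup.orderOf_coe, hy] at hy1
      norm_num at hy1
    have hle : Nat.card (MulAction.fixedPoints Y (P : Subgroup G)) ≤ 1 := by
      refine Finite.card_le_one_iff_subsingleton.2 ⟨fun a b => Subtype.ext ?_⟩
      rw [hone _ a.2, hone _ b.2]
    have hpos : 0 < Nat.card (MulAction.fixedPoints Y (P : Subgroup G)) :=
      Nat.card_pos_iff.2 ⟨⟨⟨1, fun a => Subtype.ext
        (show (a : G) * 1 * (a : G)⁻¹ = 1 by simp)⟩⟩, inferInstance⟩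
    unfold Nat.ModEq at hmod
    omega
  -- the value forty
  have h40 : Nat.card (Sylow 3 G) ≠ 40 := by
    intro h40
    have hH18 : Nat.card H = 18 := by rw [h40] at hmul; omega
    have hs : MulAction.stabilizer G P = H := by
      ext g; exact Sylow.smul_eq_iff_mem_normalizer
    obtain ⟨hK, hK3⟩ := h.card_stab_inf P
    rw [hs] at hK
    let K : Subgroup G := H ⊓ N
    have hPK : (P : Subgroup G) ≤ K := le_inf le_normalizer (h.sylow_le P)
    have hK9 : Nat.card K = 9 := by
      have h1 : 9 ∣ Nat.card K := h.card_P P ▸ card_dvd_of_le hPK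
      have h2 : Nat.card K ∣ 18 := hH18 ▸ card_dvd_of_le inf_le_left
      have := Nat.le_of_dvd (by norm_num) h2
      have : Nat.card K = 9 ∨ Nat.card K = 18 := by
        obtain ⟨c, hc⟩ := h1
        rw [hc] at h2
        have hc2 : c ∣ 2 := Nat.dvd_of_mul_dvd_mul_left (by norm_num) (show 9 * c ∣ 9 * 2 from h2)
        rcases (Nat.dvd_prime Nat.prime_two).1 hc2 with rfl | rfl <;> omega
      refine this.resolve_right fun e => ?_
      change Nat.card (H ⊓ N : Subgroup G) = 18 at e
      rw [e] at hK
      omega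
    have hKP : (P : Subgroup G) = K := eq_of_le_of_card_ge hPK (by rw [hK9, h.card_P])
    have hc : IsMulCommutative (P : Subgroup G) :=
      IsPGroup.isMulCommutative_of_card_eq_prime_sq (p := 3) (by rw [h.card_P]; rfl)
    let Q : Sylow 3 N := P.subtype (h.sylow_le P)
    have hQ : (Q : Subgroup N) = (P : Subgroup G).subgroupOf N := rfl
    have hna : ¬ IsMulCommutative N := fun hN => by
      have hQn : (Q : Subgroup N).Normal :=
        ⟨fun a ha g => by rwa [hN.is_comm.comm g a, mul_inv_cancel_right]⟩
      have hQ9 : Nat.card (Q : Subgroup N) = 9 := by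
        rw [hQ, Nat.card_congr (subgroupOfEquivOfLe (h.sylow_le P)).toEquiv, h.card_P]
      rcases hQn.eq_bot_or_eq_top with e | e
      · rw [e, card_bot] at hQ9; omega
      · rw [e, card_top, h.card] at hQ9; omega
    refine H36.not_normalizer_le_centralizer hna Q (by rw [h.card]; norm_num) ?_
    rw [h.normalizer_subtype, hs]
    intro x hx
    have hxP : (x : G) ∈ (P : Subgroup G) := hKP ▸ ⟨hx, x.2⟩
    rw [mem_centralizer_iff]
    intro p hp
    rw [SetLike.mem_coe, hQ, mem_subgroupOf] at hp
    refine Subtype.ext ?_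
    simpa using congrArg Subtype.val (hc.is_comm.comm (⟨p, hp⟩ : (P : Subgroup G)) ⟨x, hxP⟩)
  -- the value one
  have h1 : Nat.card (Sylow 3 G) ≠ 1 := by
    intro h1
    rw [h1, one_mul] at hmul
    exact hfive (by rw [hmul]; norm_num)
  have hd' : Nat.card (Sylow 3 G) ∈ Nat.divisors 80 := Nat.mem_divisors.2 ⟨hd, by norm_num⟩
  rw [show Nat.divisors 80 = {1, 2, 4, 5, 8, 10, 16, 20, 40, 80} from by decide] at hd'
  simp only [Finset.mem_insert, Finset.mem_singleton] at hd'
  rcases hd' with e | e | e | e | e | e | e | e | e | e <;> rw [e] at hmul hm <;> omega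

theorem card_stab (P : Sylow 3 G) : Nat.card (MulAction.stabilizer G P) = 72 := by
  have := Fact.mk Nat.prime_three
  have hs : MulAction.stabilizer G P = normalizer ((P : Subgroup G) : Set G) := by
    ext g; exact Sylow.smul_eq_iff_mem_normalizer
  have := H36.card_sylow_mul_normalizer P
  rw [h.card_sylow, h.card_G] at this
  rw [hs]; omega

theorem card_stab_N (P : Sylow 3 G) :
    Nat.card (MulAction.stabilizer G P ⊓ N : Subgroup G) = 36 := by
  obtain ⟨hmul, hm⟩ := h.card_stab_inf P
  have h72 : Nat.card (MulAction.stabilizer G P ⊓ N : Subgroup G) ∣ 72 :=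
    h.card_stab P ▸ card_dvd_of_le inf_le_left
  have hr : Nat.card (MulAction.stabilizer G P) ∣
      2 * Nat.card (MulAction.stabilizer G P ⊓ N : Subgroup G) := by
    have h1 : (N.subgroupOf (MulAction.stabilizer G P)).index ∣ 2 := by
      rw [← h.index]
      exact relIndex_dvd_index_of_normal N _
    have h2 := (N.subgroupOf (MulAction.stabilizer G P)).card_mul_index
    have e : Nat.card (N.subgroupOf (MulAction.stabilizer G P))
        = Nat.card (MulAction.stabilizer G P ⊓ N : Subgroup G) := by
      rw [← inf_subgroupOf_left, Nat.card_congr (subgroupOfEquivOfLe inf_le_left).toEquiv]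
    rw [e] at h2
    obtain ⟨c, hc⟩ := h1
    exact ⟨c, by rw [hc, ← h2]; ring⟩
  rw [h.card_stab] at hr
  set m := Nat.card (MulAction.stabilizer G P ⊓ N : Subgroup G)
  obtain ⟨c, hc⟩ := h72
  obtain ⟨d, hd⟩ := hr
  have hm0 : 0 < m := Nat.card_pos
  have hc' : c ∣ 2 := ⟨d, Nat.eq_of_mul_eq_mul_left hm0 (by rw [← mul_assoc, ← hc, ← hd]; ring)⟩
  rcases (Nat.dvd_prime Nat.prime_two).1 hc' with rfl | rfl
  · have : m = 72 := by omega
    rw [this] at hmul
    omega
  · omega

theorem exists_involution (P : Sylow 3 G) : ∃ z ∈ N, z • P = P ∧ orderOf z = 2 := by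
  obtain ⟨z, hz⟩ := exists_prime_orderOf_dvd_card'
    (G := (MulAction.stabilizer G P ⊓ N : Subgroup G)) 2 (by rw [h.card_stab_N]; norm_num)
  exact ⟨z, z.2.2, z.2.1, by rw [Subgroup.orderOf_coe, hz]⟩

theorem conj_mem_P {P : Sylow 3 G} {g x : G} (hg : g • P = P) (hx : x ∈ (P : Subgroup G)) :
    g * x * g⁻¹ ∈ (P : Subgroup G) :=
  ((mem_normalizer_iff.1 (Sylow.smul_eq_iff_mem_normalizer.1 hg)) x).1 hx

theorem eq_one_of_commute_P {P : Sylow 3 G} {x z : G} (hx : x ∈ (P : Subgroup G))
    (hz : orderOf z = 2) (hc : Commute x z) : x = 1 := by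
  by_contra hx1
  have hz1 := eq_one_of_commute h.hpp Nat.prime_three hc hx1 (k := 2) (h.sq_of_P hx)
    (by rw [hz]; norm_num)
  rw [hz1, orderOf_one] at hz
  omega

/-- An involution fixing a Sylow 3-subgroup inverts it. -/
theorem inverts {P : Sylow 3 G} {z x : G} (hz : z • P = P) (hz2 : orderOf z = 2)
    (hx : x ∈ (P : Subgroup G)) : z * x * z⁻¹ = x⁻¹ := by
  have := Fact.mk Nat.prime_three
  have hzz : z * z = 1 := by rw [← pow_two, ← hz2, pow_orderOf_eq_one]
  have hc : IsMulCommutative (P : Subgroup G) :=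
    IsPGroup.isMulCommutative_of_card_eq_prime_sq (p := 3) (by rw [h.card_P]; rfl)
  set y := x * (z * x * z⁻¹) with hy
  have hyP : y ∈ (P : Subgroup G) := mul_mem hx (h.conj_mem_P hz hx)
  have hyc : (z * x * z⁻¹) * x = x * (z * x * z⁻¹) := by
    simpa using congrArg Subtype.val
      (hc.is_comm.comm (⟨_, h.conj_mem_P hz hx⟩ : (P : Subgroup G)) ⟨x, hx⟩)
  have hzi : z⁻¹ = z := inv_eq_of_mul_eq_one_right hzz
  have : Commute y z := by
    show y * z = z * y
    have : z * y * z⁻¹ = y := by
      calc z * y * z⁻¹ = (z * x * z⁻¹) * ((z * z) * x * (z⁻¹ * z⁻¹)) := by rw [hy]; group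
        _ = (z * x * z⁻¹) * x := by rw [hzi, hzz]; group
        _ = y := by rw [hyc]
    exact (mul_inv_eq_iff_eq_mul.1 this).symm
  exact eq_inv_of_mul_eq_one_right (h.eq_one_of_commute_P hyP hz2 this)

theorem mul_mem_P {P : Sylow 3 G} {z w : G} (hz : z • P = P) (hz2 : orderOf z = 2)
    (hw : w • P = P) (hw2 : orderOf w = 2) : z * w ∈ (P : Subgroup G) := by
  have := Fact.mk Nat.prime_three
  have hcent : ∀ x ∈ (P : Subgroup G), Commute x (z * w) := by
    intro x hx
    have h1 := h.inverts hw hw2 hx
    have h2 := h.inverts hz hz2 (inv_mem hx)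
    rw [inv_inv] at h2
    have : (z * w) * x * (z * w)⁻¹ = x := by
      calc (z * w) * x * (z * w)⁻¹ = z * (w * x * w⁻¹) * z⁻¹ := by group
        _ = x := by rw [h1, h2]
    exact (mul_inv_eq_iff_eq_mul.1 this).symm
  have hP : (P : Subgroup G) ≠ ⊥ := fun e => by
    have := h.card_P P; rw [e, card_bot] at this; omega
  obtain ⟨⟨x, hx⟩, hxx⟩ := Subgroup.ne_bot_iff_exists_ne_one.1 hP
  have hx1 : x ≠ 1 := fun e => hxx (Subtype.ext e)
  -- `z w` is a 3-element normalising `P`
  have hk : IsPGroup 3 (zpowers (z * w)) := by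
    refine H74.EPPO.isPGroup_of_forall_prime fun r hr hrd => ?_
    by_contra hr3
    have hd : r ∣ orderOf (z * w) := by rwa [Nat.card_zpowers] at hrd
    have ho : orderOf ((z * w) ^ (orderOf (z * w) / r)) = r :=
      orderOf_pow_orderOf_div (orderOf_pos _).ne' hd
    have := eq_one_of_commute h.hpp Nat.prime_three ((hcent x hx).pow_right (orderOf (z * w) / r))
      hx1 (k := 2) (h.sq_of_P hx) (by
        rw [ho, Nat.prime_dvd_prime_iff_eq Nat.prime_three hr]; exact fun e => hr3 e.symm)
    rw [this, orderOf_one] at ho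
    exact hr.ne_one ho.symm
  have hn : zpowers (z * w) ≤ normalizer ((P : Subgroup G) : Set G) :=
    zpowers_le.2 (mul_mem (Sylow.smul_eq_iff_mem_normalizer.1 hz)
      (Sylow.smul_eq_iff_mem_normalizer.1 hw))
  have hsup : IsPGroup 3 (zpowers (z * w) ⊔ (P : Subgroup G) : Subgroup G) :=
    hk.to_sup_of_normal_right' P.2 hn
  have := P.3 hsup le_sup_right
  exact this ▸ mem_sup_left (mem_zpowers _)

theorem involution_mem {P : Sylow 3 G} {w : G} (hw : w • P = P) (hw2 : orderOf w = 2) : w ∈ N := by
  obtain ⟨z, hzN, hz, hz2⟩ := h.exists_involution P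
  have := N.mul_mem (N.inv_mem hzN) (h.sylow_le P (h.mul_mem_P hz hz2 hw hw2))
  simpa using this

theorem exists_conj {P : Sylow 3 G} {z w : G} (hz : z • P = P) (hz2 : orderOf z = 2)
    (hw : w • P = P) (hw2 : orderOf w = 2) : ∃ x ∈ (P : Subgroup G), x * w * x⁻¹ = z := by
  -- `w = z y` with `y ∈ P`; square roots exist in `P`
  have hy := h.mul_mem_P hz hz2 hw hw2
  have h9 := h.sq_of_P hy
  set y := z * w with hydef
  have hzz : z * z = 1 := by rw [← pow_two, ← hz2, pow_orderOf_eq_one]
  have hwy : w = z * y := by rw [hydef, ← mul_assoc, hzz, one_mul]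
  refine ⟨y ^ 5, pow_mem hy 5, ?_⟩
  have hi := h.inverts hz hz2 (pow_mem hy 5)
  have hzi : z⁻¹ = z := inv_eq_of_mul_eq_one_right hzz
  have hzx : y ^ 5 * z = z * (y ^ 5)⁻¹ := by
    rw [← hi, hzi, ← mul_assoc, ← mul_assoc, hzz, one_mul]
  have key : y * (y ^ 5)⁻¹ * (y ^ 5)⁻¹ = 1 := by
    have : y ^ 10 = y := by
      rw [pow_succ, show (9 : ℕ) = 3 ^ 2 from rfl, h9, one_mul]
    rw [mul_assoc, ← mul_inv_rev, ← pow_add, this, mul_inv_cancel]
  calc y ^ 5 * w * (y ^ 5)⁻¹ = (y ^ 5 * z) * y * (y ^ 5)⁻¹ := by rw [hwy]; group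
    _ = z * (y * (y ^ 5)⁻¹ * (y ^ 5)⁻¹) := by rw [hzx]; group
    _ = z := by rw [key, mul_one]

theorem card_centralizer_inf {P : Sylow 3 G} {z : G} (hz : z • P = P) (hz2 : orderOf z = 2) :
    8 ≤ Nat.card (MulAction.stabilizer G P ⊓ centralizer {z} : Subgroup G) := by
  -- the class of `z` in the stabiliser lies in `z P`
  set S := MulAction.stabilizer G P
  let f : S → (P : Subgroup G) := fun g => ⟨z * ((g : G) * z * (g : G)⁻¹),
    h.mul_mem_P hz hz2 (by rw [mul_smul, mul_smul, inv_smul_eq_iff.2 g.2.symm, hz, g.2])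
      (by
        have := (MulEquiv.orderOf_eq (MulAut.conj (g : G)) z)
        rw [MulAut.conj_apply] at this
        rw [this, hz2])⟩
  have hfib : ∀ g g' : S, f g = f g' → (g : G)⁻¹ * g' ∈ S ⊓ centralizer {z} := by
    intro g g' e
    refine ⟨S.mul_mem (S.inv_mem g.2) g'.2, mem_centralizer_singleton_iff.2 ?_⟩
    have e1 : (g : G) * z * (g : G)⁻¹ = g' * z * (g' : G)⁻¹ :=
      mul_left_cancel (congrArg Subtype.val e)
    calc (g : G)⁻¹ * g' * z = (g : G)⁻¹ * (g' * z * (g' : G)⁻¹) * g' := by group
      _ = (g : G)⁻¹ * (g * z * (g : G)⁻¹) * g' := by rw [e1]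
      _ = z * ((g : G)⁻¹ * g') := by group
  classical
  cases nonempty_fintype S
  cases nonempty_fintype (P : Subgroup G)
  have hb := Finset.card_le_mul_card_image (f := f) (Finset.univ : Finset S)
    (Nat.card (S ⊓ centralizer {z} : Subgroup G)) (by
      intro b hb
      obtain ⟨g, -, rfl⟩ := Finset.mem_image.1 hb
      rw [← Nat.card_eq_finsetCard]
      refine Nat.card_le_card_of_injective
        (fun a => (⟨(g : G)⁻¹ * (a : S), hfib g a (Finset.mem_filter.1 a.2).2.symm⟩ :
          (S ⊓ centralizer {z} : Subgroup G))) ?_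
      intro a a' e
      exact Subtype.ext (Subtype.ext (mul_left_cancel (congrArg Subtype.val e))))
  have h9 : (Finset.univ.image f).card ≤ 9 := by
    have := Finset.card_le_univ (Finset.univ.image f)
    rwa [← Nat.card_eq_fintype_card, h.card_P] at this
  rw [Finset.card_univ, ← Nat.card_eq_fintype_card, h.card_stab] at hb
  nlinarith

theorem card_centralizer_le {z : G} (hz2 : orderOf z = 2) :
    Nat.card (centralizer ({z} : Set G)) ≤ 16 := by
  have := Fact.mk Nat.prime_two
  obtain ⟨n, hn⟩ := (H74.EPPO.isPGroup_centralizer h.hpp Nat.prime_two hz2).exists_card_eq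
  have hd := card_subgroup_dvd_card (centralizer ({z} : Set G))
  rw [h.card_G, hn] at hd
  rw [hn]
  by_contra hlt
  have h5 : 4 < n := by
    by_contra h4
    exact hlt (le_trans (Nat.pow_le_pow_right (by norm_num) (by omega : n ≤ 4)) (by norm_num))
  have : 2 ^ 5 ∣ 720 := (pow_dvd_pow 2 h5).trans hd
  norm_num at this

open scoped Classical in
/-- An involution fixing a point fixes exactly two. -/
theorem card_fixed_involution [Fintype (Sylow 3 G)] {P : Sylow 3 G} {z : G} (hz : z • P = P)
    (hz2 : orderOf z = 2) :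
    (Finset.univ.filter fun Q : Sylow 3 G => z • Q = Q).card = 2 := by
  have := Fact.mk Nat.prime_three
  set F := Finset.univ.filter fun Q : Sylow 3 G => z • Q = Q with hF
  set C := centralizer ({z} : Set G)
  have horb : ∀ Q ∈ F, ∃ c : C, (c : G) • P = Q := by
    intro Q hQ
    obtain ⟨g, rfl⟩ := MulAction.exists_smul_eq G P Q
    have hfix := (Finset.mem_filter.1 hQ).2
    have hw : (g⁻¹ * z * g) • P = P := by
      rw [mul_smul, mul_smul, hfix, inv_smul_smul]
    have hw2 : orderOf (g⁻¹ * z * g) = 2 := by
      have := (MulEquiv.orderOf_eq (MulAut.conj g⁻¹) z)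
      rw [MulAut.conj_apply, inv_inv] at this
      rw [this, hz2]
    obtain ⟨x, hx, hxz⟩ := h.exists_conj hz hz2 hw hw2
    have hxP : x • P = P := Sylow.smul_eq_iff_mem_normalizer.2 (le_normalizer hx)
    refine ⟨⟨g * x⁻¹, mem_centralizer_singleton_iff.2 ?_⟩, ?_⟩
    · calc g * x⁻¹ * z = g * x⁻¹ * (x * (g⁻¹ * z * g) * x⁻¹) := by rw [hxz]
        _ = z * (g * x⁻¹) := by group
    · show (g * x⁻¹) • P = g • P
      rw [mul_smul, inv_smul_eq_iff.2 hxP.symm]
  have hle : F.card ≤ 2 := by
    have h1 : F.card ≤ (MulAction.stabilizer C P).index := by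
      rw [← Nat.card_eq_finsetCard, MulAction.index_stabilizer, ← Nat.card_coe_set_eq]
      exact Nat.card_le_card_of_injective
        (fun Q => (⟨Q.1, (horb Q.1 Q.2).imp fun c hc => hc⟩ : MulAction.orbit C P))
        fun a b e => Subtype.ext (congrArg (fun c : MulAction.orbit C P => (c : Sylow 3 G)) e)
    have h2 := (MulAction.stabilizer C P).card_mul_index
    have h3 : Nat.card (MulAction.stabilizer C P)
        = Nat.card (MulAction.stabilizer G P ⊓ C : Subgroup G) := by
      have e : MulAction.stabilizer C P = (MulAction.stabilizer G P).subgroupOf C := by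
        ext c; rfl
      rw [e, ← inf_subgroupOf_right, Nat.card_congr (subgroupOfEquivOfLe inf_le_right).toEquiv]
    have h4 := h.card_centralizer_inf hz hz2
    have h5 := h.card_centralizer_le hz2
    rw [h3] at h2
    change 8 ≤ Nat.card (MulAction.stabilizer G P ⊓ C : Subgroup G) at h4
    change Nat.card C ≤ 16 at h5
    nlinarith
  have hne : 1 ≤ F.card := Finset.card_pos.2 ⟨P, Finset.mem_filter.2 ⟨Finset.mem_univ _, hz⟩⟩
  have hmod : 10 ≡ F.card [MOD 2] := by
    have := Fact.mk Nat.prime_two
    let σ := MulAction.toPermHom G (Sylow 3 G) z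
    have hσ : σ ^ 2 ^ 1 = 1 := by rw [pow_one, ← map_pow, ← hz2, pow_orderOf_eq_one, map_one]
    have h2 := Equiv.Perm.card_compl_support_modEq (p := 2) hσ
    have e : σ.supportᶜ = F := by
      ext Q
      simp [σ, hF, Equiv.Perm.mem_support, MulAction.toPermHom_apply, MulAction.toPerm_apply]
    rw [e, ← Nat.card_eq_fintype_card, h.card_sylow] at h2
    exact h2.symm
  unfold Nat.ModEq at hmod
  omega

open scoped Classical in
/-- An element outside `N` fixing a point fixes exactly two points and is an even permutation. -/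
theorem outside_fixing [Fintype (Sylow 3 G)] {P : Sylow 3 G} {g : G} (hg : g ∉ N) (hP : g • P = P) :
    (Finset.univ.filter fun Q : Sylow 3 G => g • Q = Q).card = 2 ∧
      Perm.sign (MulAction.toPermHom G (Sylow 3 G) g) = 1 := by
  have hg4 := h.pow_four_eq_one hg
  have hg2 : orderOf (g ^ 2) = 2 := by
    refine orderOf_eq_prime (by rw [← pow_mul]; exact hg4) fun e => hg ?_
    exact h.involution_mem hP (orderOf_eq_prime e fun e1 => hg (e1 ▸ N.one_mem))
  have hz : (g ^ 2) • P = P := by rw [pow_two, mul_smul, hP, hP]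
  have h2 := h.card_fixed_involution hz hg2
  have hfix : ∀ Q : Sylow 3 G, (g ^ 2) • Q = Q → g • Q = Q := by
    intro Q hQ
    by_contra hQ'
    have hsub : ({P, Q, g • Q} : Finset (Sylow 3 G))
        ⊆ Finset.univ.filter fun R : Sylow 3 G => (g ^ 2) • R = R := by
      intro R hR
      simp only [Finset.mem_insert, Finset.mem_singleton] at hR
      refine Finset.mem_filter.2 ⟨Finset.mem_univ _, ?_⟩
      rcases hR with rfl | rfl | rfl
      · exact hz
      · exact hQ
      · rw [← mul_smul, ← pow_succ, pow_succ', mul_smul, hQ]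
    have hPQ : P ≠ Q := fun e => hQ' (e ▸ hP)
    have hPgQ : P ≠ g • Q := fun e => hPQ (smul_left_cancel g (hP.trans e))
    have := Finset.card_le_card hsub
    rw [h2, Finset.card_eq_three.2 ⟨P, Q, g • Q, hPQ, hPgQ, Ne.symm hQ', rfl⟩] at this
    omega
  have heq : (Finset.univ.filter fun Q : Sylow 3 G => g • Q = Q)
      = Finset.univ.filter fun Q : Sylow 3 G => (g ^ 2) • Q = Q :=
    Finset.filter_congr fun Q _ => ⟨fun e => by rw [pow_two, mul_smul, e, e], hfix Q⟩
  refine ⟨heq ▸ h2, sign_of_two_fixed _ (by rw [← map_pow, hg4, map_one]) ?_ ?_⟩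
  · intro Q hQ
    rw [← map_pow] at hQ
    exact hfix Q hQ
  · have e : (MulAction.toPermHom G (Sylow 3 G) g).supportᶜ
        = Finset.univ.filter fun Q : Sylow 3 G => g • Q = Q := by
      ext Q
      simp [Equiv.Perm.mem_support, MulAction.toPermHom_apply, MulAction.toPerm_apply]
    have := congrArg Finset.card e
    rw [Finset.card_compl, heq, h2, ← Nat.card_eq_fintype_card, h.card_sylow] at this
    omega

open scoped Classical in
/-- The final contradiction. -/
theorem false : False := by
  have := Fact.mk Nat.prime_three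
  have := h.simple
  cases nonempty_fintype G
  cases nonempty_fintype (Sylow 3 G)
  let ε : G →* ℤˣ := Perm.sign.comp (MulAction.toPermHom G (Sylow 3 G))
  have hεN : ∀ n ∈ N, ε n = 1 := by
    intro n hn
    rcases Subgroup.Normal.eq_bot_or_eq_top (H := (ε.comp N.subtype).ker) inferInstance with e | e
    · exfalso
      have := Nat.card_le_card_of_injective _ (MonoidHom.ker_eq_bot_iff _ |>.1 e)
      rw [h.card, Nat.card_eq_fintype_card, Fintype.card_units_int] at this
      omega
    · have : (⟨n, hn⟩ : N) ∈ (ε.comp N.subtype).ker := by rw [e]; exact Subgroup.mem_top _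
      exact MonoidHom.mem_ker.1 this
  obtain ⟨P⟩ := Sylow.nonempty (p := 3) (G := G)
  obtain ⟨b, hb, hbN⟩ : ∃ b, b • P = P ∧ b ∉ N := by
    by_contra hne
    push Not at hne
    have := card_dvd_of_le (le_inf (le_refl (MulAction.stabilizer G P)) fun x hx => hne x hx)
    rw [h.card_stab, h.card_stab_N] at this
    norm_num at this
  have hεb : ε b = 1 := (h.outside_fixing hbN hb).2
  have hε : ∀ g : G, ε g = 1 := by
    intro g
    by_cases hgN : g ∈ N
    · exact hεN g hgN
    · have hgb : g * b ∈ N := (mul_mem_iff_of_index_two h.index).2 (iff_of_false hgN hbN)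
      have := hεN _ hgb
      rwa [map_mul, hεb, mul_one] at this
  have htwo : ∀ g : G, g ∉ N →
      (Finset.univ.filter fun Q : Sylow 3 G => g • Q = Q).card = 2 := by
    intro g hg
    by_cases hex : ∃ Q : Sylow 3 G, g • Q = Q
    · obtain ⟨Q, hQ⟩ := hex
      exact (h.outside_fixing hg hQ).1
    · push Not at hex
      exfalso
      set σ := MulAction.toPermHom G (Sylow 3 G) g with hσ
      have hσ4 : σ ^ 4 = 1 := by rw [hσ, ← map_pow, h.pow_four_eq_one hg, map_one]
      have hσx : ∀ Q, σ Q ≠ Q := hex
      by_cases hsq : ∃ Q : Sylow 3 G, (g ^ 2) • Q = Q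
      · obtain ⟨Q, hQ⟩ := hsq
        have hQg : g • Q ≠ Q := hex Q
        have hg2 : orderOf (g ^ 2) = 2 := by
          refine orderOf_eq_prime (by rw [← pow_mul]; exact h.pow_four_eq_one hg) fun e => ?_
          -- an involution outside `N` with square one has five transpositions
          have hσ2 : σ ^ 2 = 1 := by rw [hσ, ← map_pow, e, map_one]
          have : Perm.sign σ = -1 := by
            have hs : σ.support = Finset.univ := Finset.eq_univ_iff_forall.2 fun R =>
              Equiv.Perm.mem_support.2 (hσx R)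
            have hall : ∀ n ∈ σ.cycleType, n = 2 := fun n hn => by
              have := Nat.le_of_dvd (by norm_num) ((Perm.dvd_of_mem_cycleType hn).trans
                (orderOf_dvd_of_pow_eq_one hσ2))
              have := Perm.two_le_of_mem_cycleType hn
              omega
            have hsum := Perm.sum_cycleType σ
            rw [hs, Finset.card_univ, ← Nat.card_eq_fintype_card, h.card_sylow,
              Multiset.eq_replicate_card.2 hall, Multiset.sum_replicate, smul_eq_mul] at hsum
            rw [Perm.sign_of_cycleType, Multiset.eq_replicate_card.2 hall,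
              show Multiset.card σ.cycleType = 5 by omega]
            decide
          exact absurd (this.symm.trans (hε g)) (by decide)
        have h2 := h.card_fixed_involution hQ hg2
        have hF : Finset.univ.filter (fun R : Sylow 3 G => (g ^ 2) • R = R) = {Q, g • Q} := by
          refine (Finset.eq_of_subset_of_card_le ?_ (by rw [h2, Finset.card_pair (Ne.symm hQg)])).symm
          intro R hR
          simp only [Finset.mem_insert, Finset.mem_singleton] at hR
          refine Finset.mem_filter.2 ⟨Finset.mem_univ _, ?_⟩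
          rcases hR with rfl | rfl
          · exact hQ
          · rw [← mul_smul, ← pow_succ, pow_succ', mul_smul, hQ]
        set R := σ Q with hR
        have hRQ : R ≠ Q := hσx Q
        have hσR : σ R = Q := by
          show g • g • Q = Q
          rw [← mul_smul, ← pow_two, hQ]
        set τ := Equiv.swap Q R * σ with hτ
        have hτQ : τ Q = Q := by simp [hτ, Perm.mul_apply, ← hR]
        have hτR : τ R = R := by simp [hτ, Perm.mul_apply, hσR]
        have hcomm : Commute (Equiv.swap Q R) σ := by
          show Equiv.swap Q R * σ = σ * Equiv.swap Q R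
          rw [Equiv.mul_swap_eq_swap_mul, hσR, ← hR, Equiv.swap_comm]
        have hτ2 : τ ^ 2 = σ ^ 2 := by
          rw [hτ, hcomm.mul_pow, pow_two (Equiv.swap Q R), Equiv.swap_mul_self, one_mul]
        have hτs : τ.support = Finset.univ \ {Q, R} := by
          ext x
          simp only [Equiv.Perm.mem_support, Finset.mem_sdiff, Finset.mem_univ, true_and,
            Finset.mem_insert, Finset.mem_singleton]
          constructor
          · rintro hx (rfl | rfl)
            · exact hx hτQ
            · exact hx hτR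
          · intro hx hτx
            push Not at hx
            have : σ x = x := by
              have e := congrArg (Equiv.swap Q R) hτx
              simp only [hτ, Perm.mul_apply, Equiv.swap_apply_self] at e
              rw [e, Equiv.swap_apply_of_ne_of_ne hx.1 hx.2]
            exact hσx x this
        have hsign : Perm.sign τ = 1 := by
          refine sign_of_two_fixed τ (by
            rw [show (4 : ℕ) = 2 * 2 from rfl, pow_mul, hτ2, ← pow_mul]; exact hσ4) ?_ ?_
          · intro x hx
            rw [hτ2, hσ, ← map_pow] at hx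
            have hxF : x ∈ Finset.univ.filter (fun R : Sylow 3 G => (g ^ 2) • R = R) :=
              Finset.mem_filter.2 ⟨Finset.mem_univ _, hx⟩
            rw [hF, Finset.mem_insert, Finset.mem_singleton] at hxF
            rcases hxF with rfl | rfl
            · exact hτQ
            · exact hτR
          · rw [hτs, Finset.card_univ_sdiff, Finset.card_pair hRQ.symm, ← Nat.card_eq_fintype_card,
              h.card_sylow]
        rw [hτ, map_mul, Perm.sign_swap hRQ.symm, show Perm.sign σ = 1 from hε g, mul_one] at hsign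
        exact absurd hsign (by decide)
      · -- `g ^ 2` has no fixed point, yet it is a non-trivial element of `N`
        push Not at hsq
        have hN2 : g ^ 2 ∈ N := by simpa [h.index] using N.pow_index_mem g
        have hne : g ^ 2 ≠ 1 := fun e => hsq P (by rw [e, one_smul])
        set τ := MulAction.toPermHom G (Sylow 3 G) (g ^ 2) with hτ
        have hτ2 : τ ^ 2 = 1 := by
          rw [hτ, ← map_pow, ← pow_mul, h.pow_four_eq_one hg, map_one]
        have : Perm.sign τ = -1 := by
          have hs : τ.support = Finset.univ := Finset.eq_univ_iff_forall.2 fun R =>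
            Equiv.Perm.mem_support.2 (hsq R)
          have hall : ∀ n ∈ τ.cycleType, n = 2 := fun n hn => by
            have := Nat.le_of_dvd (by norm_num) ((Perm.dvd_of_mem_cycleType hn).trans
              (orderOf_dvd_of_pow_eq_one hτ2))
            have := Perm.two_le_of_mem_cycleType hn
            omega
          have hsum := Perm.sum_cycleType τ
          rw [hs, Finset.card_univ, ← Nat.card_eq_fintype_card, h.card_sylow,
            Multiset.eq_replicate_card.2 hall, Multiset.sum_replicate, smul_eq_mul] at hsum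
          rw [Perm.sign_of_cycleType, Multiset.eq_replicate_card.2 hall,
            show Multiset.card τ.cycleType = 5 by omega]
          decide
        exact absurd (this.symm.trans (hεN _ hN2)) (by decide)
  -- double counting
  have hout : (Finset.univ.filter fun g : G => g ∉ N).card = 360 := by
    rw [Finset.filter_not, Finset.card_univ_sdiff, ← Nat.card_eq_fintype_card, h.card_G,
      ← Fintype.card_subtype, ← Nat.card_eq_fintype_card]
    rw [h.card]
  have hL : ∑ g ∈ Finset.univ.filter (fun g : G => g ∉ N),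
      (Finset.univ.filter fun Q : Sylow 3 G => g • Q = Q).card = 720 := by
    rw [Finset.sum_congr rfl (g := fun _ => 2) fun g hg => htwo g (Finset.mem_filter.1 hg).2,
      Finset.sum_const, hout, smul_eq_mul]
  have hR : ∀ Q : Sylow 3 G,
      ((Finset.univ.filter fun g : G => g ∉ N).filter fun g => g • Q = Q).card = 36 := by
    intro Q
    have h1 : (Finset.univ.filter fun g : G => g • Q = Q).card = 72 := by
      rw [← Fintype.card_subtype, ← Nat.card_eq_fintype_card]; exact h.card_stab Q
    have h2 : (Finset.univ.filter fun g : G => g • Q = Q ∧ g ∈ N).card = 36 := by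
      rw [← Fintype.card_subtype, ← Nat.card_eq_fintype_card]; exact h.card_stab_N Q
    have h3 := Finset.card_filter_add_card_filter_not
      (s := Finset.univ.filter fun g : G => g • Q = Q) (fun g => g ∈ N)
    rw [Finset.filter_filter, Finset.filter_filter, h1, h2] at h3
    rw [Finset.filter_filter]
    have e : (Finset.univ.filter fun g : G => g ∉ N ∧ g • Q = Q)
        = Finset.univ.filter fun g : G => g • Q = Q ∧ g ∉ N :=
      Finset.filter_congr fun g _ => and_comm
    rw [e]; omega
  simp only [Finset.card_filter] at hL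
  rw [Finset.sum_comm] at hL
  have : ∑ Q : Sylow 3 G, ((Finset.univ.filter fun g : G => g ∉ N).filter fun g => g • Q = Q).card
      = 720 := by
    simp only [Finset.card_filter]
    exact hL
  rw [Finset.sum_congr rfl fun Q _ => hR Q, Finset.sum_const, Finset.card_univ,
    ← Nat.card_eq_fintype_card, h.card_sylow, smul_eq_mul] at this
  omega

end Hyp

end Cfsg.Agent.H70.SpecTwo
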