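import Cfsg.Prelude.Def_Exceptional
import Cfsg.Agent.H70.SpectrumIndexTwo
import Cfsg.Agent.H70.Sixty
import Cfsg.Agent.H70.SLTwoOrders
import Cfsg.Agent.H27.SixPoints
import Cfsg.Agent.H27.ProjLine
import Cfsg.Agent.S1475
import Cfsg.Agent.S2117
import Mathlib

/-!
# Case analysis for the recognition of groups with small element orders by the CN classification
-/

set_option autoImplicit false

namespace Cfsg.Agent.H70.SpecCN

open Matrix

variable {G : Type*} [Group G] [Finite G]

/-- With prime power element orders, centralisers of non-identity elements are nilpotent. -/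
theorem nilpotent_centralizer (hpp : ∀ g : G, g ≠ 1 → IsPrimePow (orderOf g)) {x : G} (hx : x ≠ 1) :
    Group.IsNilpotent (Subgroup.centralizer ({x} : Set G)) := by
  obtain ⟨p, hp, hpx⟩ := Nat.exists_prime_and_dvd (orderOf_eq_one_iff.not.2 hx)
  have := Fact.mk hp
  refine (IsPGroup.to_le (H74.EPPO.isPGroup_centralizer hpp hp
    (orderOf_pow_orderOf_div (orderOf_pos x).ne' hpx)) ?_).isNilpotent
  intro y hy
  rw [Subgroup.mem_centralizer_singleton_iff] at hy ⊢
  exact (show Commute y x from hy).pow_right _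

theorem not_solvable (hpp : ∀ g : G, g ≠ 1 → IsPrimePow (orderOf g))
    (h3 : 3 ≤ (Nat.card G).primeFactors.card) : ¬ Group.IsSolvable G := fun hs => by
  have := hs
  have := S1475.result (G := G) fun g => by
    by_cases h : g = 1
    · exact Or.inr h
    · exact Or.inl (hpp g h)
  omega

/-- `5` divides the order of a group of Suzuki order. -/
theorem five_dvd_suzuki {X : Type*} [Group X] (h : Cfsg.IsSuzuki X) : 5 ∣ Nat.card X := by
  obtain ⟨-, m, -, hc⟩ := h
  rw [hc]
  refine dvd_mul_of_dvd_left (dvd_mul_of_dvd_right (Nat.dvd_of_mod_eq_zero ?_) _) _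
  rw [Nat.add_mod, ← pow_mul, show (2 * m + 1) * 2 = 4 * m + 2 by ring, pow_add, pow_mul,
    Nat.mul_mod, Nat.pow_mod]
  norm_num

/-- A group of Suzuki order has order divisible by a prime greater than `5`. -/
theorem exists_prime_suzuki {X : Type*} [Group X] (h : Cfsg.IsSuzuki X) :
    ∃ r : ℕ, r.Prime ∧ 5 < r ∧ r ∣ Nat.card X := by
  obtain ⟨-, m, hm, hc⟩ := h
  set a := 2 ^ (2 * m + 1) - 1 with ha
  have h8 : 8 ≤ 2 ^ (2 * m + 1) := by
    calc 8 = 2 ^ 3 := rfl
      _ ≤ _ := Nat.pow_le_pow_right (by norm_num) (by omega)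
  have h2 : a % 2 = 1 := by
    have : 2 ^ (2 * m + 1) % 2 = 0 := by rw [pow_succ]; omega
    omega
  have h3 : a % 3 ≠ 0 := by
    have : 2 ^ (2 * m + 1) % 3 = 2 := by
      rw [pow_succ, pow_mul, Nat.mul_mod, Nat.pow_mod]; norm_num [Nat.mul_mod, Nat.pow_mod]
    omega
  have h5 : a % 5 ≠ 0 := by
    have : 2 ^ (2 * m + 1) % 5 = 2 ∨ 2 ^ (2 * m + 1) % 5 = 3 := by
      rw [pow_succ, pow_mul, Nat.mul_mod, Nat.pow_mod]
      obtain ⟨k, rfl | rfl⟩ := Nat.even_or_odd' m
      · left; rw [pow_mul, Nat.pow_mod]; norm_num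
      · right; rw [pow_succ, pow_mul, Nat.mul_mod, Nat.pow_mod]; norm_num [Nat.mul_mod, Nat.pow_mod]
    omega
  obtain ⟨r, hr, hra⟩ := Nat.exists_prime_and_dvd (show a ≠ 1 by omega)
  refine ⟨r, hr, ?_, hc ▸ dvd_mul_of_dvd_right hra _⟩
  by_contra hle
  have := hr.two_le
  obtain ⟨c, hc'⟩ := hra
  have : r = 2 ∨ r = 3 ∨ r = 4 ∨ r = 5 := by omega
  rcases this with rfl | rfl | rfl | rfl <;> first | omega | exact absurd hr (by norm_num)

variable {F : Type*} [Field F] [Fintype F]

theorem dvd_card_psl_two {r : ℕ} (hr : r.Prime) (h2 : r ≠ 2)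
    (h : r ∣ Fintype.card F * (Fintype.card F ^ 2 - 1)) :
    r ∣ Nat.card (ProjectiveSpecialLinearGroup (Fin 2) F) := by
  rw [← Linear.card_PSL_two_mul] at h
  refine (hr.dvd_mul.1 h).resolve_left fun hg => h2 ?_
  exact (Nat.prime_dvd_prime_iff_eq hr Nat.prime_two).1 (hg.trans (Nat.gcd_dvd_left _ _))

theorem pow_two_cases {n : ℕ} (hn : 2 ≤ n)
    (hp : ∀ r : ℕ, r.Prime → r ∣ (2 ^ n - 1) * (2 ^ n + 1) → r ≤ 5) : n = 2 := by
  obtain ⟨k, rfl | rfl⟩ := Nat.even_or_odd' n
  · -- `q + 1` is a power of five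
    have hq3 : 2 ^ (2 * k) % 3 = 1 := by rw [pow_mul, Nat.pow_mod]; norm_num
    have hq2 : 2 ^ (2 * k) % 2 = 0 := by
      rw [Nat.pow_mod, Nat.mod_self, zero_pow (by omega), Nat.zero_mod]
    have hall : ∀ r, r.Prime → r ∣ 2 ^ (2 * k) + 1 → r = 5 := by
      intro r hr hrd
      have := hp r hr (dvd_mul_of_dvd_right hrd _)
      have := hr.two_le
      obtain ⟨c, hc⟩ := hrd
      interval_cases r <;> first | rfl | omega
    obtain ⟨b, hb⟩ : ∃ b, 2 ^ (2 * k) + 1 = 5 ^ b :=
      ⟨_, Nat.eq_prime_pow_of_unique_prime_dvd (Nat.succ_ne_zero _) fun {d} hd hdv => hall d hd hdv⟩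
    obtain ⟨j, rfl | rfl⟩ := Nat.even_or_odd' b
    · have : 5 ^ (2 * j) % 3 = 1 := by rw [pow_mul, Nat.pow_mod]; norm_num
      omega
    · -- `5 ^ (2 j + 1) - 1` is four times an odd number
      have hg := geom_sum_mul_add 4 (2 * j + 1)
      have hodd : Odd (∑ i ∈ Finset.range (2 * j + 1), (4 + 1 : ℕ) ^ i) := by
        rw [Nat.odd_iff, Finset.sum_nat_mod,
          Finset.sum_congr rfl (g := fun _ => 1) fun i _ => by rw [Nat.pow_mod]; norm_num,
          Finset.sum_const, Finset.card_range, smul_eq_mul, mul_one]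
        omega
      rw [show (4 + 1 : ℕ) = 5 from rfl] at hg hodd
      have he : 2 ^ (2 * k) = (∑ i ∈ Finset.range (2 * j + 1), (5 : ℕ) ^ i) * 4 := by
        omega
      have hdiv : (∑ i ∈ Finset.range (2 * j + 1), (5 : ℕ) ^ i) ∣ 2 ^ (2 * k) := he ▸ dvd_mul_right _ _
      obtain ⟨i, -, hi⟩ := (Nat.dvd_prime_pow Nat.prime_two).1 hdiv
      rw [hi] at hodd he
      have hi0 : i = 0 := by
        by_contra hi0
        exact (Nat.not_odd_iff_even.2 (Nat.even_pow.2 ⟨even_two, hi0⟩)) hodd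
      rw [hi0] at he
      exact Nat.pow_right_injective (le_refl 2) (he.trans (by norm_num : (2 ^ 0 * 4 : ℕ) = 2 ^ 2))
  · -- `q - 1` has no admissible prime divisor
    exfalso
    set a := 2 ^ (2 * k + 1) - 1 with ha
    have h8 : 8 ≤ 2 ^ (2 * k + 1) := by
      calc 8 = 2 ^ 3 := rfl
        _ ≤ _ := Nat.pow_le_pow_right (by norm_num) (by omega)
    have h2 : 2 ^ (2 * k + 1) % 2 = 0 := by rw [pow_succ]; omega
    have h3 : 2 ^ (2 * k + 1) % 3 = 2 := by
      rw [pow_succ, pow_mul, Nat.mul_mod, Nat.pow_mod]; norm_num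
    have h5 : 2 ^ (2 * k + 1) % 5 = 2 ∨ 2 ^ (2 * k + 1) % 5 = 3 := by
      rw [pow_succ, pow_mul, Nat.mul_mod, Nat.pow_mod]
      obtain ⟨j, rfl | rfl⟩ := Nat.even_or_odd' k
      · left; rw [pow_mul, Nat.pow_mod]; norm_num
      · right; rw [pow_succ, pow_mul, Nat.mul_mod, Nat.pow_mod]; norm_num [Nat.mul_mod, Nat.pow_mod]
    obtain ⟨r, hr, hra⟩ := Nat.exists_prime_and_dvd (show a ≠ 1 by omega)
    have := hp r hr (dvd_mul_of_dvd_left hra _)
    have := hr.two_le
    obtain ⟨c, hc⟩ := hra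
    interval_cases r <;> omega

theorem iso_alt_five_of_simple {X : Type*} [Group X] [Finite X] [IsSimpleGroup X]
    (hX : Nat.card X = 60) : Nonempty (X ≃* alternatingGroup (Fin 5)) := by
  have := Fact.mk (by norm_num : Nat.Prime 5)
  have hne : Nat.card (Sylow 5 X) ≠ 1 :=
    H36.card_sylow_ne_one (by rw [hX]; norm_num) fun k e => by
      rw [hX] at e
      have h2 : 2 ∣ 5 ^ k := ⟨30, by rw [← e]⟩
      exact absurd (Nat.prime_two.dvd_of_dvd_pow h2) (by norm_num)
  obtain ⟨-, h6⟩ := H70.simple_of_card_sixty hX hne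
  have hinj : Function.Injective (MulAction.toPermHom X (Sylow 5 X)) := by
    rw [← MonoidHom.ker_eq_bot_iff]
    refine (IsSimpleGroup.eq_bot_or_eq_top_of_normal _ inferInstance).resolve_right fun h => hne ?_
    rw [Nat.card_eq_one_iff_unique]
    refine ⟨⟨fun P Q => ?_⟩, inferInstance⟩
    obtain ⟨g, rfl⟩ := MulAction.exists_smul_eq X P Q
    have hg : g ∈ (MulAction.toPermHom X (Sylow 5 X)).ker := h ▸ Subgroup.mem_top g
    exact (Equiv.congr_fun (MonoidHom.mem_ker.mp hg) P).symm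
  exact H27.ProjLine.equiv_alternating_five (MulAction.toPermHom X (Sylow 5 X)) hinj h6 hX

theorem iso_alt_five_psl_four (h : Fintype.card F = 4) :
    Nonempty (ProjectiveSpecialLinearGroup (Fin 2) F ≃* alternatingGroup (Fin 5)) := by
  refine H27.ProjLine.psl_two_equiv_alternating (n := 5) (by rw [h]) ?_
  have := Linear.card_PSL_two_mul (F := F)
  rw [h] at this
  norm_num [Nat.factorial] at this ⊢
  omega

theorem no_order_four_alt_five : ∀ g : alternatingGroup (Fin 5), g ^ 4 = 1 → g ^ 2 = 1 := by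
  decide +kernel

theorem no_order_four {X : Type*} [Group X] (e : X ≃* alternatingGroup (Fin 5)) (x : X) :
    orderOf x ≠ 4 := by
  intro hx
  have h := no_order_four_alt_five (e x) (by rw [← map_pow, ← hx, pow_orderOf_eq_one, map_one])
  rw [← map_pow] at h
  have := orderOf_dvd_of_pow_eq_one ((map_eq_one_iff e e.injective).1 h)
  rw [hx] at this
  norm_num at this

theorem dvd_card_psl_three_four {r : ℕ} (hr : r = 5 ∨ r = 7) (h : Fintype.card F = 4) :
    r ∣ Nat.card (ProjectiveSpecialLinearGroup (Fin 3) F) := by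
  have := Linear.card_PSL_mul (F := F) 3 (by norm_num)
  rw [h, Fin.prod_univ_three] at this
  norm_num at this
  rcases hr with rfl | rfl <;> omega

/-- The element of order `q + 1` in `PSL₂(q)`, `q` even. -/
theorem exists_order_succ_psl {n : ℕ} (h : Fintype.card F = 2 ^ n) :
    ∃ x : ProjectiveSpecialLinearGroup (Fin 2) F, orderOf x = Fintype.card F + 1 := by
  obtain ⟨a, ha⟩ := S2117.exists_order_succ (F := F)
  have hc : Subgroup.center (SpecialLinearGroup (Fin 2) F) = ⊥ := by
    rw [← Subgroup.card_eq_one, Linear.card_center_SL, Fintype.card_fin]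
    have hn : n ≠ 0 := by
      rintro rfl
      exact absurd h (Fintype.one_lt_card (α := F)).ne'
    refine Nat.Coprime.gcd_eq_one ((Nat.prime_two.coprime_iff_not_dvd).2 ?_)
    rw [h]
    intro hd
    have : 2 ∣ 2 ^ n := dvd_pow_self 2 hn
    have : 1 ≤ 2 ^ n := Nat.one_le_two_pow
    omega
  refine ⟨QuotientGroup.mk' _ a, ?_⟩
  rw [orderOf_injective (QuotientGroup.mk' _) ?_ a, ha]
  rw [← MonoidHom.ker_eq_bot_iff, QuotientGroup.ker_mk', hc]

theorem mem_center_of_sq {a : SpecialLinearGroup (Fin 2) F} (h2 : (2 : F) ≠ 0) (ha : a ^ 2 = 1) :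
    a ∈ Subgroup.center (SpecialLinearGroup (Fin 2) F) := by
  have hm := H70.sq_eq_trace_smul a
  have h1 : (a : Matrix (Fin 2) (Fin 2) F) ^ 2 = 1 := by
    exact (Matrix.SpecialLinearGroup.coe_pow a 2).symm.trans (congrArg Subtype.val ha)
  rw [h1, eq_sub_iff_add_eq] at hm
  set t := a 0 0 + a 1 1
  have ht : t ≠ 0 := fun h => by
    rw [h, zero_smul] at hm
    have := congrFun (congrFun hm 0) 0
    simp at this
    exact h2 (by linear_combination this)
  have hsc : (a : Matrix (Fin 2) (Fin 2) F) = Matrix.scalar (Fin 2) (2 / t) := by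
    ext i j
    have := congrFun (congrFun hm i) j
    fin_cases i <;> fin_cases j <;> simp at this ⊢ <;> first
      | (field_simp; linear_combination (-1 : F) * this)
      | exact this.resolve_left ht
  refine Matrix.SpecialLinearGroup.mem_center_iff.2 ⟨2 / t, ?_, hsc.symm⟩
  have := congrArg Matrix.det hsc
  rw [a.2, Matrix.scalar_apply, Matrix.det_diagonal, Finset.prod_const] at this
  simpa using this.symm

/-- The elements of order `(q + 1) / 2` and `(q - 1) / 2` in `PSL₂(q)`, `q` odd. -/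
theorem exists_order_half_psl (hodd : Fintype.card F % 2 = 1) (plus : Bool) :
    ∃ x : ProjectiveSpecialLinearGroup (Fin 2) F,
      orderOf x = (if plus then Fintype.card F + 1 else Fintype.card F - 1) / 2 := by
  set m := (if plus then Fintype.card F + 1 else Fintype.card F - 1) with hm
  have h1 : 1 < Fintype.card F := Fintype.one_lt_card
  have hm2 : m = 2 * (m / 2) := by cases plus <;> simp [hm] <;> omega
  have h2 : (2 : F) ≠ 0 := by
    refine Ring.two_ne_zero fun hc => ?_
    have := ringChar.of_eq (R := F) (p := 2)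
    have : 2 ∣ Fintype.card F := by
      obtain ⟨n, -, hn⟩ := FiniteField.card F (ringChar F)
      rw [hn, hc]
      exact dvd_pow_self 2 n.pos.ne'
    omega
  obtain ⟨a, ha⟩ : ∃ a : SpecialLinearGroup (Fin 2) F, orderOf a = m := by
    cases plus
    · obtain ⟨g, hg⟩ := IsCyclic.exists_ofOrder_eq_natCard (α := Fˣ)
      refine ⟨S2117.tor g, ?_⟩
      rw [orderOf_injective _ S2117.tor_injective, hg, Nat.card_units, Nat.card_eq_fintype_card]
      simp [hm]
    · simpa [hm] using S2117.exists_order_succ (F := F)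
  refine ⟨QuotientGroup.mk' _ a, Nat.dvd_antisymm ?_ ?_⟩
  · rw [orderOf_dvd_iff_pow_eq_one, ← map_pow, QuotientGroup.mk'_apply, QuotientGroup.eq_one_iff]
    refine mem_center_of_sq h2 ?_
    rw [← pow_mul, mul_comm, ← hm2, ← ha, pow_orderOf_eq_one]
  · set j := orderOf (QuotientGroup.mk' (Subgroup.center (SpecialLinearGroup (Fin 2) F)) a) with hj
    have hc : a ^ j ∈ Subgroup.center (SpecialLinearGroup (Fin 2) F) := by
      rw [← QuotientGroup.eq_one_iff, ← QuotientGroup.mk'_apply, map_pow, hj, pow_orderOf_eq_one]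
    have hcc : Nat.card (Subgroup.center (SpecialLinearGroup (Fin 2) F)) ∣ 2 := by
      rw [Linear.card_center_SL, Fintype.card_fin]
      exact Nat.gcd_dvd_left _ _
    have : (a ^ j) ^ 2 = 1 := by
      obtain ⟨c, hc2⟩ := hcc
      refine (congrArg ((a ^ j) ^ ·) hc2).trans ?_
      rw [pow_mul]
      rw [show (a ^ j) ^ Nat.card (Subgroup.center (SpecialLinearGroup (Fin 2) F)) = 1 from
        congrArg Subtype.val (pow_card_eq_one'
          (x := (⟨a ^ j, hc⟩ : Subgroup.center (SpecialLinearGroup (Fin 2) F)))), one_pow]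
    rw [← pow_mul, mul_comm, ← orderOf_dvd_iff_pow_eq_one, ha, hm2] at this
    exact Nat.dvd_of_mul_dvd_mul_left (by norm_num) this

end Cfsg.Agent.H70.SpecCN
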