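import Cfsg.Agent.H70.AffineAltFive
import Cfsg.Agent.H70.SpectrumCN
import Mathlib

/-!
# Constructing the module data from element orders, and from the affine group over four elements
-/

set_option autoImplicit false
set_option linter.unusedSectionVars false

namespace Cfsg.Agent.H70.AffA5

open Matrix

theorem exists_inverted : ∃ c : A5, orderOf c = 3 ∧ (H66.x5 * H66.y5) * c * (H66.x5 * H66.y5)⁻¹ = c⁻¹ := by
  have h : ∃ c : A5, c ≠ 1 ∧ c ^ 3 = 1 ∧ (H66.x5 * H66.y5) * c * (H66.x5 * H66.y5)⁻¹ = c⁻¹ := by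
    decide +kernel
  obtain ⟨c, h1, h3, h⟩ := h
  exact ⟨c, orderOf_eq_prime (hp := ⟨Nat.prime_three⟩) h3 h1, h⟩

theorem card_A5 : Nat.card A5 = 60 := by
  rw [nat_card_alternatingGroup, Nat.card_eq_fintype_card, Fintype.card_fin]
  rfl

variable {G : Type*} [Group G] [Finite G]

/-- A group with element orders at most five, an elementary abelian normal 2-subgroup and quotient
`A₅` carries module data. -/
theorem exists_data (hpp : ∀ g : G, g ≠ 1 → IsPrimePow (orderOf g)) (h5 : ∀ g : G, orderOf g ≤ 5)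
    (N : Subgroup G) [N.Normal] (hne : N ≠ ⊥) (hc : ∀ a ∈ N, ∀ b ∈ N, a * b = b * a)
    (hsq : ∀ a ∈ N, a * a = 1) (e : G ⧸ N ≃* A5) : ∃ D : Data G, D.N = N := by
  let q : G →* A5 := e.toMonoidHom.comp (QuotientGroup.mk' N)
  have hq : Function.Surjective q := e.surjective.comp (QuotientGroup.mk'_surjective N)
  have hker : ∀ g, q g = 1 ↔ g ∈ N := fun g =>
    (map_eq_one_iff e e.injective).trans (QuotientGroup.eq_one_iff g)
  have hord : ∀ g r, (r = 3 ∨ r = 5) → orderOf (q g) = r → orderOf g = r := by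
    intro g r hr h
    obtain ⟨c, hc⟩ := h ▸ orderOf_map_dvd q g
    have := h5 g
    have := orderOf_pos g
    rcases hr with rfl | rfl <;> omega
  have hfpf : ∀ g r, (r = 3 ∨ r = 5) → orderOf (q g) = r → ∀ n ∈ N, Commute n g → n = 1 := by
    intro g r hr h n hn hng
    by_contra hn1
    have hg : g = 1 := SpecTwo.eq_one_of_commute hpp Nat.prime_two hng hn1 (k := 1)
      (by rw [pow_one, pow_two]; exact hsq n hn)
      (by rw [hord g r hr h]; rcases hr with rfl | rfl <;> decide)
    rw [hg, map_one, orderOf_one] at h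
    rcases hr with rfl | rfl <;> omega
  -- conjugates of an element of order three fill its coset
  have hcoset : ∀ g, orderOf (q g) = 3 → ∀ g', q g' = q g → ∃ n ∈ N, n * g * n⁻¹ = g' := by
    intro g h g' hg'
    let f : N → N := fun n => ⟨(n : G) * g * (n : G)⁻¹ * g⁻¹, by
      rw [mul_assoc, mul_assoc]
      refine N.mul_mem n.2 ?_
      rw [← mul_assoc]
      exact (inferInstance : N.Normal).conj_mem _ (N.inv_mem n.2) g⟩
    have hf : Function.Injective f := by
      intro n m h'
      have h1 : (n : G) * g * (n : G)⁻¹ = m * g * (m : G)⁻¹ :=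
        mul_right_cancel (congrArg Subtype.val h')
      have h2 : Commute ((m : G)⁻¹ * n) g := by
        show (m : G)⁻¹ * n * g = g * ((m : G)⁻¹ * n)
        calc (m : G)⁻¹ * n * g = (m : G)⁻¹ * ((n : G) * g * (n : G)⁻¹) * n := by group
          _ = g * ((m : G)⁻¹ * n) := by rw [h1]; group
      exact Subtype.ext (inv_mul_eq_one.1
        (hfpf g 3 (Or.inl rfl) h _ (N.mul_mem (N.inv_mem m.2) n.2) h2)).symm
    obtain ⟨n, hn⟩ := Finite.surjective_of_injective hf
      ⟨g' * g⁻¹, (hker _).1 (by rw [map_mul, map_inv, hg', mul_inv_cancel])⟩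
    exact ⟨n, n.2, mul_right_cancel (congrArg Subtype.val hn)⟩
  -- an involution over `x y`
  obtain ⟨c, hc3, hcu⟩ := exists_inverted
  obtain ⟨C, rfl⟩ := hq c
  obtain ⟨g, hg⟩ := hq (H66.x5 * H66.y5)
  obtain ⟨n, hn, hnC⟩ := hcoset (g * C * g⁻¹)
    (by rw [map_mul, map_mul, map_inv, hg, hcu, orderOf_inv, hc3]) C⁻¹
    (by rw [map_mul, map_mul, map_inv, map_inv, hg, hcu])
  set T := n * g with hT
  have hTC : T * C * T⁻¹ = C⁻¹ := by rw [hT, ← hnC]; group
  have hqT : q T = H66.x5 * H66.y5 := by rw [hT, map_mul, (hker n).2 hn, one_mul, hg]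
  have hT2 : T * T = 1 := by
    refine hfpf C 3 (Or.inl rfl) hc3 _
      ((hker _).1 (by rw [map_mul, hqT, ← pow_two, H66.x5y5_pow])) ?_
    show T * T * C = C * (T * T)
    calc T * T * C = T * (T * C * T⁻¹) * T := by group
      _ = T * C⁻¹ * T⁻¹ * (T * T) := by rw [hTC]; group
      _ = (T * C * T⁻¹)⁻¹ * (T * T) := by group
      _ = C * (T * T) := by rw [hTC, inv_inv]
  obtain ⟨X, hX⟩ := hq H66.x5
  set Y := X⁻¹ * T with hY
  have hqY : q Y = H66.y5 := by rw [hY, map_mul, map_inv, hX, hqT]; group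
  have hoX : orderOf X = 3 := hord X 3 (Or.inl rfl) (hX ▸
    orderOf_eq_prime (hp := ⟨Nat.prime_three⟩) H66.x5_pow (by decide +kernel))
  have hoY : orderOf Y = 5 := hord Y 5 (Or.inr rfl) (hqY ▸
    orderOf_eq_prime (hp := ⟨by norm_num⟩) H66.y5_pow (by decide +kernel))
  let K : Subgroup G := Subgroup.closure {X, Y}
  let X' : K := ⟨X, Subgroup.subset_closure (by simp)⟩
  let Y' : K := ⟨Y, Subgroup.subset_closure (by simp)⟩
  have hK60 : Nat.card K ≤ 60 := (H66.card_triangle235_le X' Y'
    (Subtype.ext (by show X ^ 3 = 1; rw [← hoX, pow_orderOf_eq_one]))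
    (Subtype.ext (by show Y ^ 5 = 1; rw [← hoY, pow_orderOf_eq_one]))
    (Subtype.ext (by show (X * Y) ^ 2 = 1; rw [hY, mul_inv_cancel_left, pow_two, hT2]))
    (by
      refine (Subgroup.map_injective K.subtype_injective) ?_
      rw [MonoidHom.map_closure, ← MonoidHom.range_eq_map, Subgroup.range_subtype]
      simp [Set.image_pair, K, X', Y'])).2
  let r : K →* A5 := q.comp K.subtype
  have hr : Function.Surjective r := by
    rw [← MonoidHom.range_eq_top, eq_top_iff, ← H66.closure_x5_y5, Subgroup.closure_le]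
    rintro x (rfl | rfl)
    · exact ⟨X', hX⟩
    · exact ⟨Y', hqY⟩
  have hbij : Function.Bijective r :=
    hr.bijective_of_nat_card_le (by rw [card_A5]; exact hK60)
  let ι : A5 →* G := K.subtype.comp (MulEquiv.ofBijective r hbij).symm.toMonoidHom
  have hqι : ∀ k, q (ι k) = k := fun k => (MulEquiv.ofBijective r hbij).apply_symm_apply k
  refine ⟨{ N := N, normal := inferInstance, comm := hc, sq := hsq, nontriv := hne, ι := ι,
            meet := fun k hk => by rw [← hqι k, (hker _).2 hk]
            join := fun g => ⟨g * (ι (q g))⁻¹, (hker _).1 (by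
              rw [map_mul, map_inv, hqι, mul_inv_cancel]), q g, by rw [inv_mul_cancel_right]⟩
            fpf := fun k hk n hn hc' => ?_ }, rfl⟩
  rcases hk with hk | hk
  · exact hfpf _ 3 (Or.inl rfl) (by rw [hqι, hk]) n hn hc'
  · exact hfpf _ 5 (Or.inr rfl) (by rw [hqι, hk]) n hn hc'

section Model

variable {F : Type*} [Field F] [Fintype F]

/-- The affine group of the plane. -/
def affine (F : Type*) [Field F] : Subgroup (Matrix.SpecialLinearGroup (Fin 3) F) :=
  Subgroup.closure {M | (M : Matrix (Fin 3) (Fin 3) F) 2 0 = 0 ∧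
    (M : Matrix (Fin 3) (Fin 3) F) 2 1 = 0 ∧ (M : Matrix (Fin 3) (Fin 3) F) 2 2 = 1}

theorem affine_row (M : affine F) : (M : Matrix (Fin 3) (Fin 3) F) 2 0 = 0 ∧
    (M : Matrix (Fin 3) (Fin 3) F) 2 1 = 0 ∧ (M : Matrix (Fin 3) (Fin 3) F) 2 2 = 1 := by
  refine Subgroup.closure_induction (p := fun (A : Matrix.SpecialLinearGroup (Fin 3) F) _ => (A : Matrix (Fin 3) (Fin 3) F) 2 0 = 0 ∧
    (A : Matrix (Fin 3) (Fin 3) F) 2 1 = 0 ∧ (A : Matrix (Fin 3) (Fin 3) F) 2 2 = 1)
    (fun A h => h) (by simp) (fun A B _ _ hA hB => ?_) (fun A _ hA => ?_) M.2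
  · simp [Matrix.SpecialLinearGroup.coe_mul, Matrix.mul_apply, Fin.sum_univ_three,
      hA.1, hA.2.1, hA.2.2, hB.1, hB.2.1, hB.2.2]
  · have h : (A : Matrix (Fin 3) (Fin 3) F) * (A⁻¹ : Matrix.SpecialLinearGroup (Fin 3) F) = 1 := by
      rw [← Matrix.SpecialLinearGroup.coe_mul, mul_inv_cancel]; rfl
    have e : ∀ j, ((A⁻¹ : Matrix.SpecialLinearGroup (Fin 3) F) : Matrix (Fin 3) (Fin 3) F) 2 j
        = (1 : Matrix (Fin 3) (Fin 3) F) 2 j := fun j => by
      have := congrFun (congrFun h 2) j
      simpa [Matrix.mul_apply, Fin.sum_univ_three, hA.1, hA.2.1, hA.2.2] using this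
    exact ⟨by rw [e]; simp, by rw [e]; simp, by rw [e]; simp⟩

/-- The linear part. -/
def blockFun (M : affine F) : Matrix.SpecialLinearGroup (Fin 2) F :=
  ⟨!![(M : Matrix (Fin 3) (Fin 3) F) 0 0, (M : Matrix (Fin 3) (Fin 3) F) 0 1;
      (M : Matrix (Fin 3) (Fin 3) F) 1 0, (M : Matrix (Fin 3) (Fin 3) F) 1 1], by
    have h := (M : Matrix.SpecialLinearGroup (Fin 3) F).2
    obtain ⟨h0, h1, h2⟩ := affine_row M
    rw [Matrix.det_fin_three, h0, h1, h2] at h
    rw [Matrix.det_fin_two_of]
    linear_combination h⟩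

/-- The linear part, as a homomorphism. -/
def block : affine F →* Matrix.SpecialLinearGroup (Fin 2) F :=
  MonoidHom.mk' blockFun fun M M' => by
    obtain ⟨h0, h1, -⟩ := affine_row M'
    apply Subtype.ext
    rw [Matrix.SpecialLinearGroup.coe_mul]
    ext i j
    fin_cases i <;> fin_cases j <;>
      simp [blockFun, Matrix.mul_apply, Fin.sum_univ_three, h0, h1]

theorem det_pad (A : Matrix.SpecialLinearGroup (Fin 2) F) :
    (!![A 0 0, A 0 1, 0; A 1 0, A 1 1, 0; 0, 0, 1] : Matrix (Fin 3) (Fin 3) F).det = 1 := by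
  have := A.2
  rw [Matrix.det_fin_two] at this
  simpa [Matrix.det_fin_three] using this

/-- A linear map padded to three dimensions. -/
def pad (A : Matrix.SpecialLinearGroup (Fin 2) F) : Matrix.SpecialLinearGroup (Fin 3) F :=
  ⟨!![A 0 0, A 0 1, 0; A 1 0, A 1 1, 0; 0, 0, 1], det_pad A⟩

theorem coe_pad (A : Matrix.SpecialLinearGroup (Fin 2) F) :
    (pad A : Matrix (Fin 3) (Fin 3) F) = !![A 0 0, A 0 1, 0; A 1 0, A 1 1, 0; 0, 0, 1] := rfl

theorem pad_mem (A : Matrix.SpecialLinearGroup (Fin 2) F) : pad A ∈ affine F :=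
  Subgroup.subset_closure ⟨rfl, rfl, rfl⟩

theorem pad_mul (A B : Matrix.SpecialLinearGroup (Fin 2) F) : pad (A * B) = pad A * pad B := by
  apply Subtype.ext
  rw [Matrix.SpecialLinearGroup.coe_mul, coe_pad, coe_pad, coe_pad,
    Matrix.SpecialLinearGroup.coe_mul]
  ext i j
  fin_cases i <;> fin_cases j <;> simp [Matrix.mul_apply, Fin.sum_univ_three, Fin.sum_univ_two]

/-- A linear map as an affine map. -/
def incl : Matrix.SpecialLinearGroup (Fin 2) F →* affine F :=
  MonoidHom.mk' (fun A => ⟨pad A, pad_mem A⟩) fun A B => Subtype.ext (pad_mul A B)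

theorem block_incl (A : Matrix.SpecialLinearGroup (Fin 2) F) : block (incl A) = A := by
  apply Subtype.ext
  ext i j
  fin_cases i <;> fin_cases j <;> simp [block, incl, blockFun, coe_pad]

/-- The translation vector. -/
def shift (M : affine F) : Fin 2 → F :=
  ![(M : Matrix (Fin 3) (Fin 3) F) 0 2, (M : Matrix (Fin 3) (Fin 3) F) 1 2]

theorem shift_mul (M M' : affine F) :
    shift (M * M') = (block M : Matrix (Fin 2) (Fin 2) F) *ᵥ shift M' + shift M := by
  obtain ⟨-, -, h2⟩ := affine_row M'
  funext i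
  fin_cases i <;>
    simp [shift, block, blockFun, Matrix.mul_apply, Fin.sum_univ_three, h2] <;> ring

theorem ext_block {M M' : affine F} (h : block M = block M') (h' : shift M = shift M') :
    M = M' := by
  obtain ⟨a0, a1, a2⟩ := affine_row M
  obtain ⟨b0, b1, b2⟩ := affine_row M'
  have hb : ∀ i j, (block M : Matrix (Fin 2) (Fin 2) F) i j = (block M' : Matrix (Fin 2) (Fin 2) F) i j :=
    fun i j => by rw [h]
  apply Subtype.ext; apply Subtype.ext
  ext i j
  fin_cases i <;> fin_cases j
  · simpa [block, blockFun] using hb 0 0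
  · simpa [block, blockFun] using hb 0 1
  · simpa [shift] using congrFun h' 0
  · simpa [block, blockFun] using hb 1 0
  · simpa [block, blockFun] using hb 1 1
  · simpa [shift] using congrFun h' 1
  · simp [a0, b0]
  · simp [a1, b1]
  · simp [a2, b2]

theorem shift_one : shift (1 : affine F) = 0 := by
  funext i; fin_cases i <;> simp [shift]

theorem shift_incl (A : Matrix.SpecialLinearGroup (Fin 2) F) : shift (incl A) = 0 := by
  funext i; fin_cases i <;> simp [shift, incl, coe_pad]

theorem shift_mul_ker {M M' : affine F} (hM : block M = 1) :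
    shift (M * M') = shift M' + shift M := by
  rw [shift_mul, hM]
  simp

/-- The affine group over four elements carries spanning module data. -/
theorem exists_model (hF : Fintype.card F = 4) :
    ∃ D : Data (affine F), Function.Surjective D.psi := by
  classical
  have hchar : CharP F 2 := by
    obtain ⟨n, hp, hn⟩ := FiniteField.card F (ringChar F)
    have hd : ringChar F ∣ 2 ^ 2 := by
      rw [show (2 : ℕ) ^ 2 = 4 from rfl, ← hF, hn]
      exact dvd_pow_self _ n.pos.ne'
    have := (Nat.prime_dvd_prime_iff_eq hp Nat.prime_two).1 (hp.dvd_of_dvd_pow hd)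
    exact this ▸ ringChar.charP F
  have hcent : Subgroup.center (Matrix.SpecialLinearGroup (Fin 2) F) = ⊥ := by
    rw [← Subgroup.card_eq_one, Linear.card_center_SL, Fintype.card_fin, hF]
    rfl
  obtain ⟨e₀⟩ := SpecCN.iso_alt_five_psl_four hF
  let s : Matrix.SpecialLinearGroup (Fin 2) F ≃* A5 :=
    (MulEquiv.ofBijective (QuotientGroup.mk' (Subgroup.center _))
      ⟨(MonoidHom.ker_eq_bot_iff _).1 (by rw [QuotientGroup.ker_mk', hcent]),
        QuotientGroup.mk'_surjective _⟩).trans e₀
  let t : A5 →* affine F := (incl (F := F)).comp s.symm.toMonoidHom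
  let T : Subgroup (affine F) := (block (F := F)).ker
  have hTmem : ∀ {M : affine F}, M ∈ T → block M = 1 := fun h => MonoidHom.mem_ker.1 h
  have h2 : (2 : F) = 0 := CharTwo.two_eq_zero
  have hsq : ∀ a ∈ T, a * a = 1 := fun a ha => by
    refine ext_block (by rw [map_mul, hTmem ha, map_one, one_mul]) ?_
    rw [shift_mul_ker (hTmem ha), shift_one]
    funext i
    simp only [Pi.add_apply, Pi.zero_apply]
    linear_combination (shift a i) * h2
  let v : Fin 2 → F := ![1, 0]
  let tv : affine F := ⟨⟨!![1, 0, 1; 0, 1, 0; 0, 0, 1], by simp [Matrix.det_fin_three]⟩,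
    Subgroup.subset_closure (by exact ⟨rfl, rfl, rfl⟩)⟩
  have htv : tv ∈ T := by
    refine MonoidHom.mem_ker.2 (Subtype.ext ?_)
    ext i j
    fin_cases i <;> fin_cases j <;> simp [tv, block, blockFun]
  let D : Data (affine F) :=
    { N := T
      normal := inferInstance
      comm := fun a ha b hb => ext_block
        (by rw [map_mul, map_mul, hTmem ha, hTmem hb])
        (by rw [shift_mul_ker (hTmem ha), shift_mul_ker (hTmem hb), add_comm])
      sq := hsq
      nontriv := fun h => by
        have : tv = 1 := Subgroup.mem_bot.1 (h ▸ htv)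
        have := congrArg (fun M => shift M 0) this
        simp [shift, tv] at this
      ι := t
      meet := fun k hk => by
        have := hTmem hk
        rw [show t k = incl (s.symm k) from rfl, block_incl] at this
        exact s.symm.map_eq_one_iff.1 this
      join := fun g => ⟨g * (t (s (block g)))⁻¹, MonoidHom.mem_ker.2 (by
        rw [map_mul, map_inv, show t (s (block g)) = incl (s.symm (s (block g))) from rfl,
          block_incl, MulEquiv.symm_apply_apply, mul_inv_cancel]), s (block g),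
        by rw [inv_mul_cancel_right]⟩
      fpf := fun k hk n hn hc => by
        have h := congrArg shift (show n * t k = t k * n from hc)
        rw [shift_mul_ker (hTmem hn), shift_mul, show t k = incl (s.symm k) from rfl,
          shift_incl, block_incl, zero_add, add_zero] at h
        by_contra hn1
        have hv : shift n ≠ 0 := fun e => hn1 (ext_block (by rw [hTmem hn, map_one])
          (by rw [e, shift_one]))
        have h2 := H70.sq_eq_one_of_fixed (s.symm k) (shift n) hv h.symm
        have := orderOf_dvd_of_pow_eq_one h2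
        rw [MulEquiv.orderOf_eq] at this
        rcases hk with hk | hk <;> rw [hk] at this <;> norm_num at this }
  refine ⟨D, (Function.Injective.bijective_of_nat_card_le D.psi_injective ?_).2⟩
  have hinj : Function.Injective fun n : D.N => shift (n : affine F) := fun a b h =>
    Subtype.ext (ext_block (by rw [hTmem a.2, hTmem b.2]) h)
  calc Nat.card D.N ≤ Nat.card (Fin 2 → F) := Nat.card_le_card_of_injective _ hinj
    _ = Nat.card V4 := by simp [Nat.card_eq_fintype_card, hF]

end Model

end Cfsg.Agent.H70.AffA5
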