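import Mathlib

/-!
The equations of the two involution classes determine the degrees.
-/

set_option autoImplicit false

namespace Cfsg.Agent.H70.CubeFold

/-- The unknowns at the two classes, the degrees, and their equations. -/
structure Sys (F : Type*) [Field F] where
  (η δ ζ ε U W C r c a x y D D2 : F)
  ha : a = x + y
  hc : c = r + a
  hD : D = 1 + r + x
  hD2 : D2 = 1 + y + c
  (hU : U ≠ 0) (hW : W ≠ 0) (hC : C ≠ 0)
  (hr0 : r ≠ 0) (hc0 : c ≠ 0) (ha0 : a ≠ 0) (hx0 : x ≠ 0) (hy0 : y ≠ 0)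
  (hD0 : D ≠ 0) (hD20 : D2 ≠ 0)
  hUW : C ^ 2 = U * W
  hθ : δ ^ 2 * (c - r) = 3 * U * (r * c)
  hφ : ε ^ 2 * a = 3 * W * (x * y)
  q11 : (η ^ 2 - 3 * U) * r * D + δ ^ 2 * D - (η + δ) ^ 2 * r = 0
  q12 : η * ζ * D - (η + δ) * (ζ + ε) = 3 * C * D
  q22 : (ζ ^ 2 - 6 * W) * x * D + ε ^ 2 * D - (ζ + ε) ^ 2 * x = 0
  b11 : (2 * η ^ 2 - 3 * U) * c * D2 + 2 * δ ^ 2 * D2 - 2 * (η + δ) ^ 2 * c = 0
  b12 : 2 * (η * ζ * D2 - (η + δ) * (ζ - ε)) = 3 * C * D2
  b22 : (2 * ζ ^ 2 - 9 * W) * y * D2 + 2 * ε ^ 2 * D2 - 2 * (ζ - ε) ^ 2 * y = 0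
  /-- Integrality. -/
  hDint : D ^ 4 + 5 * D ^ 2 + 10 * D + 8 ≠ 0
  hyint : 3 * y ≠ 1

namespace Sys

variable {F : Type*} [Field F] [CharZero F] (S : Sys F)

theorem c_sub : S.c - S.r = S.a := by linear_combination S.hc

theorem D2_eq : S.D2 = S.D + 2 * S.y := by
  linear_combination S.hD2 + S.hc + S.ha - S.hD

theorem c_eq : S.c = S.D + S.y - 1 := by
  linear_combination S.hc + S.ha - S.hD

theorem eq_one : 4 * S.y * (S.η + S.δ) ^ 2 = 3 * S.D * S.D2 * S.U := by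
  refine mul_left_cancel₀ (mul_ne_zero S.hr0 S.hc0) ?_
  linear_combination (S.r * S.D) * S.b11 - (2 * S.c * S.D2) * S.q11 +
    (-2 * S.r * S.c * (S.η + S.δ) ^ 2) * S.D2_eq + (2 * S.D * S.D2) * S.hθ

theorem E_ne : S.η + S.δ ≠ 0 := by
  intro e
  have h := S.eq_one
  rw [e] at h
  exact mul_ne_zero (mul_ne_zero (mul_ne_zero (three_ne_zero' F) S.hD0) S.hD20) S.hU
    (by linear_combination -h)
where
  three_ne_zero' (F : Type _) [Field F] [CharZero F] : (3 : F) ≠ 0 := by norm_num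

theorem η_ne : S.η ≠ 0 := by
  intro e
  have hδ : S.δ ≠ 0 := fun h => S.E_ne (by rw [e, h, add_zero])
  have h11 := S.q11
  rw [e] at h11
  have hDc : S.D = S.c := by
    have h : S.δ ^ 2 * (S.c - S.r) * (S.D - S.r) = S.δ ^ 2 * (S.c - S.r) * (S.c - S.r) +
        S.δ ^ 2 * (S.c - S.r) * (S.D - S.c) := by ring
    have h2 : 3 * S.U * S.r * (S.D - S.c) * S.r = 0 := by
      linear_combination (S.c - S.r) * h11 - (S.D - S.r) * S.hθ
    have := mul_eq_zero.mp ((mul_eq_zero.mp h2).resolve_right S.hr0)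
    exact sub_eq_zero.mp (this.resolve_left
      (mul_ne_zero (mul_ne_zero (by norm_num) S.hU) S.hr0))
  have hy : S.y = 1 := by linear_combination -(S.c_eq) - hDc
  have ha1 : S.a = S.x + 1 := by rw [S.ha, hy]
  have hD2 : S.D2 = S.D + 2 := by rw [S.D2_eq, hy]; ring
  have hE := S.eq_one
  rw [e, hy, zero_add] at hE
  have h12 := S.q12
  have g12 := S.b12
  rw [e, zero_add, zero_mul, zero_mul] at h12 g12
  -- the squares of the two sums
  have hP : S.D2 * (S.ζ + S.ε) ^ 2 = 12 * S.W * S.D := by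
    refine mul_left_cancel₀ (mul_ne_zero (mul_ne_zero (three_ne_zero : (3 : F) ≠ 0) S.hD0) S.hU) ?_
    linear_combination (-((S.ζ + S.ε) ^ 2)) * hE +
      4 * (-3 * S.C * S.D + S.δ * (S.ζ + S.ε)) * (-h12) + (36 * S.D ^ 2) * S.hUW
  have hM : S.D * (S.ζ - S.ε) ^ 2 = 3 * S.W * S.D2 := by
    refine mul_left_cancel₀ (mul_ne_zero (mul_ne_zero (three_ne_zero : (3 : F) ≠ 0) S.hD20) S.hU) ?_
    linear_combination (-((S.ζ - S.ε) ^ 2)) * hE +
      (-3 * S.C * S.D2 + 2 * S.δ * (S.ζ - S.ε)) * (-g12) + (9 * S.D2 ^ 2) * S.hUW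
  have hPM : (S.ζ + S.ε) * (S.ζ - S.ε) = 6 * S.W := by
    refine mul_left_cancel₀ (mul_ne_zero (mul_ne_zero (mul_ne_zero (three_ne_zero : (3 : F) ≠ 0)
      S.hD0) S.hD20) S.hU) ?_
    linear_combination (-((S.ζ + S.ε) * (S.ζ - S.ε))) * hE -
      4 * (S.δ * (S.ζ - S.ε)) * h12 + (6 * S.C * S.D) * g12 + (18 * S.D * S.D2) * S.hUW
  have h22 := S.q22
  have hφ := S.hφ
  rw [hy, ha1] at hφ
  have heps : 4 * S.D * S.D2 * S.ε ^ 2 = 3 * S.W * (2 * S.D - S.D2) ^ 2 := by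
    linear_combination S.D * hP + S.D2 * hM - 2 * S.D * S.D2 * hPM
  have hzeta : 4 * S.D * S.D2 * S.ζ ^ 2 = 3 * S.W * (2 * S.D + S.D2) ^ 2 := by
    linear_combination S.D * hP + S.D2 * hM + 2 * S.D * S.D2 * hPM
  have i1 : (S.D - 2) ^ 2 * (S.x + 1) = 4 * S.D * S.D2 * S.x := by
    refine mul_left_cancel₀ (mul_ne_zero (three_ne_zero : (3 : F) ≠ 0) S.hW) ?_
    linear_combination (-(S.x + 1)) * heps + (4 * S.D * S.D2) * hφ +
      (3 * S.W * (S.x + 1) * (3 * S.D - S.D2 - 2)) * hD2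
  have i2 : (S.x + 1) * (S.D ^ 2 - 20 * S.D + 4) + 4 * S.D * S.D2 = 0 := by
    refine mul_left_cancel₀ (mul_ne_zero (mul_ne_zero (mul_ne_zero (three_ne_zero : (3 : F) ≠ 0)
      S.hW) S.hx0) S.hD0) ?_
    linear_combination (4 * S.D * S.D2 * (S.x + 1)) * h22 - (S.D * S.x * (S.x + 1)) * hzeta +
      (4 * S.D * S.x * (S.x + 1)) * hP - (4 * S.D ^ 2 * S.D2) * hφ +
      (-3 * S.W * S.x * S.D * (S.x + 1) * (S.D2 + S.D + 2 + 4 * S.D - 8 * S.D)) * hD2
  have i3 : (S.x + 1) * (4 * S.D * (S.D - 2)) = 0 := by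
    linear_combination i2 - i1 - (4 * S.D * (S.x + 1)) * hD2
  have hx1 : S.x + 1 ≠ 0 := ha1 ▸ S.ha0
  have hD : S.D = 2 := sub_eq_zero.mp ((mul_eq_zero.mp
    ((mul_eq_zero.mp i3).resolve_left hx1)).resolve_left (mul_ne_zero (by norm_num) S.hD0))
  rw [hD] at i1
  exact mul_ne_zero (mul_ne_zero (mul_ne_zero (by norm_num : (4 : F) ≠ 0) (two_ne_zero' F))
    S.hD20) S.hx0 (by linear_combination -i1)

/-- The conclusion. -/
theorem conclusion : S.r = 2 ∧ S.δ = 2 * S.η := by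
  have hηne := S.η_ne
  have hEne := S.E_ne
  have hone := S.eq_one
  have hD2e := S.D2_eq
  have hce := S.c_eq
  obtain ⟨η, δ, ζ, ε, U, W, C, r, c, a, x, y, D, D2, ha, hc, hD, hD2, hU, hW, hC, hr0, hc0, ha0,
    hx0, hy0, hD0, hD20, hUW, hθ, hφ, q11, q12, q22, b11, b12, b22, hDint, hyint⟩ := S
  simp only at *
  obtain ⟨g, hg⟩ : ∃ g, η + δ = g * η := ⟨(η + δ) / η, by field_simp⟩
  obtain ⟨h, hh⟩ : ∃ h, η ^ 2 = h * U := ⟨η ^ 2 / U, by field_simp⟩
  obtain ⟨Z, hZ⟩ : ∃ Z, ζ * η = Z * C := ⟨ζ * η / C, by field_simp⟩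
  obtain ⟨e, he⟩ : ∃ e, ε * η = e * C := ⟨ε * η / C, by field_simp⟩
  obtain rfl : δ = g * η - η := by linear_combination hg
  have hg0 : g ≠ 0 := fun e0 => hEne (by rw [e0]; ring)
  have hh0 : h ≠ 0 := fun e0 => hηne (pow_eq_zero_iff two_ne_zero |>.mp (by rw [hh, e0, zero_mul]))
  have G1 : 4 * y * g ^ 2 * h = 3 * D * D2 := by
    refine mul_left_cancel₀ hU ?_
    linear_combination hone - (4 * y * g ^ 2) * hh
  have B1 : (2 * h - 3) * c * D2 + 2 * (g - 1) ^ 2 * h * D2 - 2 * g ^ 2 * h * c = 0 := by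
    refine mul_left_cancel₀ hU ?_
    linear_combination b11 - (2 * c * D2 + 2 * (g - 1) ^ 2 * D2 - 2 * g ^ 2 * c) * hh
  have TH : (g - 1) ^ 2 * h * a = 3 * (r * c) := by
    refine mul_left_cancel₀ hU ?_
    linear_combination hθ - ((g - 1) ^ 2 * a) * hh + (g * η - η) ^ 2 * (-hc)
  have PH : e ^ 2 * a = 3 * h * (x * y) := by
    refine mul_left_cancel₀ (pow_ne_zero 2 hC) ?_
    linear_combination η ^ 2 * hφ + (-(a * (ε * η + e * C))) * he + (3 * W * (x * y)) * hh -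
      (3 * h * (x * y)) * hUW
  have T1 : Z * D - g * (Z + e) = 3 * D := by
    refine mul_left_cancel₀ hC ?_
    linear_combination q12 + (g - D) * hZ + g * he
  have T2 : 2 * (Z * D2 - g * (Z - e)) = 3 * D2 := by
    refine mul_left_cancel₀ hC ?_
    linear_combination b12 + (2 * g - 2 * D2) * hZ - (2 * g) * he
  have S1 : (Z ^ 2 - 6 * h) * x * D + e ^ 2 * D - (Z + e) ^ 2 * x = 0 := by
    refine mul_left_cancel₀ (pow_ne_zero 2 hC) ?_
    linear_combination η ^ 2 * q22 + (-((x * D - x) * (ζ * η + Z * C)) + 2 * x * (ε * η)) * hZ +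
      (-((D - x) * (ε * η + e * C)) + 2 * x * (Z * C)) * he + (6 * W * x * D) * hh -
      (6 * h * x * D) * hUW
  have S2 : (2 * Z ^ 2 - 9 * h) * y * D2 + 2 * e ^ 2 * D2 - 2 * (Z - e) ^ 2 * y = 0 := by
    refine mul_left_cancel₀ (pow_ne_zero 2 hC) ?_
    linear_combination η ^ 2 * b22 +
      (-(2 * (y * D2 - y) * (ζ * η + Z * C)) - 4 * y * (ε * η)) * hZ +
      (-(2 * (D2 - y) * (ε * η + e * C)) - 4 * y * (Z * C)) * he + (9 * W * y * D2) * hh -
      (9 * h * y * D2) * hUW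
  have K : (4 * Z ^ 2 - 15 * h) * D * D2 = 2 * ((Z + e) ^ 2 * D2 + (Z - e) ^ 2 * D) := by
    refine mul_left_cancel₀ (mul_ne_zero hx0 hy0) ?_
    linear_combination (2 * y * D2) * S1 + (x * D) * S2 - (2 * D * D2) * PH +
      (2 * D * D2 * e ^ 2) * ha
  have hsum : D + D2 = 2 * D + 2 * y := by linear_combination hD2e
  have ZT : 2 * Z * (2 * D + 2 * y - 2 * g) = 3 * (3 * D + 2 * y) := by
    linear_combination 2 * T1 + T2 + (3 - 2 * Z) * hD2e
  have A : (y - 1) * g ^ 2 + 2 * D * g - D * (D + y) = 0 := by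
    have h1 : h * D2 * (c * D + (g - 1) ^ 2 * D - g ^ 2 * c) = 0 := by
      linear_combination (D / 2) * B1 + (-(c / 2)) * G1 + (-(h * c * g ^ 2)) * hD2e
    have h2 := (mul_eq_zero.mp h1).resolve_left (mul_ne_zero hh0 hD20)
    linear_combination -h2 + (D - g ^ 2) * hce
  have B0 : 16 * y * g ^ 2 * Z ^ 2 - 45 * D * D2 =
      8 * y * (D * (Z - 3) ^ 2 + D2 * (Z - 3 / 2) ^ 2) := by
    refine mul_left_cancel₀ (mul_ne_zero hD0 hD20) ?_
    linear_combination (4 * y * g ^ 2) * K + (15 * D * D2) * G1 +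
      (-(8 * y * D2 * (g * (Z + e) + D * (Z - 3)))) * T1 +
      (-(4 * y * D * (g * (Z - e) + D2 * (Z - 3 / 2)))) * T2
  have B : 2 * y * (3 * D + 2 * y) ^ 2 * (2 * g ^ 2 - 4 * g + (2 * D + 2 * y)) =
      (5 * D ^ 2 + 20 * D * y + 4 * y ^ 2) * (2 * D + 2 * y - 2 * g) ^ 2 := by
    have e1 : 8 * y * Z ^ 2 * (2 * g ^ 2 - 4 * g + (2 * D + 2 * y)) =
        9 * (5 * D ^ 2 + 20 * D * y + 4 * y ^ 2) := by
      linear_combination B0 + (8 * y * (Z - 3 / 2) ^ 2 + 45 * D) * hD2e +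
        (8 * y * Z) * ZT
    refine mul_left_cancel₀ (show (9 : F) ≠ 0 by norm_num) ?_
    linear_combination (2 * D + 2 * y - 2 * g) ^ 2 * e1 -
      (2 * y * (2 * g ^ 2 - 4 * g + (2 * D + 2 * y)) *
        (2 * Z * (2 * D + 2 * y - 2 * g) + 3 * (3 * D + 2 * y))) * ZT
  have fac : 16 * y * D * (D + y - 1) * (D - 2 * y) * (D + y - 2 * g) = 0 := by
    linear_combination (y - 1) * B -
      (4 * y * (3 * D + 2 * y) ^ 2 - 4 * (5 * D ^ 2 + 20 * D * y + 4 * y ^ 2)) * A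
  -- the degree of the last character of the second family is not one
  have hy1 : y ≠ 1 := by
    intro hy
    subst hy
    have h2g : 2 * g = D + 1 := by
      have : D * (2 * g - (D + 1)) = 0 := by linear_combination A
      exact sub_eq_zero.mp ((mul_eq_zero.mp this).resolve_left hD0)
    obtain rfl : c = D := by linear_combination hce
    have hg' : g = (c + 1) / 2 := by linear_combination h2g / 2
    subst hg'
    obtain rfl : D2 = c + 2 := by linear_combination hD2e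
    have hr : r = c - a := by linear_combination -hc
    subst hr
    have hZ' : Z * (c + 1) = 3 / 2 * (3 * c + 2) := by linear_combination ZT / 2
    have hh' : (c + 1) ^ 2 * h = 3 * c * (c + 2) := by linear_combination G1
    have hden : a * ((c - 1) ^ 2 * (c + 2) + 4 * (c + 1) ^ 2) = 4 * c * (c + 1) ^ 2 := by
      refine mul_left_cancel₀ (mul_ne_zero (three_ne_zero : (3 : F) ≠ 0) hc0) ?_
      linear_combination 4 * (c + 1) ^ 2 * TH - (c - 1) ^ 2 * a * hh'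
    have hP : (c + 1) ^ 2 * (Z + e) = 3 * c ^ 2 := by
      linear_combination (-2 * (c + 1)) * T1 + (2 * c) * hZ'
    have hx' : a * ((Z ^ 2 - 6 * h) * c - (Z + e) ^ 2) + 3 * h * c = 0 := by
      refine mul_left_cancel₀ hx0 ?_
      linear_combination a * S1 - c * PH
    have h4 : a * ((c + 1) ^ 2 * (c - 2) ^ 2 - 4 * c ^ 3) + 4 * c * (c + 1) ^ 2 * (c + 2) = 0 := by
      refine mul_left_cancel₀ (mul_ne_zero (show (9 : F) ≠ 0 by norm_num) hc0) ?_
      linear_combination 4 * (c + 1) ^ 4 * hx' -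
        (4 * a * c * (c + 1) ^ 2 * (Z * (c + 1) + 3 / 2 * (3 * c + 2))) * hZ' +
        (4 * a * ((c + 1) ^ 2 * (Z + e) + 3 * c ^ 2)) * hP +
        (4 * (c + 1) ^ 2 * (6 * a * c - 3 * c)) * hh'
    have h5 : a * (2 * (c ^ 4 + 5 * c ^ 2 + 10 * c + 8)) = 0 := by
      linear_combination h4 + (c + 2) * hden
    exact hDint ((mul_eq_zero.mp ((mul_eq_zero.mp h5).resolve_left ha0)).resolve_left
      (two_ne_zero' F))
  have hfac : D = 2 * y := by
    rcases mul_eq_zero.mp fac with h1 | h1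
    · rcases mul_eq_zero.mp h1 with h2 | h2
      · exact absurd h2 (mul_ne_zero (mul_ne_zero (mul_ne_zero
          (show (16 : F) ≠ 0 by norm_num) hy0) hD0) (by rw [← hce]; exact hc0))
      · exact sub_eq_zero.mp h2
    · exfalso
      have : (y - 1) * g ^ 2 = 0 := by linear_combination A + D * h1
      exact hy1 (sub_eq_zero.mp ((mul_eq_zero.mp this).resolve_right (pow_ne_zero 2 hg0)))
  subst hfac
  obtain rfl : D2 = 4 * y := by linear_combination hD2e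
  obtain rfl : c = 3 * y - 1 := by linear_combination hce
  have hw : Z * (3 * y - g) = 6 * y := by linear_combination ZT / 4
  have hhg : g ^ 2 * h = 6 * y := by
    refine mul_left_cancel₀ (mul_ne_zero (show (4 : F) ≠ 0 by norm_num) hy0) ?_
    linear_combination G1
  have hge : g * e * (3 * y - g) = -6 * y ^ 2 := by
    linear_combination (-(3 * y - g)) * T1 + (2 * y - g) * hw
  have hax : 2 * y ^ 2 * a = x * (3 * y - g) ^ 2 := by
    refine mul_left_cancel₀ (mul_ne_zero (show (18 : F) ≠ 0 by norm_num) (pow_ne_zero 2 hy0)) ?_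
    linear_combination (g ^ 2 * (3 * y - g) ^ 2) * PH -
      (a * (g * e * (3 * y - g) - 6 * y ^ 2)) * hge + (3 * x * y * (3 * y - g) ^ 2) * hhg
  have hag : a * (2 * g ^ 2 - 2 * y) = (3 * y - 1) * g ^ 2 := by
    refine mul_left_cancel₀ (mul_ne_zero (three_ne_zero : (3 : F) ≠ 0) hc0) ?_
    linear_combination g ^ 2 * TH - ((g - 1) ^ 2 * a) * hhg + 3 * a * A +
      (-3 * (3 * y - 1) * g ^ 2) * hc
  have hF0 : 2 * y * (g ^ 2 - y) * (3 * y - g) ^ 2 =
      (3 * y - 1) * g ^ 2 * ((3 * y - g) ^ 2 - 2 * y ^ 2) := by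
    linear_combination (2 * g ^ 2 - 2 * y) * hax - (2 * (g ^ 2 - y) * (3 * y - g) ^ 2) * ha +
      ((3 * y - g) ^ 2 - 2 * y ^ 2) * hag
  have hF1 : 2 * g ^ 3 + (3 * y ^ 2 - 17 * y) * g ^ 2 + 42 * y ^ 2 * g - 36 * y ^ 3 = 0 := by
    refine mul_left_cancel₀ (mul_ne_zero (two_ne_zero' F) hy0) ?_
    linear_combination hF0 + (3 * y - g) ^ 2 * A
  have hm : y - 1 ≠ 0 := sub_ne_zero.mpr hy1
  have hL : g * (5 * y + 3) - 3 * y * (y + 3) = 0 := by
    refine mul_left_cancel₀ (mul_ne_zero (mul_ne_zero (two_ne_zero' F) (pow_ne_zero 2 hy0))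
      (sub_ne_zero.mpr hyint)) ?_
    linear_combination (y - 1) ^ 2 * hF1 -
      (2 * g * (y - 1) + y * (3 * y ^ 2 - 20 * y + 9)) * A
  have hy3 : y = 3 := by
    refine sub_eq_zero.mp (mul_left_cancel₀ (mul_ne_zero (mul_ne_zero (show (9 : F) ≠ 0 by norm_num)
      (pow_ne_zero 2 hy0)) (pow_ne_zero 2 hm)) ?_)
    linear_combination (5 * y + 3) ^ 2 * A -
      ((y - 1) * (g * (5 * y + 3) + 3 * y * (y + 3)) + 4 * y * (5 * y + 3)) * hL
  subst hy3
  have hg3 : g = 3 := by linear_combination hL / 18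
  subst hg3
  have ha6 : a = 6 := by linear_combination hag / 12
  subst ha6
  exact ⟨by linear_combination -hc, by ring⟩

end Sys

end Cfsg.Agent.H70.CubeFold
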