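import Cfsg.Agent.H70.CubeFoldNormal

/-!
Computed facts about the model: classes, centralisers, fusion.
-/

set_option autoImplicit false

set_option Elab.async false

namespace Cfsg.Agent.H70.CubeFold

theorem inJ_enum : ∀ i, inJ (enum i) ↔ i.1.2 = 3 ∧ i.2 = 1 := by decide +kernel

theorem cube_J : ∀ a, enum (rot a) ^ 3 = 1 := by decide +kernel

theorem inD_pow : ∀ i, inD (enum i) →
    inJ (enum i ^ 3) ∧ enum i ^ 3 ≠ 1 ∨ inJ (enum i ^ 4) ∧ enum i ^ 4 ≠ 1 := by
  decide +kernel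

theorem inD_not_sq : ∀ i, inD (enum i) → enum i * enum i ≠ 1 := by decide +kernel

theorem inD_pow_inJ : ∀ i, inD (enum i) → ∀ n, n = 3 ∨ n = 4 → (enum i ^ n) ^ 3 = 1 →
    enum i ^ n ≠ 1 → inJ (enum i ^ n) := by
  have h : ∀ i, inD (enum i) →
      ((enum i ^ 3) ^ 3 = 1 → enum i ^ 3 ≠ 1 → inJ (enum i ^ 3)) ∧
      ((enum i ^ 4) ^ 3 = 1 → enum i ^ 4 ≠ 1 → inJ (enum i ^ 4)) := by decide +kernel
  rintro i hi n (rfl | rfl)
  exacts [(h i hi).1, (h i hi).2]

theorem inD_inv : ∀ i, inD (enum i) → inD (enum i)⁻¹ := by decide +kernel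

theorem test_eq_zero : ∀ w i, ¬ inD (enum i) → test w i = 0 := by decide +kernel

theorem orbit_J : ∀ a, enum (rot a) ≠ 1 → ∃ w g k,
    enum (rot a) = pp g * vv k * ee w * (pp g * vv k)⁻¹ := by
  decide +kernel

theorem card_cent : ∀ w,
    (Finset.univ.filter fun i : Idx => enum i * ee w = ee w * enum i).card =
      ![108, 54, 81] w := by
  decide +kernel

/-- The first representative involution. -/
def tt : W := vv 2

/-- The second representative involution. -/
def ss : W := pp (.sr 2)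

theorem cl_tt : cl tt = 1 ∧ cl ss = 3 := by decide +kernel

theorem inv_facts : tt * tt = 1 ∧ ss * ss = 1 ∧ tt ≠ 1 ∧ ss ≠ 1 ∧ tt * ee 0 = ee 0 * tt ∧
    ss * ee 1 = ee 1 * ss := by
  decide +kernel

theorem cent_pair : ∀ i, enum i * tt = tt * enum i → enum i * ee 0 = ee 0 * enum i →
    enum i ^ 81 = 1 → enum i = 1 ∨ enum i = ee 0 ∨ enum i = ee 0 * ee 0 := by
  decide +kernel

theorem invol_cases : ∀ i, enum i * enum i = 1 → enum i = 1 ∨ cl (enum i) = 1 ∨ cl (enum i) = 3 := by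
  decide +kernel

theorem conj_tt : ∀ i, cl (enum i) = 1 → ∃ a g, enum i =
    (enum (rot a) * pp g) * tt * (enum (rot a) * pp g)⁻¹ := by
  decide +kernel

theorem conj_ss : ∀ i, cl (enum i) = 3 → ∃ a g k, enum i =
    (enum (rot a) * pp g * vv k) * ss * (enum (rot a) * pp g * vv k)⁻¹ := by
  decide +kernel

end Cfsg.Agent.H70.CubeFold
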