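import Cfsg.Agent.H70.CubeFoldModel

/-!
Computed facts on the normal closure of an involution in the model.
-/

set_option autoImplicit false
set_option Elab.async false

namespace Cfsg.Agent.H70.CubeFold

/-- A commutator with the first involution. -/
def comT (a : Fin 3 × Fin 3 × Fin 3) : W :=
  vv 2 * enum (rot a) * (vv 2)⁻¹ * (enum (rot a))⁻¹

theorem rot_comT : ∀ a, ∃ b c, enum (rot a) = comT b * (pp (.r 1) * comT c * (pp (.r 1))⁻¹) := by
  decide +kernel

theorem vv_tt : ∀ k, vv k = 1 ∨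
    ∃ j : Fin 3, vv k = pp (.r 1) ^ j.val * vv 2 * (pp (.r 1) ^ j.val)⁻¹ := by
  decide +kernel

theorem enum_three : ∀ i, enum i =
    enum (rot (avec (enum i) 0, avec (enum i) 1, avec (enum i) 2)) * vv i.1.2 * pp i.2 := by
  decide +kernel

theorem pp_one : pp 1 = 1 := by decide +kernel

theorem pp_rot_gen : ∀ g, isRef g = false → g ≠ 1 →
    pp (.r 1) = pp g ∨ pp (.r 1) = pp g * pp g := by
  decide +kernel

theorem pp_ref_comm : ∀ g, isRef g = true →
    ∃ i, enum i = pp g * pp (.r 1) * (pp g)⁻¹ * (pp (.r 1))⁻¹ ∧ isRef i.2 = false ∧ i.2 ≠ 1 := by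
  decide +kernel

theorem pp_even : ∀ g, isRef g = false → ∃ j : Fin 3, pp g = pp (.r 1) ^ j.val := by
  decide +kernel

theorem pp_odd : ∀ i, isRef i.2 = true →
    ∃ j, enum i = enum j * pp (.sr 0) ∧ isRef j.2 = false := by
  intro i hi
  refine ⟨index (enum i * (pp (.sr 0))⁻¹), ?_, ?_⟩
  · rw [enum_index (mul_mem (enum_mem i) (inv_mem (show pp (.sr 0) ∈ M from enum_mem _))),
      inv_mul_cancel_right]
  · revert hi; revert i; decide +kernel

theorem inl_enum : ∀ j : ThreeCube.Idx,
    enum (j, 1) = SemidirectProduct.inl (ThreeCube.enum j) := by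
  decide +kernel

end Cfsg.Agent.H70.CubeFold
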