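import Cfsg.Agent.H70.CubeFoldModel

/-!
Sums of the test functions over pairs of involutions.
-/

set_option autoImplicit false
set_option Elab.async false

namespace Cfsg.Agent.H70.CubeFold

/-- The sums of the test functions over pairs of involutions of given types. -/
def pairSum : Fin 6 → Bool → Bool → ℤ :=
  let m : ℤ → ℤ → ℤ → Bool → Bool → ℤ := fun p q r x y =>
    if x then (if y then r else q) else (if y then q else p)
  ![m 3888 0 0, m 0 0 3888, m 3888 3888 7776, m 1944 1944 5832, m 0 0 0, m 0 0 0]

/-- The classes of the representatives. -/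
def invCl (x : Bool) : Fin 14 := if x then 3 else 1

theorem test_pairSum0 : ∀ x y,
    ∑ i ∈ Finset.univ.filter (fun i : Idx => cl (enum i) = invCl x),
      ∑ j ∈ Finset.univ.filter (fun j : Idx => cl (enum j) = invCl y),
        tab 0 (cl (enum i * enum j)) = (pairSum 0 x y, 0) := by
  decide +kernel

theorem test_pairSum1 : ∀ x y,
    ∑ i ∈ Finset.univ.filter (fun i : Idx => cl (enum i) = invCl x),
      ∑ j ∈ Finset.univ.filter (fun j : Idx => cl (enum j) = invCl y),
        tab 1 (cl (enum i * enum j)) = (pairSum 1 x y, 0) := by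
  decide +kernel

theorem test_pairSum2 : ∀ x y,
    ∑ i ∈ Finset.univ.filter (fun i : Idx => cl (enum i) = invCl x),
      ∑ j ∈ Finset.univ.filter (fun j : Idx => cl (enum j) = invCl y),
        tab 2 (cl (enum i * enum j)) = (pairSum 2 x y, 0) := by
  decide +kernel

theorem test_pairSum3 : ∀ x y,
    ∑ i ∈ Finset.univ.filter (fun i : Idx => cl (enum i) = invCl x),
      ∑ j ∈ Finset.univ.filter (fun j : Idx => cl (enum j) = invCl y),
        tab 3 (cl (enum i * enum j)) = (pairSum 3 x y, 0) := by
  decide +kernel

theorem test_pairSum4 : ∀ x y,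
    ∑ i ∈ Finset.univ.filter (fun i : Idx => cl (enum i) = invCl x),
      ∑ j ∈ Finset.univ.filter (fun j : Idx => cl (enum j) = invCl y),
        tab 4 (cl (enum i * enum j)) = (pairSum 4 x y, 0) := by
  decide +kernel

theorem test_pairSum5 : ∀ x y,
    ∑ i ∈ Finset.univ.filter (fun i : Idx => cl (enum i) = invCl x),
      ∑ j ∈ Finset.univ.filter (fun j : Idx => cl (enum j) = invCl y),
        tab 5 (cl (enum i * enum j)) = (pairSum 5 x y, 0) := by
  decide +kernel

theorem test_pairSum (w : Fin 6) (x y : Bool) :
    ∑ i ∈ Finset.univ.filter (fun i : Idx => cl (enum i) = invCl x),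
      ∑ j ∈ Finset.univ.filter (fun j : Idx => cl (enum j) = invCl y),
        tab w (cl (enum i * enum j)) = (pairSum w x y, 0) := by
  fin_cases w
  exacts [test_pairSum0 x y, test_pairSum1 x y, test_pairSum2 x y, test_pairSum3 x y,
    test_pairSum4 x y, test_pairSum5 x y]

end Cfsg.Agent.H70.CubeFold
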