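import Cfsg.Agent.H70.CubeFoldModel

/-!
Sums of the test functions over the model.
-/

set_option autoImplicit false
set_option Elab.async false

namespace Cfsg.Agent.H70.CubeFold

/-- The inner products of the test functions. -/
def gram : Fin 6 → Fin 6 → ℤ :=
  ![![3, -1, 1, -1, 1, -1], ![-1, 3, 1, 1, -1, 0], ![1, 1, 4, 1, 0, 0], ![-1, 1, 1, 4, 0, 1],
    ![1, -1, 0, 0, 2, 0], ![-1, 0, 0, 1, 0, 2]]

theorem test_gram : ∀ w w',
    ∑ i : Idx, ((test w i).1 * (test w' i).1 + 3 * ((test w i).2 * (test w' i).2)) =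
        2592 * gram w w' ∧
      ∑ i : Idx, ((test w i).1 * (test w' i).2 + (test w i).2 * (test w' i).1) = 0 := by
  decide +kernel

theorem test_sum : ∀ w, ∑ i : Idx, (test w i).1 = 1296 * ![0, 0, 1, 1, 0, 0] w ∧
    ∑ i : Idx, (test w i).2 = 0 := by
  decide +kernel

theorem test_sum_even : ∑ i : Idx, (if isRef i.2 then (0, 0) else test 0 i) = 0 := by
  decide +kernel

end Cfsg.Agent.H70.CubeFold
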