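import Cfsg.Agent.H70.SignedUnits

/-!
Six integer vectors of small norm with the inner products of the test functions of the
normaliser of an elementary abelian group of order 27 in `A₉`.
-/

set_option autoImplicit false

namespace Cfsg.Agent.H70.CubeFold

open Finset
open SignedUnits

variable {X : Type*} [Fintype X] [DecidableEq X]

theorem dot_smul_vec (v : X → ℤ) (u : X × ℤˣ) (c : ℤ) :
    dot (v - c • vec u) (v - c • vec u) = dot v v - 2 * c * dot v (vec u) + c * c := by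
  have e : ∀ (w z : X → ℤ), dot w (c • z) = c * dot w z := fun w z => by
    simp [dot, mul_sum, mul_left_comm]
  rw [dot_sub_left, dot_sub_right, dot_sub_right, e, e, dot_comm (c • vec u) v, e,
    dot_comm (c • vec u) (vec u), e, dot_vec_self]
  ring

/-- A vector minus its projection on a list of orthogonal units. -/
def resid (v : X → ℤ) : List (X × ℤˣ) → X → ℤ
  | [] => v
  | u :: l => resid v l - dot v (vec u) • vec u

theorem dot_resid_vec (v : X → ℤ) {u : X × ℤˣ} :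
    ∀ {l : List (X × ℤˣ)}, (∀ w ∈ l, w.1 ≠ u.1) → dot (resid v l) (vec u) = dot v (vec u)
  | [], _ => rfl
  | w :: l, h => by
    rw [resid, dot_sub_left, dot_resid_vec v (fun z hz => h z (List.mem_cons_of_mem _ hz))]
    have : dot (dot v (vec w) • vec w) (vec u) = 0 := by
      rw [dot_vec]; simp [vec, Pi.single_eq_of_ne (h w List.mem_cons_self).symm]
    rw [this, sub_zero]

theorem dot_resid_self (v : X → ℤ) :
    ∀ {l : List (X × ℤˣ)}, l.Pairwise (fun a b => a.1 ≠ b.1) →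
      dot (resid v l) (resid v l) = dot v v - (l.map fun u => dot v (vec u) * dot v (vec u)).sum
  | [], _ => by simp [resid]
  | u :: l, h => by
    obtain ⟨h1, h2⟩ := List.pairwise_cons.mp h
    rw [resid, dot_smul_vec, dot_resid_vec v (fun w hw => (h1 w hw).symm), dot_resid_self v h2,
      List.map_cons, List.sum_cons]
    ring

theorem dot_resid_mem (v : X → ℤ) :
    ∀ {l : List (X × ℤˣ)}, l.Pairwise (fun a b => a.1 ≠ b.1) →
      ∀ u ∈ l, dot (resid v l) (vec u) = 0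
  | [], _ => by simp
  | w :: l, h => by
    obtain ⟨h1, h2⟩ := List.pairwise_cons.mp h
    intro u hu
    rcases List.mem_cons.mp hu with rfl | hu
    · rw [resid, dot_sub_left, dot_resid_vec v (fun z hz => (h1 z hz).symm)]
      have : dot (dot v (vec u) • vec u) (vec u) = dot v (vec u) * dot (vec u) (vec u) := by
        simp [dot, mul_sum, mul_assoc]
      rw [this, dot_vec_self]; ring
    · rw [resid, dot_sub_left, dot_resid_mem v h2 u hu]
      have : dot (dot v (vec w) • vec w) (vec u) = 0 := by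
        rw [dot_vec]; simp [vec, Pi.single_eq_of_ne (h1 u hu).symm]
      rw [this, sub_zero]

/-- The Gram matrix. -/
def gramU : Fin 6 → Fin 6 → ℤ :=
  ![![3, -1, 1, -1, 1, -1], ![-1, 3, 1, 1, -1, 0], ![1, 1, 4, 1, 0, 0], ![-1, 1, 1, 4, 0, 1],
    ![1, -1, 0, 0, 2, 0], ![-1, 0, 0, 1, 0, 2]]

/-- The six vectors. -/
structure Data (X : Type*) [Fintype X] [DecidableEq X] where
  e₀ : X
  d : X → ℤ
  v : Fin 6 → X → ℤ
  hd : ∀ x, 0 < d x
  hd₀ : d e₀ = 1
  v₀ : ∀ w, v w e₀ = ![0, 0, 1, 1, 0, 0] w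
  dv : ∀ w, dot (v w) d = 0
  hv : ∀ w w', dot (v w) (v w') = gramU w w'

/-- The possible shapes of the decompositions. -/
structure Shape (D : Data X) where
  (R A G Xu Yu Z : X × ℤˣ)
  hθ : D.v 0 = vec R + vec A + vec G
  hφ : D.v 1 = -vec A + vec Xu + vec Yu
  hq : D.v 2 = vec (D.e₀, 1) + vec R + vec Xu + vec Z
  hR : dot (D.v 0) (vec R) = 1
  hb : (∃ W, D.v 3 = vec (D.e₀, 1) - vec G + vec Yu + vec W) ∨
    D.v 3 = vec (D.e₀, 1) - vec R + vec Yu + vec Z ∨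
    D.v 3 = vec (D.e₀, 1) - vec G + vec Xu - vec Z ∨
    (∃ V W, D.v 3 = vec (D.e₀, 1) - vec A + vec V + vec W ∧
      (D.v 4 = vec A + vec V ∨ D.v 4 = vec R - vec Xu ∨ D.v 4 = vec G - vec Yu)) ∨
    (∃ W, D.v 3 = vec (D.e₀, 1) - vec R + vec Xu + vec W ∧
      (D.v 5 = -vec R + vec Z ∨ D.v 5 = -vec G + vec W))

namespace Data

variable (D : Data X)

theorem dot_vec_d (u : X × ℤˣ) : dot (vec u) D.d = (u.2 : ℤ) * D.d u.1 := by
  rw [dot_comm, dot_vec, mul_comm]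

theorem deg_ne_zero (u : X × ℤˣ) : dot (vec u) D.d ≠ 0 := by
  rw [D.dot_vec_d]
  exact mul_ne_zero u.2.ne_zero (D.hd _).ne'

theorem dot_e₀ (w : Fin 6) : dot (D.v w) (vec (D.e₀, 1)) = ![0, 0, 1, 1, 0, 0] w := by
  rw [dot_vec, D.v₀]; simp

theorem fst_ne {v : X → ℤ} {a b : X × ℤˣ} (h : dot v (vec a) = 0) (h' : dot v (vec b) ≠ 0) :
    a.1 ≠ b.1 := by
  intro e
  rw [dot_vec] at h h'
  have := (mul_eq_zero.mp h).resolve_right a.2.ne_zero
  exact h' (by rw [← e, this, zero_mul])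

theorem abs_le_sq (c : ℤ) : c ≤ c * c ∧ -c ≤ c * c := by
  have h1 := Int.le_self_sq c
  have h2 := Int.le_self_sq (-c)
  constructor <;> linarith

theorem abs_le_sq' (c : ℤ) (h : c * c ≤ 3) :
    (c ≤ c * c ∧ -c ≤ c * c) ∧ -1 ≤ c ∧ c ≤ 1 := by
  refine ⟨abs_le_sq c, ?_, ?_⟩ <;> nlinarith

theorem pair_units {u w : X × ℤˣ} (h : dot (vec u + vec w) (vec u + vec w) = 2) :
    u.1 ≠ w.1 ∧ dot (vec u + vec w) (vec u) = 1 ∧ dot (vec u + vec w) (vec w) = 1 := by
  have h' := h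
  simp only [dot_add_left, dot_add_right, dot_vec_self, dot_comm (vec w) (vec u)] at h'
  have h0 : dot (vec u) (vec w) = 0 := by omega
  refine ⟨?_, ?_, ?_⟩
  · intro e
    rcases vec_cases u w with ⟨-, e1⟩ | ⟨-, e1⟩ | ⟨e1, -⟩
    · omega
    · omega
    · exact e1 e
  · rw [dot_add_left, dot_comm (vec w), dot_vec_self, h0]; rfl
  · rw [dot_add_left, dot_vec_self, h0]; rfl

theorem exists_three {v : X → ℤ} (h : dot v v = 3) :
    ∃ u w z : X × ℤˣ, v = vec u + vec w + vec z ∧ [u, w, z].Pairwise (fun a b => a.1 ≠ b.1) ∧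
      dot v (vec u) = 1 ∧ dot v (vec w) = 1 ∧ dot v (vec z) = 1 := by
  obtain ⟨x, hx⟩ : ∃ x, v x ≠ 0 := by
    by_contra hc
    push Not at hc
    simp [dot, hc] at h
  have hle : v x * v x ≤ dot v v :=
    single_le_sum (f := fun y => v y * v y) (fun y _ => mul_self_nonneg (v y)) (mem_univ x)
  rcases small (hle.trans_eq h) (by norm_num) with hb | hb | hb
  · obtain ⟨w, z, hwz, e⟩ := exists_vec_of_norm_two (v := v - vec (x, -1))
      (by rw [dot_sub_vec, h, dot_vec, hb]; norm_num)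
    have hu : dot (v - vec (x, -1)) (vec (x, -1)) = 0 := by
      rw [dot_sub_left, dot_vec_self, dot_vec, hb]; norm_num
    have hv : v = vec (x, -1) + vec w + vec z := by rw [add_assoc, ← e]; abel
    have h2 := pair_units (u := w) (w := z) (by rw [← e, dot_sub_vec, h, dot_vec, hb]; norm_num)
    have hw : (x, (-1 : ℤˣ)).1 ≠ w.1 := fst_ne hu (by rw [e, h2.2.1]; exact one_ne_zero)
    have hz : (x, (-1 : ℤˣ)).1 ≠ z.1 := fst_ne hu (by rw [e, h2.2.2]; exact one_ne_zero)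
    refine ⟨_, w, z, hv, by simp [hw, hz, hwz], ?_, ?_, ?_⟩
    · rw [dot_vec, hb]; rfl
    · rw [hv, dot_add_left, dot_add_left, dot_vec_self, dot_vec_ne hw, dot_vec_ne hwz.symm]; rfl
    · rw [hv, dot_add_left, dot_add_left, dot_vec_self, dot_vec_ne hz, dot_vec_ne hwz]; rfl
  · exact absurd hb hx
  · obtain ⟨w, z, hwz, e⟩ := exists_vec_of_norm_two (v := v - vec (x, 1))
      (by rw [dot_sub_vec, h, dot_vec, hb]; norm_num)
    have hu : dot (v - vec (x, 1)) (vec (x, 1)) = 0 := by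
      rw [dot_sub_left, dot_vec_self, dot_vec, hb]; norm_num
    have hv : v = vec (x, 1) + vec w + vec z := by rw [add_assoc, ← e]; abel
    have h2 := pair_units (u := w) (w := z) (by rw [← e, dot_sub_vec, h, dot_vec, hb]; norm_num)
    have hw : (x, (1 : ℤˣ)).1 ≠ w.1 := fst_ne hu (by rw [e, h2.2.1]; exact one_ne_zero)
    have hz : (x, (1 : ℤˣ)).1 ≠ z.1 := fst_ne hu (by rw [e, h2.2.2]; exact one_ne_zero)
    refine ⟨_, w, z, hv, by simp [hw, hz, hwz], ?_, ?_, ?_⟩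
    · rw [dot_vec, hb]; rfl
    · rw [hv, dot_add_left, dot_add_left, dot_vec_self, dot_vec_ne hw, dot_vec_ne hwz.symm]; rfl
    · rw [hv, dot_add_left, dot_add_left, dot_vec_self, dot_vec_ne hz, dot_vec_ne hwz]; rfl

theorem eq_of_resid {v : X → ℤ} {l : List (X × ℤˣ)} (hl : l.Pairwise (fun a b => a.1 ≠ b.1))
    (h : dot v v = (l.map fun u => dot v (vec u) * dot v (vec u)).sum) : resid v l = 0 :=
  eq_zero_of_dot_self (by rw [dot_resid_self v hl, h, sub_self])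

theorem bound {v : X → ℤ} {l : List (X × ℤˣ)} (hl : l.Pairwise (fun a b => a.1 ≠ b.1)) :
    (l.map fun u => dot v (vec u) * dot v (vec u)).sum ≤ dot v v := by
  have := dot_self_nonneg (resid v l)
  rw [dot_resid_self v hl] at this
  linarith

theorem dot_zsmul_d (c : ℤ) (u : X × ℤˣ) : dot (c • vec u) D.d = c * dot (vec u) D.d := by
  simp [dot, mul_sum, mul_assoc]

/-- The two families of norm three. -/
theorem exists_first : ∃ R A G Xu Yu : X × ℤˣ,
    D.v 0 = vec R + vec A + vec G ∧ D.v 1 = -vec A + vec Xu + vec Yu ∧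
      [R, A, G, Xu, Yu, (D.e₀, (1 : ℤˣ))].Pairwise (fun a b => a.1 ≠ b.1) ∧
      [dot (D.v 0) (vec R), dot (D.v 0) (vec A), dot (D.v 0) (vec G), dot (D.v 0) (vec Xu),
        dot (D.v 0) (vec Yu)] = [1, 1, 1, 0, 0] ∧
      [dot (D.v 1) (vec R), dot (D.v 1) (vec A), dot (D.v 1) (vec G), dot (D.v 1) (vec Xu),
        dot (D.v 1) (vec Yu)] = [0, -1, 0, 1, 1] := by
  obtain ⟨u, w, z, hθ, hd, hu, hw, hz⟩ := exists_three (D.hv 0 0)
  have hsum : dot (D.v 1) (vec u) + dot (D.v 1) (vec w) + dot (D.v 1) (vec z) = -1 := by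
    rw [← dot_add_right, ← dot_add_right, ← hθ, D.hv]; rfl
  have hdeg : dot (vec u) D.d + dot (vec w) D.d + dot (vec z) D.d = 0 := by
    rw [← dot_add_left, ← dot_add_left, ← hθ, D.dv]
  have hb := bound (v := D.v 1) hd
  simp only [List.map_cons, List.map_nil, List.sum_cons, List.sum_nil,
    show dot (D.v 1) (D.v 1) = 3 from D.hv 1 1] at hb
  have hbad : ∀ p q r : ℤ, dot (D.v 1) (vec u) = p → dot (D.v 1) (vec w) = q →
      dot (D.v 1) (vec z) = r → p * p + q * q + r * r = 3 →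
      p * dot (vec u) D.d + q * dot (vec w) D.d + r * dot (vec z) D.d = 0 := by
    intro p q r hp hq hr h3
    have he := eq_of_resid hd (v := D.v 1) (by
      simp only [List.map_cons, List.map_nil, List.sum_cons, List.sum_nil, hp, hq, hr, D.hv]
      show (3 : ℤ) = _
      linarith)
    have h0 : dot (resid (D.v 1) [u, w, z]) D.d = 0 := by rw [he]; simp [dot]
    simp only [resid, dot_sub_left, D.dot_zsmul_d, D.dv, hp, hq, hr] at h0
    linarith
  obtain ⟨R, A, G, hθ', hd', hR, hA, hG, hA', hR', hG'⟩ : ∃ R A G : X × ℤˣ,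
      D.v 0 = vec R + vec A + vec G ∧ [R, A, G].Pairwise (fun a b => a.1 ≠ b.1) ∧
      dot (D.v 0) (vec R) = 1 ∧ dot (D.v 0) (vec A) = 1 ∧ dot (D.v 0) (vec G) = 1 ∧
      dot (D.v 1) (vec A) = -1 ∧ dot (D.v 1) (vec R) = 0 ∧ dot (D.v 1) (vec G) = 0 := by
    simp only [List.pairwise_cons, List.mem_cons, List.not_mem_nil, or_false, forall_eq_or_imp,
      forall_eq, IsEmpty.forall_iff, implies_true, List.Pairwise.nil, and_true] at hd
    obtain ⟨⟨huw, huz⟩, hwz⟩ := hd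
    have a1 := abs_le_sq (dot (D.v 1) (vec u))
    have a2 := abs_le_sq (dot (D.v 1) (vec w))
    have a3 := abs_le_sq (dot (D.v 1) (vec z))
    have s1 := small (a := dot (D.v 1) (vec u)) (n := 3)
      (by nlinarith only [hb]) (by norm_num)
    have s2 := small (a := dot (D.v 1) (vec w)) (n := 3)
      (by nlinarith only [hb]) (by norm_num)
    have s3 := small (a := dot (D.v 1) (vec z)) (n := 3)
      (by nlinarith only [hb]) (by norm_num)
    have du := D.deg_ne_zero u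
    have dw := D.deg_ne_zero w
    have dz := D.deg_ne_zero z
    rcases s1 with e1 | e1 | e1 <;> rcases s2 with e2 | e2 | e2 <;> rcases s3 with e3 | e3 | e3 <;>
      (try (exfalso; omega))
    all_goals first
      | (exfalso; have hbd := hbad _ _ _ e1 e2 e3; norm_num at hbd; omega)
      | exact ⟨w, u, z, by rw [hθ]; abel, by simp [huw.symm, huz, hwz], hw, hu, hz, e1, e2, e3⟩
      | exact ⟨u, w, z, hθ, by simp [huw, huz, hwz], hu, hw, hz, e2, e1, e3⟩
      | exact ⟨u, z, w, by rw [hθ]; abel, by simp [huw, huz, hwz.symm], hu, hz, hw, e3, e1, e2⟩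
  set φ' := resid (D.v 1) [R, A, G] with hφ'
  obtain ⟨Xu, Yu, hXY, hres⟩ := exists_vec_of_norm_two (v := φ')
    (by rw [hφ', dot_resid_self _ hd']; simp [hA', hR', hG', D.hv, gramU])
  have hne : ∀ u ∈ [R, A, G], u.1 ≠ Xu.1 ∧ u.1 ≠ Yu.1 := by
    intro u hu'
    have h0 : dot φ' (vec u) = 0 := dot_resid_mem _ hd' u hu'
    have h2 := pair_units (u := Xu) (w := Yu) (by
      rw [← hres, hφ', dot_resid_self _ hd']; simp [hA', hR', hG', D.hv, gramU])
    exact ⟨fst_ne h0 (by rw [hres, h2.2.1]; exact one_ne_zero),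
      fst_ne h0 (by rw [hres, h2.2.2]; exact one_ne_zero)⟩
  have hφ : D.v 1 = -vec A + vec Xu + vec Yu := by
    simp only [hφ', resid, hA', hR', hG', zero_smul, sub_zero, neg_smul, one_smul] at hres
    rw [add_assoc, ← hres]; abel
  simp only [List.mem_cons, List.not_mem_nil, or_false, forall_eq_or_imp, forall_eq] at hne
  obtain ⟨⟨hRX, hRY⟩, ⟨hAX, hAY⟩, hGX, hGY⟩ := hne
  have hX0 : dot (D.v 0) (vec Xu) = 0 := by
    rw [hθ', dot_add_left, dot_add_left, dot_vec_ne hRX, dot_vec_ne hAX, dot_vec_ne hGX]; rfl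
  have hY0 : dot (D.v 0) (vec Yu) = 0 := by
    rw [hθ', dot_add_left, dot_add_left, dot_vec_ne hRY, dot_vec_ne hAY, dot_vec_ne hGY]; rfl
  have hneg : ∀ u v : X × ℤˣ, dot (-vec u) (vec v) = -dot (vec u) (vec v) := fun u v => by
    simp [dot, sum_neg_distrib]
  have hX1 : dot (D.v 1) (vec Xu) = 1 := by
    rw [hφ, dot_add_left, dot_add_left, hneg, dot_vec_ne hAX, dot_vec_self,
      dot_vec_ne hXY.symm]; rfl
  have hY1 : dot (D.v 1) (vec Yu) = 1 := by
    rw [hφ, dot_add_left, dot_add_left, hneg, dot_vec_ne hAY, dot_vec_self,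
      dot_vec_ne hXY]; rfl
  have h0 : ∀ u, dot (D.v 0) (vec u) ≠ 0 ∨ dot (D.v 1) (vec u) ≠ 0 → u.1 ≠ D.e₀ := by
    rintro u (h | h) <;> exact (fst_ne (a := (D.e₀, 1)) (by rw [D.dot_e₀]; rfl) h).symm
  refine ⟨R, A, G, Xu, Yu, hθ', hφ, ?_, by rw [hR, hA, hG, hX0, hY0],
    by rw [hR', hA', hG', hX1, hY1]⟩
  simp only [List.pairwise_cons, List.mem_cons, List.not_mem_nil, or_false, forall_eq_or_imp,
    forall_eq, IsEmpty.forall_iff, implies_true, List.Pairwise.nil, and_true] at hd' ⊢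
  obtain ⟨⟨hRA, hRG⟩, hAG⟩ := hd'
  refine ⟨⟨hRA, hRG, hRX, hRY, h0 R (Or.inl (by rw [hR]; norm_num))⟩,
    ⟨hAG, hAX, hAY, h0 A (Or.inl (by rw [hA]; norm_num))⟩,
    ⟨hGX, hGY, h0 G (Or.inl (by rw [hG]; norm_num))⟩,
    ⟨hXY, h0 Xu (Or.inr (by rw [hX1]; norm_num))⟩, h0 Yu (Or.inr (by rw [hY1]; norm_num))⟩

theorem exists_second : ∃ R A G Xu Yu Z : X × ℤˣ,
    D.v 0 = vec R + vec A + vec G ∧ D.v 1 = -vec A + vec Xu + vec Yu ∧
      D.v 2 = vec (D.e₀, 1) + vec R + vec Xu + vec Z ∧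
      [R, A, G, Xu, Yu, (D.e₀, (1 : ℤˣ)), Z].Pairwise (fun a b => a.1 ≠ b.1) := by
  obtain ⟨R, A, G, Xu, Yu, hθ, hφ, hd, h0, h1⟩ := D.exists_first
  simp only [List.cons.injEq, and_true] at h0 h1
  have hneg : ∀ (w : X → ℤ) (u : X × ℤˣ), dot w (-vec u) = -dot w (vec u) := fun w u => by
    simp [dot, sum_neg_distrib]
  have s0 : dot (D.v 2) (vec R) + dot (D.v 2) (vec A) + dot (D.v 2) (vec G) = 1 := by
    rw [← dot_add_right, ← dot_add_right, ← hθ, D.hv]; rfl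
  have s1 : -dot (D.v 2) (vec A) + dot (D.v 2) (vec Xu) + dot (D.v 2) (vec Yu) = 1 := by
    rw [← hneg, ← dot_add_right, ← dot_add_right, ← hφ, D.hv]; rfl
  have he : dot (D.v 2) (vec (D.e₀, 1)) = 1 := D.dot_e₀ 2
  have hb := bound (v := D.v 2) hd
  simp only [List.map_cons, List.map_nil, List.sum_cons, List.sum_nil,
    show dot (D.v 2) (D.v 2) = 4 from D.hv 2 2, he] at hb
  have b1 := abs_le_sq' (dot (D.v 2) (vec R))
      (by nlinarith only [hb])
  have b2 := abs_le_sq' (dot (D.v 2) (vec A))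
      (by nlinarith only [hb])
  have b3 := abs_le_sq' (dot (D.v 2) (vec G))
      (by nlinarith only [hb])
  have b4 := abs_le_sq' (dot (D.v 2) (vec Xu))
      (by nlinarith only [hb])
  have b5 := abs_le_sq' (dot (D.v 2) (vec Yu))
      (by nlinarith only [hb])
  have dA : dot (vec R) D.d + dot (vec A) D.d + dot (vec G) D.d = 0 := by
    rw [← dot_add_left, ← dot_add_left, ← hθ, D.dv]
  have dB : -dot (vec A) D.d + dot (vec Xu) D.d + dot (vec Yu) D.d = 0 := by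
    have := D.dv 1
    rw [hφ, dot_add_left, dot_add_left] at this
    rw [← this]; simp [dot, sum_neg_distrib]
  have key : ∀ p a g x y : ℤ, dot (D.v 2) (vec R) = p → dot (D.v 2) (vec A) = a →
      dot (D.v 2) (vec G) = g → dot (D.v 2) (vec Xu) = x → dot (D.v 2) (vec Yu) = y →
      p * p + a * a + g * g + x * x + y * y = 3 →
      1 + (p * dot (vec R) D.d + a * dot (vec A) D.d + g * dot (vec G) D.d +
        x * dot (vec Xu) D.d + y * dot (vec Yu) D.d) = 0 := by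
    intro p a g x y hp ha hg hx hy h3
    have hr := eq_of_resid hd (v := D.v 2) (by
      simp only [List.map_cons, List.map_nil, List.sum_cons, List.sum_nil, hp, ha, hg, hx, hy, he,
        D.hv]
      show (4 : ℤ) = _
      linarith)
    have h := congrArg (fun v => dot v D.d) hr
    simp only [resid, dot_sub_left, D.dot_zsmul_d, D.dv, hp, ha, hg, hx, hy, he] at h
    have h1 : dot (vec (D.e₀, (1 : ℤˣ))) D.d = 1 := by rw [D.dot_vec_d, D.hd₀]; simp
    have h2 : dot (0 : X → ℤ) D.d = 0 := by simp [dot]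
    rw [h1, h2] at h
    linarith
  have hcase : dot (D.v 2) (vec A) = 0 ∨
      (dot (D.v 2) (vec A) = 1 ∧ dot (D.v 2) (vec R) = 0 ∧ dot (D.v 2) (vec G) = 0 ∧
        dot (D.v 2) (vec Xu) = 1 ∧ dot (D.v 2) (vec Yu) = 1) ∨
      (dot (D.v 2) (vec A) = -1 ∧ dot (D.v 2) (vec R) = 1 ∧ dot (D.v 2) (vec G) = 1 ∧
        dot (D.v 2) (vec Xu) = 0 ∧ dot (D.v 2) (vec Yu) = 0) := by
    omega
  rcases hcase with ha | ⟨e1, e2, e3, e4, e5⟩ | ⟨e1, e2, e3, e4, e5⟩
  rotate_left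
  · have := key _ _ _ _ _ e2 e1 e3 e4 e5 (by norm_num); omega
  · have := key _ _ _ _ _ e2 e1 e3 e4 e5 (by norm_num); omega
  have hpg : (dot (D.v 2) (vec R) = 1 ∧ dot (D.v 2) (vec G) = 0 ∨
      dot (D.v 2) (vec R) = 0 ∧ dot (D.v 2) (vec G) = 1) ∧
      (dot (D.v 2) (vec Xu) = 1 ∧ dot (D.v 2) (vec Yu) = 0 ∨
      dot (D.v 2) (vec Xu) = 0 ∧ dot (D.v 2) (vec Yu) = 1) := by
    omega
  simp only [List.pairwise_cons, List.mem_cons, List.not_mem_nil, or_false, forall_eq_or_imp,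
    forall_eq, IsEmpty.forall_iff, implies_true, List.Pairwise.nil, and_true] at hd
  obtain ⟨⟨n1, n2, n3, n4, n5⟩, ⟨n6, n7, n8, n9⟩, ⟨n10, n11, n12⟩, ⟨n13, n14⟩, n15⟩ := hd
  obtain ⟨R', G', X', Y', hθ', hφ', hd', cR, cG, cX, cY⟩ : ∃ R' G' X' Y' : X × ℤˣ,
      D.v 0 = vec R' + vec A + vec G' ∧ D.v 1 = -vec A + vec X' + vec Y' ∧
      [R', A, G', X', Y', (D.e₀, (1 : ℤˣ))].Pairwise (fun a b => a.1 ≠ b.1) ∧
      dot (D.v 2) (vec R') = 1 ∧ dot (D.v 2) (vec G') = 0 ∧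
      dot (D.v 2) (vec X') = 1 ∧ dot (D.v 2) (vec Y') = 0 := by
    rcases hpg.1 with ⟨e1, e2⟩ | ⟨e1, e2⟩ <;> rcases hpg.2 with ⟨e3, e4⟩ | ⟨e3, e4⟩
    · exact ⟨R, G, Xu, Yu, hθ, hφ, by simp [*], e1, e2, e3, e4⟩
    · exact ⟨R, G, Yu, Xu, hθ, by rw [hφ]; abel, by simp [*, Ne.symm n13], e1, e2, e4, e3⟩
    · exact ⟨G, R, Xu, Yu, by rw [hθ]; abel, hφ, by simp [*, Ne.symm n1, Ne.symm n2, Ne.symm n6],
        e2, e1, e3, e4⟩
    · exact ⟨G, R, Yu, Xu, by rw [hθ]; abel, by rw [hφ]; abel,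
        by simp [*, Ne.symm n1, Ne.symm n2, Ne.symm n6, Ne.symm n13], e2, e1, e4, e3⟩
  obtain ⟨Z, hres⟩ := exists_vec_of_norm_one
    (v := resid (D.v 2) [R', A, G', X', Y', (D.e₀, 1)])
    (by rw [dot_resid_self _ hd']; simp [cR, cG, cX, cY, ha, he, D.hv, gramU])
  have hne : ∀ u ∈ [R', A, G', X', Y', (D.e₀, (1 : ℤˣ))], u.1 ≠ Z.1 := fun u hu =>
    fst_ne (dot_resid_mem (D.v 2) hd' u hu) (by rw [hres, dot_vec_self]; exact one_ne_zero)
  refine ⟨R', A, G', X', Y', Z, hθ', hφ', ?_, ?_⟩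
  · simp only [resid, cR, cG, cX, cY, ha, he, zero_smul, sub_zero, one_smul] at hres
    rw [← hres]; abel
  · exact List.pairwise_append (l₁ := [R', A, G', X', Y', (D.e₀, (1 : ℤˣ))]) (l₂ := [Z]) |>.mpr
      ⟨hd', List.pairwise_singleton _ _, fun a ha b hb => by
        rw [List.mem_singleton] at hb; exact hb ▸ hne a ha⟩

theorem exists_shape : Nonempty (Shape D) := by
  obtain ⟨R, A, G, Xu, Yu, Z, hθ, hφ, hq, hd⟩ := D.exists_second
  have hd0 := hd
  simp only [List.pairwise_cons, List.mem_cons, List.not_mem_nil, or_false, forall_eq_or_imp,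
    forall_eq, IsEmpty.forall_iff, implies_true, List.Pairwise.nil, and_true] at hd0
  obtain ⟨⟨n1, n2, n3, n4, n5, n6⟩, ⟨n7, n8, n9, n10, n11⟩, ⟨n12, n13, n14, n15⟩,
    ⟨n16, n17, n18⟩, ⟨n19, n20⟩, n21⟩ := hd0
  have hR : dot (D.v 0) (vec R) = 1 := by
    rw [hθ, dot_add_left, dot_add_left, dot_vec_self, dot_vec_ne n1.symm, dot_vec_ne n2.symm]; rfl
  have hneg : ∀ (w : X → ℤ) (u : X × ℤˣ), dot w (-vec u) = -dot w (vec u) := fun w u => by
    simp [dot, sum_neg_distrib]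
  have hs : ∀ w, dot (D.v w) (vec R) + dot (D.v w) (vec A) + dot (D.v w) (vec G) = gramU w 0 ∧
      -dot (D.v w) (vec A) + dot (D.v w) (vec Xu) + dot (D.v w) (vec Yu) = gramU w 1 ∧
      ![0, 0, 1, 1, 0, 0] w + dot (D.v w) (vec R) + dot (D.v w) (vec Xu) + dot (D.v w) (vec Z) =
        gramU w 2 := by
    intro w
    refine ⟨?_, ?_, ?_⟩
    · rw [← dot_add_right, ← dot_add_right, ← hθ, D.hv]
    · rw [← hneg, ← dot_add_right, ← dot_add_right, ← hφ, D.hv]
    · rw [← D.dot_e₀ w, ← dot_add_right, ← dot_add_right, ← dot_add_right, ← hq, D.hv]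
  have hb : ∀ w, dot (D.v w) (vec R) * dot (D.v w) (vec R) +
      (dot (D.v w) (vec A) * dot (D.v w) (vec A) + (dot (D.v w) (vec G) * dot (D.v w) (vec G) +
      (dot (D.v w) (vec Xu) * dot (D.v w) (vec Xu) + (dot (D.v w) (vec Yu) * dot (D.v w) (vec Yu) +
      (![0, 0, 1, 1, 0, 0] w * ![0, 0, 1, 1, 0, 0] w +
        (dot (D.v w) (vec Z) * dot (D.v w) (vec Z) + 0)))))) ≤ gramU w w := by
    intro w
    have h := bound (v := D.v w) hd
    simp only [List.map_cons, List.map_nil, List.sum_cons, List.sum_nil, D.hv, D.dot_e₀] at h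
    exact h
  obtain ⟨q3, r3, t3⟩ := hs 3
  have hb3 := hb 3
  simp only [show gramU 3 0 = -1 from rfl, show gramU 3 1 = 1 from rfl, show gramU 3 2 = 1 from rfl,
    show gramU 3 3 = 4 from rfl, show (![0, 0, 1, 1, 0, 0] : Fin 6 → ℤ) 3 = 1 from rfl]
    at q3 r3 t3 hb3
  have b1 := abs_le_sq' (dot (D.v 3) (vec R))
      (by nlinarith only [hb3])
  have b2 := abs_le_sq' (dot (D.v 3) (vec A))
      (by nlinarith only [hb3])
  have b3 := abs_le_sq' (dot (D.v 3) (vec G))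
      (by nlinarith only [hb3])
  have b4 := abs_le_sq' (dot (D.v 3) (vec Xu))
      (by nlinarith only [hb3])
  have b5 := abs_le_sq' (dot (D.v 3) (vec Yu))
      (by nlinarith only [hb3])
  have b6 := abs_le_sq' (dot (D.v 3) (vec Z))
      (by nlinarith only [hb3])
  have hcase : (dot (D.v 3) (vec A) = -1 ∧ dot (D.v 3) (vec R) = 0 ∧ dot (D.v 3) (vec G) = 0 ∧
        dot (D.v 3) (vec Xu) = 0 ∧ dot (D.v 3) (vec Yu) = 0 ∧ dot (D.v 3) (vec Z) = 0) ∨
      (dot (D.v 3) (vec A) = 0 ∧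
        (dot (D.v 3) (vec R) = -1 ∧ dot (D.v 3) (vec G) = 0 ∨
          dot (D.v 3) (vec R) = 0 ∧ dot (D.v 3) (vec G) = -1) ∧
        (dot (D.v 3) (vec Xu) = 1 ∧ dot (D.v 3) (vec Yu) = 0 ∨
          dot (D.v 3) (vec Xu) = 0 ∧ dot (D.v 3) (vec Yu) = 1)) := by
    omega
  have he : dot (D.v 3) (vec (D.e₀, 1)) = 1 := D.dot_e₀ 3
  rcases hcase with ⟨a3, r0, g0, x0, y0, z0⟩ | ⟨a0, hpg, hxy⟩
  · -- the two new units, one of which is in the fifth vector
    obtain ⟨V, W, hVW, hres⟩ := exists_vec_of_norm_two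
      (v := resid (D.v 3) [R, A, G, Xu, Yu, (D.e₀, 1), Z])
      (by rw [dot_resid_self _ hd]; simp [a3, r0, g0, x0, y0, z0, he, D.hv, gramU])
    have hb' : D.v 3 = vec (D.e₀, 1) - vec A + vec V + vec W := by
      simp only [resid, a3, r0, g0, x0, y0, z0, he, zero_smul, sub_zero, neg_smul, one_smul] at hres
      rw [add_assoc, ← hres]; abel
    obtain ⟨q4, r4, t4⟩ := hs 4
    have hb4 := hb 4
    simp only [show gramU 4 0 = 1 from rfl, show gramU 4 1 = -1 from rfl,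
      show gramU 4 2 = 0 from rfl, show gramU 4 4 = 2 from rfl,
      show (![0, 0, 1, 1, 0, 0] : Fin 6 → ℤ) 4 = 0 from rfl] at q4 r4 t4 hb4
    have c1 := abs_le_sq' (dot (D.v 4) (vec R))
      (by nlinarith only [hb4])
    have c2 := abs_le_sq' (dot (D.v 4) (vec A))
      (by nlinarith only [hb4])
    have c3 := abs_le_sq' (dot (D.v 4) (vec G))
      (by nlinarith only [hb4])
    have c4 := abs_le_sq' (dot (D.v 4) (vec Xu))
      (by nlinarith only [hb4])
    have c5 := abs_le_sq' (dot (D.v 4) (vec Yu))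
      (by nlinarith only [hb4])
    have c6 := abs_le_sq' (dot (D.v 4) (vec Z))
      (by nlinarith only [hb4])
    have hc : (dot (D.v 4) (vec A) = 1 ∧ dot (D.v 4) (vec R) = 0 ∧ dot (D.v 4) (vec G) = 0 ∧
          dot (D.v 4) (vec Xu) = 0 ∧ dot (D.v 4) (vec Yu) = 0 ∧ dot (D.v 4) (vec Z) = 0) ∨
        (dot (D.v 4) (vec A) = 0 ∧ dot (D.v 4) (vec R) = 1 ∧ dot (D.v 4) (vec G) = 0 ∧
          dot (D.v 4) (vec Xu) = -1 ∧ dot (D.v 4) (vec Yu) = 0 ∧ dot (D.v 4) (vec Z) = 0) ∨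
        (dot (D.v 4) (vec A) = 0 ∧ dot (D.v 4) (vec R) = 0 ∧ dot (D.v 4) (vec G) = 1 ∧
          dot (D.v 4) (vec Xu) = 0 ∧ dot (D.v 4) (vec Yu) = -1 ∧ dot (D.v 4) (vec Z) = 0) := by
      omega
    have he4 : dot (D.v 4) (vec (D.e₀, 1)) = 0 := D.dot_e₀ 4
    rcases hc with ⟨e1, e2, e3, e4, e5, e6⟩ | ⟨e1, e2, e3, e4, e5, e6⟩ | ⟨e1, e2, e3, e4, e5, e6⟩
    · obtain ⟨U, hU⟩ := exists_vec_of_norm_one
        (v := resid (D.v 4) [R, A, G, Xu, Yu, (D.e₀, 1), Z])
        (by rw [dot_resid_self _ hd]; simp [e1, e2, e3, e4, e5, e6, he4, D.hv, gramU])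
      have h4 : D.v 4 = vec A + vec U := by
        simp only [resid, e1, e2, e3, e4, e5, e6, he4, zero_smul, sub_zero, one_smul] at hU
        rw [← hU]; abel
      have h43 := D.hv 4 3
      rw [hb', dot_add_right, dot_add_right, dot_sub_right, he4, e1] at h43
      change 0 - 1 + dot (D.v 4) (vec V) + dot (D.v 4) (vec W) = 0 at h43
      rw [h4, dot_add_left, dot_add_left] at h43
      have hnV : A.1 ≠ V.1 ∧ A.1 ≠ W.1 := by
        have h0 := dot_resid_mem (D.v 3) hd A (by simp)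
        have h2 := pair_units (u := V) (w := W) (by
          rw [← hres, dot_resid_self _ hd]; simp [a3, r0, g0, x0, y0, z0, he, D.hv, gramU])
        exact ⟨fst_ne h0 (by rw [hres, h2.2.1]; exact one_ne_zero),
          fst_ne h0 (by rw [hres, h2.2.2]; exact one_ne_zero)⟩
      rw [dot_vec_ne hnV.1, dot_vec_ne hnV.2] at h43
      rcases vec_cases U V with ⟨rfl, -⟩ | ⟨hf, c⟩ | ⟨-, c⟩
      · exact ⟨R, A, G, Xu, Yu, Z, hθ, hφ, hq, hR, Or.inr (Or.inr (Or.inr (Or.inl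
          ⟨U, W, hb', Or.inl h4⟩)))⟩
      all_goals
        rcases vec_cases U W with ⟨rfl, -⟩ | ⟨-, c'⟩ | ⟨-, c'⟩
        · exact ⟨R, A, G, Xu, Yu, Z, hθ, hφ, hq, hR, Or.inr (Or.inr (Or.inr (Or.inl
            ⟨U, V, by rw [hb']; abel, Or.inl h4⟩)))⟩
        all_goals omega
    · have h4 := eq_of_resid hd (v := D.v 4) (by
        simp [e1, e2, e3, e4, e5, e6, he4, D.hv, gramU])
      simp only [resid, e1, e2, e3, e4, e5, e6, he4, zero_smul, sub_zero, neg_smul, one_smul] at h4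
      exact ⟨R, A, G, Xu, Yu, Z, hθ, hφ, hq, hR, Or.inr (Or.inr (Or.inr (Or.inl
        ⟨V, W, hb', Or.inr (Or.inl (sub_eq_zero.mp (by rw [← h4]; abel)))⟩)))⟩
    · have h4 := eq_of_resid hd (v := D.v 4) (by
        simp [e1, e2, e3, e4, e5, e6, he4, D.hv, gramU])
      simp only [resid, e1, e2, e3, e4, e5, e6, he4, zero_smul, sub_zero, neg_smul, one_smul] at h4
      exact ⟨R, A, G, Xu, Yu, Z, hθ, hφ, hq, hR, Or.inr (Or.inr (Or.inr (Or.inl
        ⟨V, W, hb', Or.inr (Or.inr (sub_eq_zero.mp (by rw [← h4]; abel)))⟩)))⟩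
  rcases hpg with ⟨r3', g3'⟩ | ⟨r3', g3'⟩ <;> rcases hxy with ⟨x3', y3'⟩ | ⟨x3', y3'⟩
  · -- the new unit pairs with the sixth vector
    have z0 : dot (D.v 3) (vec Z) = 0 := by omega
    obtain ⟨W, hres⟩ := exists_vec_of_norm_one
      (v := resid (D.v 3) [R, A, G, Xu, Yu, (D.e₀, 1), Z])
      (by rw [dot_resid_self _ hd]; simp [a0, r3', g3', x3', y3', z0, he, D.hv, gramU])
    have hb' : D.v 3 = vec (D.e₀, 1) - vec R + vec Xu + vec W := by
      simp only [resid, a0, r3', g3', x3', y3', z0, he, zero_smul, sub_zero, neg_smul,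
        one_smul] at hres
      rw [← hres]; abel
    have hnW : ∀ u ∈ [R, A, G, Xu, Yu, (D.e₀, (1 : ℤˣ)), Z], u.1 ≠ W.1 := fun u hu =>
      fst_ne (dot_resid_mem (D.v 3) hd u hu) (by rw [hres, dot_vec_self]; exact one_ne_zero)
    obtain ⟨q5, r5, t5⟩ := hs 5
    have hb5 := hb 5
    simp only [show gramU 5 0 = -1 from rfl, show gramU 5 1 = 0 from rfl,
      show gramU 5 2 = 0 from rfl, show gramU 5 5 = 2 from rfl,
      show (![0, 0, 1, 1, 0, 0] : Fin 6 → ℤ) 5 = 0 from rfl] at q5 r5 t5 hb5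
    have h53 := D.hv 5 3
    have he5 : dot (D.v 5) (vec (D.e₀, 1)) = 0 := D.dot_e₀ 5
    rw [hb', dot_add_right, dot_add_right, dot_sub_right, he5] at h53
    change 0 - dot (D.v 5) (vec R) + dot (D.v 5) (vec Xu) + dot (D.v 5) (vec W) = 1 at h53
    have hd8 : [R, A, G, Xu, Yu, (D.e₀, (1 : ℤˣ)), Z, W].Pairwise (fun a b => a.1 ≠ b.1) :=
      List.pairwise_append (l₁ := [R, A, G, Xu, Yu, (D.e₀, (1 : ℤˣ)), Z]) (l₂ := [W]) |>.mpr
        ⟨hd, List.pairwise_singleton _ _, fun a ha b hb => by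
          rw [List.mem_singleton] at hb; exact hb ▸ hnW a ha⟩
    have hb8 := bound (v := D.v 5) hd8
    simp only [List.map_cons, List.map_nil, List.sum_cons, List.sum_nil, he5,
      show dot (D.v 5) (D.v 5) = 2 from D.hv 5 5] at hb8
    have c1 := abs_le_sq' (dot (D.v 5) (vec R))
      (by nlinarith only [hb8])
    have c2 := abs_le_sq' (dot (D.v 5) (vec A))
      (by nlinarith only [hb8])
    have c3 := abs_le_sq' (dot (D.v 5) (vec G))
      (by nlinarith only [hb8])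
    have c4 := abs_le_sq' (dot (D.v 5) (vec Xu))
      (by nlinarith only [hb8])
    have c5 := abs_le_sq' (dot (D.v 5) (vec Yu))
      (by nlinarith only [hb8])
    have c6 := abs_le_sq' (dot (D.v 5) (vec Z))
      (by nlinarith only [hb8])
    have c7 := abs_le_sq' (dot (D.v 5) (vec W))
      (by nlinarith only [hb8])
    have hc : dot (D.v 5) (vec A) = 0 ∧ dot (D.v 5) (vec Xu) = 0 ∧ dot (D.v 5) (vec Yu) = 0 ∧
        ((dot (D.v 5) (vec R) = -1 ∧ dot (D.v 5) (vec G) = 0 ∧ dot (D.v 5) (vec Z) = 1 ∧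
          dot (D.v 5) (vec W) = 0) ∨
        (dot (D.v 5) (vec R) = 0 ∧ dot (D.v 5) (vec G) = -1 ∧ dot (D.v 5) (vec Z) = 0 ∧
          dot (D.v 5) (vec W) = 1)) := by
      omega
    obtain ⟨e1, e2, e3, ⟨e4, e5, e6, e7⟩ | ⟨e4, e5, e6, e7⟩⟩ := hc
    · have h5 := eq_of_resid hd8 (v := D.v 5) (by
        simp [e1, e2, e3, e4, e5, e6, e7, he5, D.hv, gramU])
      simp only [resid, e1, e2, e3, e4, e5, e6, e7, he5, zero_smul, sub_zero, neg_smul,
        one_smul] at h5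
      exact ⟨R, A, G, Xu, Yu, Z, hθ, hφ, hq, hR, Or.inr (Or.inr (Or.inr (Or.inr
        ⟨W, hb', Or.inl (sub_eq_zero.mp (by rw [← h5]; abel))⟩)))⟩
    · have h5 := eq_of_resid hd8 (v := D.v 5) (by
        simp [e1, e2, e3, e4, e5, e6, e7, he5, D.hv, gramU])
      simp only [resid, e1, e2, e3, e4, e5, e6, e7, he5, zero_smul, sub_zero, neg_smul,
        one_smul] at h5
      exact ⟨R, A, G, Xu, Yu, Z, hθ, hφ, hq, hR, Or.inr (Or.inr (Or.inr (Or.inr
        ⟨W, hb', Or.inr (sub_eq_zero.mp (by rw [← h5]; abel))⟩)))⟩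
  · have z0 : dot (D.v 3) (vec Z) = 1 := by omega
    have h := eq_of_resid hd (v := D.v 3) (by
      simp [a0, r3', g3', x3', y3', z0, he, D.hv, gramU])
    simp only [resid, a0, r3', g3', x3', y3', z0, he, zero_smul, sub_zero, neg_smul, one_smul] at h
    exact ⟨R, A, G, Xu, Yu, Z, hθ, hφ, hq, hR,
      Or.inr (Or.inl (sub_eq_zero.mp (by rw [← h]; abel)))⟩
  · have z0 : dot (D.v 3) (vec Z) = -1 := by omega
    have h := eq_of_resid hd (v := D.v 3) (by
      simp [a0, r3', g3', x3', y3', z0, he, D.hv, gramU])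
    simp only [resid, a0, r3', g3', x3', y3', z0, he, zero_smul, sub_zero, neg_smul, one_smul] at h
    exact ⟨R, A, G, Xu, Yu, Z, hθ, hφ, hq, hR,
      Or.inr (Or.inr (Or.inl (sub_eq_zero.mp (by rw [← h]; abel))))⟩
  · have z0 : dot (D.v 3) (vec Z) = 0 := by omega
    obtain ⟨W, hres⟩ := exists_vec_of_norm_one
      (v := resid (D.v 3) [R, A, G, Xu, Yu, (D.e₀, 1), Z])
      (by rw [dot_resid_self _ hd]; simp [a0, r3', g3', x3', y3', z0, he, D.hv, gramU])
    have hb' : D.v 3 = vec (D.e₀, 1) - vec G + vec Yu + vec W := by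
      simp only [resid, a0, r3', g3', x3', y3', z0, he, zero_smul, sub_zero, neg_smul,
        one_smul] at hres
      rw [← hres]; abel
    exact ⟨R, A, G, Xu, Yu, Z, hθ, hφ, hq, hR, Or.inl ⟨W, hb'⟩⟩

end Data

end Cfsg.Agent.H70.CubeFold
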