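import Cfsg.Agent.H70.CubeFoldChars
import Cfsg.Agent.H53.IndTools
import Cfsg.Agent.CharInduce.Ops
import Cfsg.Agent.CharBasic.Complete

/-!
The test functions on the model are virtual characters.
-/

set_option autoImplicit false
set_option linter.unusedSectionVars false

namespace Cfsg.Agent.H70.CubeFold

open Cfsg.Agent.CharBasic Cfsg.Agent.CharInduce Finset Complex

/-- The square root of three. -/
noncomputable def s3 : ℂ := (Real.sqrt 3 : ℂ)

theorem s3_sq : s3 * s3 = 3 := by
  rw [s3, ← Complex.ofReal_mul, Real.mul_self_sqrt (by norm_num)]; norm_num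

theorem conj_s3 : (starRingEnd ℂ) s3 = s3 := Complex.conj_ofReal _

/-- The number with given doubled coordinates. -/
noncomputable def ev (p : ℤ × ℤ × ℤ × ℤ) : ℂ :=
  (((p.1 : ℂ) + (p.2.1 : ℂ) * s3) + ((p.2.2.1 : ℂ) + (p.2.2.2 : ℂ) * s3) * I) / 2

theorem ev_add (p q : ℤ × ℤ × ℤ × ℤ) : ev (p + q) = ev p + ev q := by
  simp only [ev, Prod.fst_add, Prod.snd_add]; push_cast; ring

theorem ev_sub (p q : ℤ × ℤ × ℤ × ℤ) : ev (p - q) = ev p - ev q := by
  simp only [ev, Prod.fst_sub, Prod.snd_sub]; push_cast; ring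

theorem ev_zero : ev 0 = 0 := by simp [ev]

/-- Four times the product, in doubled coordinates. -/
def mul4 (p q : ℤ × ℤ × ℤ × ℤ) : ℤ × ℤ × ℤ × ℤ :=
  (p.1 * q.1 + 3 * (p.2.1 * q.2.1) - p.2.2.1 * q.2.2.1 - 3 * (p.2.2.2 * q.2.2.2),
    p.1 * q.2.1 + p.2.1 * q.1 - p.2.2.1 * q.2.2.2 - p.2.2.2 * q.2.2.1,
    p.1 * q.2.2.1 + p.2.2.1 * q.1 + 3 * (p.2.1 * q.2.2.2) + 3 * (p.2.2.2 * q.2.1),
    p.1 * q.2.2.2 + p.2.2.2 * q.1 + p.2.1 * q.2.2.1 + p.2.2.1 * q.2.1)

theorem mul4_zeta : ∀ a b, mul4 (zeta a) (zeta b) = zeta (a + b) + zeta (a + b) := by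
  decide +kernel

theorem ev_mul (p q : ℤ × ℤ × ℤ × ℤ) : ev p * ev q = ev (mul4 p q) / 2 := by
  simp only [ev, mul4]; push_cast
  linear_combination ((p.2.1 : ℂ) * q.2.1 / 4 + ((p.2.1 : ℂ) * q.2.2.2 + p.2.2.2 * q.2.1) * I / 4 +
      (p.2.2.2 : ℂ) * q.2.2.2 * (I * I) / 4) * s3_sq +
    (((p.2.2.1 : ℂ) + p.2.2.2 * s3) * ((q.2.2.1 : ℂ) + q.2.2.2 * s3) / 4 +
      (p.2.2.2 : ℂ) * q.2.2.2 * (3 - s3 * s3) / 4) * Complex.I_mul_I

/-- The twelfth roots of unity. -/
noncomputable def zc (a : Fin 12) : ℂ := ev (zeta a)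

theorem zc_add (a b : Fin 12) : zc (a + b) = zc a * zc b := by
  rw [zc, zc, zc, ev_mul, mul4_zeta, ev_add]; ring

theorem zc_zero : zc 0 = 1 := by simp [zc, zeta, ev]

/-- The twelfth roots of unity, as units. -/
noncomputable def zu (a : Fin 12) : ℂˣ where
  val := zc a
  inv := zc (-a)
  val_inv := by rw [← zc_add, add_neg_cancel, zc_zero]
  inv_val := by rw [← zc_add, neg_add_cancel, zc_zero]

theorem expo_one : ∀ k, expo k 1 = 0 ∧ dom k 1 = true := by decide +kernel

/-- The subgroups induced from. -/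
def Kd (k : Fin 8) : Subgroup M where
  carrier := {x | dom k (x : W) = true}
  mul_mem' := fun {a b} ha hb => (dom_expo_hom k a.2 b.2 ha hb).1
  one_mem' := (expo_one k).2
  inv_mem' := fun {a} ha => by
    show dom k (a : W)⁻¹ = true
    have h : dom k (enum (index (a : W))) = true := by rwa [enum_index a.2]
    have := dom_inv k _ h
    rwa [enum_index a.2] at this

theorem mem_Kd {k : Fin 8} {x : M} : x ∈ Kd k ↔ dom k (x : W) = true := Iff.rfl

instance (k : Fin 8) : DecidablePred (· ∈ Kd k) := fun _ => decidable_of_iff _ mem_Kd.symm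

/-- The linear characters. -/
noncomputable def lin (k : Fin 8) : Kd k →* ℂˣ where
  toFun x := zu (expo k ((x : M) : W))
  map_one' := Units.ext (by
    show zc (expo k (((1 : Kd k) : M) : W)) = 1
    rw [OneMemClass.coe_one, OneMemClass.coe_one, (expo_one k).1, zc_zero])
  map_mul' x y := Units.ext (by
    show zc (expo k (((x * y : Kd k) : M) : W)) = zc _ * zc _
    rw [← zc_add, ← (dom_expo_hom k (x : M).2 (y : M).2 x.2 y.2).2]
    rfl)

noncomputable instance : Fintype M := Fintype.ofEquiv Idx enumEquiv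

theorem card_M : Fintype.card M = 648 := by
  rw [Fintype.card_congr enumEquiv.symm]; simp only [Fintype.card_prod, Fintype.card_fin,
    DihedralGroup.card]

theorem card_Kd (k : Fin 8) :
    Fintype.card (Kd k) = (Finset.univ.filter fun i : Idx => dom k (enum i) = true).card := by
  rw [← Fintype.card_subtype]
  exact Fintype.card_congr (Equiv.subtypeEquiv enumEquiv.symm fun x => by
    show x ∈ Kd k ↔ dom k (enum (index (x : W))) = true
    rw [enum_index x.2]; exact mem_Kd)

/-- The representatives of the cosets, in the model. -/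
def repM (k : Fin 8) (i : Fin (reps k).length) : M :=
  ⟨(reps k)[i.1], reps_mem k _ (List.getElem_mem i.2)⟩

theorem repM_bijective (k : Fin 8) :
    Function.Bijective fun x : Fin (reps k).length × Kd k => repM k x.1 * (x.2 : M) := by
  refine (Fintype.bijective_iff_injective_and_card _).mpr ⟨?_, ?_⟩
  · rintro ⟨i, h⟩ ⟨j, h'⟩ e
    simp only at e
    have hmem : (repM k i)⁻¹ * repM k j ∈ Kd k := by
      have : (repM k i)⁻¹ * repM k j = (h : M) * (h' : M)⁻¹ := by
        rw [eq_mul_inv_iff_mul_eq, mul_assoc, ← e, ← mul_assoc, inv_mul_cancel, one_mul]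
      rw [this]; exact mul_mem h.2 (inv_mem h'.2)
    have hij : i = j := by
      by_contra hne
      rcases lt_or_gt_of_ne (fun e => hne (Fin.ext e) : i.1 ≠ j.1) with hlt | hlt
      · exact List.pairwise_iff_getElem.mp (reps_nodup k) i j i.2 j.2 hlt (mem_Kd.mp hmem)
      · exact List.pairwise_iff_getElem.mp (reps_nodup k) j i j.2 i.2 hlt
          (mem_Kd.mp (by simpa using inv_mem hmem))
    subst hij
    exact Prod.ext rfl (Subtype.ext (mul_left_cancel e))
  · rw [Fintype.card_prod, Fintype.card_fin, card_M, card_Kd, reps_card]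

theorem ev_list_sum (l : List (ℤ × ℤ × ℤ × ℤ)) : ev l.sum = (l.map ev).sum := by
  induction l with
  | nil => simp [ev_zero]
  | cons a l ih => rw [List.sum_cons, List.map_cons, List.sum_cons, ev_add, ih]

theorem isChar_sum (k : Fin 8) (l : Kd k →* ℂˣ) (z : W → ℤ × ℤ × ℤ × ℤ)
    (hz : ∀ x : Kd k, (l x : ℂ) = ev (z ((x : M) : W))) :
    IsCharacter M fun h => ev ((reps k).map fun r =>
      if dom k (r⁻¹ * (h : W) * r) then z (r⁻¹ * (h : W) * r) else 0).sum := by
  classical
  have hc := isCharacter_hom l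
  refine (congrArg _ (funext fun h => ?_)).mp (CharInduce.IsChar.ind (Kd k) hc)
  rw [H53.indFun_eq_sum_transversal (repM k) (repM_bijective k) _
    (CharBasic.IsChar.isClassFunction hc), ev_list_sum, List.map_map,
    ← Fin.sum_univ_fun_getElem]
  refine Finset.sum_congr rfl fun i _ => ?_
  simp only [Function.comp_apply]
  by_cases hm : (repM k i)⁻¹ * h * repM k i ∈ Kd k
  · rw [extendByZero_of_mem _ hm, hz]
    have hd := mem_Kd.mp hm
    simp only [Subgroup.coe_mul, Subgroup.coe_inv, repM] at hd ⊢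
    rw [if_pos hd]
  · rw [extendByZero_of_not_mem _ hm]
    rw [mem_Kd] at hm
    simp only [Subgroup.coe_mul, Subgroup.coe_inv, repM] at hm
    simp [hm, ev_zero]

theorem isGen_monom (k : Fin 8) : IsGeneralizedCharacter M fun h => ev (monom k (h : W)) :=
  CharInduce.IsGen.of_char (isChar_sum k (lin k) (fun x => zeta (expo k x)) fun _ => rfl)

theorem isGen_one : IsGeneralizedCharacter M fun _ => ev triv₂ := by
  simpa [ev, triv₂] using CharInduce.IsGen.of_char (CharInduce.IsChar.one (G := M))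

theorem isGen_two : IsGeneralizedCharacter M fun h => ev (two (h : W)) := by
  have h := CharInduce.IsGen.sub (CharInduce.IsGen.of_char (isChar_sum 4 1 (fun _ => triv₂)
    (fun _ => by simp [ev, triv₂]))) isGen_one
  refine (congrArg _ (funext fun x => ?_)).mp h
  simp only [Pi.sub_apply, two, ev_sub]
  rfl

theorem isGen_comb (w : Fin 6) : IsGeneralizedCharacter M fun h => ev (comb w (h : W)) := by
  fin_cases w
  · refine (congrArg _ (funext fun x => ?_)).mp (CharInduce.IsGen.sub
      (CharInduce.IsGen.add isGen_two (isGen_monom 0)) (isGen_monom 3))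
    simp [comb, ev_add, ev_sub]
  · refine (congrArg _ (funext fun x => ?_)).mp (CharInduce.IsGen.sub
      (CharInduce.IsGen.add (isGen_monom 4) (isGen_monom 5)) (isGen_monom 0))
    simp [comb, ev_add, ev_sub]
  · refine (congrArg _ (funext fun x => ?_)).mp (CharInduce.IsGen.sub
      (CharInduce.IsGen.add (CharInduce.IsGen.add isGen_one isGen_two) (isGen_monom 4))
      (isGen_monom 1))
    simp [comb, ev_add, ev_sub]
  · refine (congrArg _ (funext fun x => ?_)).mp (CharInduce.IsGen.add (CharInduce.IsGen.sub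
      (CharInduce.IsGen.add isGen_one (isGen_monom 5)) (isGen_monom 2)) (isGen_monom 3))
    simp [comb, ev_add, ev_sub]
  · refine (congrArg _ (funext fun x => ?_)).mp
      (CharInduce.IsGen.sub (isGen_monom 0) (isGen_monom 6))
    simp [comb, ev_sub]
  · refine (congrArg _ (funext fun x => ?_)).mp
      (CharInduce.IsGen.sub (isGen_monom 3) (isGen_monom 7))
    simp [comb, ev_sub]

/-- The number with given doubled real coordinates. -/
noncomputable def ev2 (p : ℤ × ℤ) : ℂ := ((p.1 : ℂ) + (p.2 : ℂ) * s3) / 2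

theorem ev2_add (p q : ℤ × ℤ) : ev2 (p + q) = ev2 p + ev2 q := by
  simp only [ev2, Prod.fst_add, Prod.snd_add]; push_cast; ring

theorem conj_ev2 (p : ℤ × ℤ) : (starRingEnd ℂ) (ev2 p) = ev2 p := by
  simp [ev2, conj_s3, map_ofNat]

theorem isGen_test (w : Fin 6) :
    IsGeneralizedCharacter M fun h => ev2 (tab w (cl (h : W))) := by
  refine (congrArg _ (funext fun x => ?_)).mp (isGen_comb w)
  have h := comb_eq w (index (x : W))
  rw [test, enum_index x.2] at h
  rw [h]
  simp [ev, ev2]

end Cfsg.Agent.H70.CubeFold
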