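import Mathlib

/-!
Integer vectors of small norm: the combinatorics of the isometry for three coupled families.
-/

set_option autoImplicit false
set_option linter.unusedSectionVars false

namespace Cfsg.Agent.H70.SignedUnits

open Finset

variable {X : Type*} [Fintype X] [DecidableEq X]

/-- A signed coordinate vector. -/
def vec (u : X × ℤˣ) : X → ℤ := Pi.single u.1 (u.2 : ℤ)

/-- The standard inner product. -/
def dot (v w : X → ℤ) : ℤ := ∑ x, v x * w x

theorem dot_comm (v w : X → ℤ) : dot v w = dot w v := by simp [dot, mul_comm]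

theorem dot_add_left (u v w : X → ℤ) : dot (u + v) w = dot u w + dot v w := by
  simp [dot, add_mul, sum_add_distrib]

theorem dot_sub_left (u v w : X → ℤ) : dot (u - v) w = dot u w - dot v w := by
  simp [dot, sub_mul, sum_sub_distrib]

theorem dot_add_right (u v w : X → ℤ) : dot u (v + w) = dot u v + dot u w := by
  simp [dot, mul_add, sum_add_distrib]

theorem dot_sub_right (u v w : X → ℤ) : dot u (v - w) = dot u v - dot u w := by
  simp [dot, mul_sub, sum_sub_distrib]

theorem dot_vec (v : X → ℤ) (u : X × ℤˣ) : dot v (vec u) = v u.1 * u.2 := by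
  rw [dot, Finset.sum_eq_single u.1]
  · simp [vec]
  · intro x _ hx; simp [vec, Pi.single_eq_of_ne hx]
  · simp

theorem dot_vec_self (u : X × ℤˣ) : dot (vec u) (vec u) = 1 := by
  rw [dot_vec]
  simp only [vec, Pi.single_eq_same]
  rcases Int.units_eq_one_or u.2 with h | h <;> simp [h]

theorem dot_vec_ne {u v : X × ℤˣ} (h : u.1 ≠ v.1) : dot (vec u) (vec v) = 0 := by
  rw [dot_vec]; simp [vec, Pi.single_eq_of_ne h.symm]

theorem vec_cases (u v : X × ℤˣ) :
    u = v ∧ dot (vec u) (vec v) = 1 ∨ u.1 = v.1 ∧ dot (vec u) (vec v) = -1 ∨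
      u.1 ≠ v.1 ∧ dot (vec u) (vec v) = 0 := by
  by_cases h : u.1 = v.1
  · by_cases h' : u.2 = v.2
    · exact Or.inl ⟨Prod.ext h h', by rw [Prod.ext h h']; exact dot_vec_self v⟩
    · refine Or.inr (Or.inl ⟨h, ?_⟩)
      rw [dot_vec]
      simp only [vec, h, Pi.single_eq_same]
      rcases Int.units_eq_one_or u.2 with e | e <;> rcases Int.units_eq_one_or v.2 with e' | e' <;>
        simp [e, e'] at h' ⊢
  · exact Or.inr (Or.inr ⟨h, dot_vec_ne h⟩)

theorem dot_self_nonneg (v : X → ℤ) : 0 ≤ dot v v :=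
  sum_nonneg fun x _ => mul_self_nonneg (v x)

theorem eq_zero_of_dot_self {v : X → ℤ} (h : dot v v = 0) : v = 0 :=
  funext fun x => mul_self_eq_zero.mp
    ((sum_eq_zero_iff_of_nonneg fun y _ => mul_self_nonneg (v y)).mp h x (mem_univ x))

/-- A vector minus a signed unit. -/
theorem dot_sub_vec (v : X → ℤ) (u : X × ℤˣ) :
    dot (v - vec u) (v - vec u) = dot v v - 2 * dot v (vec u) + 1 := by
  rw [dot_sub_left, dot_sub_right, dot_sub_right, dot_vec_self, dot_comm (vec u) v]; ring

theorem exists_vec_of_norm_one {v : X → ℤ} (h : dot v v = 1) : ∃ u, v = vec u := by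
  obtain ⟨x, hx⟩ : ∃ x, v x ≠ 0 := by
    by_contra hc
    push Not at hc
    simp [dot, hc] at h
  have hle : v x * v x ≤ dot v v :=
    single_le_sum (f := fun y => v y * v y) (fun y _ => mul_self_nonneg (v y)) (mem_univ x)
  have h1 : 0 < v x * v x := mul_self_pos.mpr hx
  have hu : IsUnit (v x) := IsUnit.of_mul_eq_one (v x) (by omega)
  refine ⟨(x, hu.unit), sub_eq_zero.mp (eq_zero_of_dot_self ?_)⟩
  rw [dot_sub_vec, h, dot_vec]
  simp only [IsUnit.unit_spec]
  omega

theorem exists_vec_of_norm_two {v : X → ℤ} (h : dot v v = 2) :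
    ∃ u w : X × ℤˣ, u.1 ≠ w.1 ∧ v = vec u + vec w := by
  obtain ⟨x, hx⟩ : ∃ x, v x ≠ 0 := by
    by_contra hc
    push Not at hc
    simp [dot, hc] at h
  have hle : v x * v x ≤ dot v v :=
    single_le_sum (f := fun y => v y * v y) (fun y _ => mul_self_nonneg (v y)) (mem_univ x)
  have h1 : 0 < v x * v x := mul_self_pos.mpr hx
  have hb : v x = 1 ∨ v x = -1 := by
    have : -1 ≤ v x ∧ v x ≤ 1 := ⟨by nlinarith, by nlinarith⟩
    omega
  have hu : IsUnit (v x) := Int.isUnit_iff.mpr hb
  have hd : dot v (vec (x, hu.unit)) = 1 := by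
    rw [dot_vec]; simp only [IsUnit.unit_spec]; rcases hb with e | e <;> simp [e]
  obtain ⟨w, hw⟩ := exists_vec_of_norm_one (v := v - vec (x, hu.unit))
    (by rw [dot_sub_vec, hd, h]; norm_num)
  refine ⟨(x, hu.unit), w, fun e => ?_, by rw [← hw]; abel⟩
  have h2 : dot (vec w) (vec (x, hu.unit)) = 0 := by
    rw [← hw, dot_sub_left, hd, dot_vec_self]; rfl
  rw [dot_vec] at h2
  rcases mul_eq_zero.mp h2 with h3 | h3
  · exact w.2.ne_zero (by simpa only [vec, show x = w.1 from e, Pi.single_eq_same] using h3)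
  · exact hu.unit.ne_zero h3

/-- Bessel's inequality for signed units on distinct coordinates. -/
theorem bessel (v : X → ℤ) {n : ℕ} (U : Fin n → X × ℤˣ)
    (hU : ∀ i j, i ≠ j → (U i).1 ≠ (U j).1) :
    ∑ i, dot v (vec (U i)) * dot v (vec (U i)) ≤ dot v v := by
  have h : ∀ i, dot v (vec (U i)) * dot v (vec (U i)) = v (U i).1 * v (U i).1 := by
    intro i
    rw [dot_vec]
    rcases Int.units_eq_one_or (U i).2 with e | e <;> simp [e]
  rw [sum_congr rfl fun i _ => h i]
  have hinj : Set.InjOn (fun i => (U i).1) (univ : Finset (Fin n)) := fun i _ j _ e =>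
    by_contra fun hne => hU i j hne e
  rw [← sum_image (f := fun x => v x * v x) hinj]
  exact sum_le_univ_sum_of_nonneg fun x => mul_self_nonneg (v x)

theorem small {a n : ℤ} (h : a * a ≤ n) (hn : n < 4) : a = -1 ∨ a = 0 ∨ a = 1 := by
  have : -1 ≤ a ∧ a ≤ 1 := ⟨by nlinarith, by nlinarith⟩
  omega

/-- The data: three coupled families of virtual characters, given by coefficient vectors. -/
structure Data (X : Type*) [Fintype X] [DecidableEq X] where
  e₀ : X
  d : X → ℤ
  a : Fin 3 → X → ℤ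
  b : Fin 3 → X → ℤ
  c : Fin 3 → X → ℤ
  hd : ∀ x, 0 < d x
  hd₀ : d e₀ = 1
  a₀ : ∀ i, a i e₀ = 1
  b₀ : ∀ i, b i e₀ = 0
  c₀ : ∀ i, c i e₀ = 0
  da : ∀ i, dot (a i) d = 0
  db : ∀ i, dot (b i) d = 0
  dc : ∀ i, dot (c i) d = 0
  haa : ∀ i j, dot (a i) (a j) = if i = j then 3 else 1
  hab : ∀ i j, dot (a i) (b j) = if i = j then 0 else 1
  hbb : ∀ i j, dot (b i) (b j) = if i = j then 3 else 1
  hca : ∀ i j, dot (c i) (a j) = if i = j then 1 else 0
  hcb : ∀ i j, dot (c i) (b j) = if i = j then 1 else 0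
  hcc : ∀ i, dot (c i) (c i) = 3

/-- Distinctness of three indices. -/
def Tri (i j k : Fin 3) : Prop := i ≠ j ∧ j ≠ k ∧ i ≠ k

theorem Tri.swap {i j k : Fin 3} (h : Tri i j k) : Tri i k j :=
  ⟨h.2.2, h.2.1.symm, h.1⟩

theorem Tri.rot {i j k : Fin 3} (h : Tri i j k) : Tri j k i :=
  ⟨h.2.1, h.2.2.symm, h.1.symm⟩

theorem tri_succ : ∀ i : Fin 3, Tri i (i + 1) (i + 2) := by unfold Tri; decide

theorem Tri.cases {i j k : Fin 3} (h : Tri i j k) (l : Fin 3) : l = i ∨ l = j ∨ l = k := by
  revert h; unfold Tri; revert i j k l; decide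

theorem Tri.succ {i j k : Fin 3} (h : Tri i j k) :
    j = i + 1 ∧ k = i + 2 ∨ j = i + 2 ∧ k = i + 1 := by
  revert h; unfold Tri; revert i j k; decide

namespace Data

variable (D : Data X)

/-- Values of the degree function on a signed unit. -/
def deg (u : X × ℤˣ) : ℤ := (u.2 : ℤ) * D.d u.1

theorem dot_vec_d (u : X × ℤˣ) : dot (vec u) D.d = D.deg u := by
  rw [dot_comm, dot_vec, deg, mul_comm]

theorem deg_ne_zero (u : X × ℤˣ) : D.deg u ≠ 0 := by
  have := D.hd u.1
  rcases Int.units_eq_one_or u.2 with e | e <;> simp [deg, e] <;> omega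

/-- The part of `a i` outside the trivial coordinate. -/
def A (i : Fin 3) : X → ℤ := D.a i - vec (D.e₀, 1)

theorem dot_e₀ (v : X → ℤ) : dot v (vec (D.e₀, 1)) = v D.e₀ := by rw [dot_vec]; simp

theorem dot_A_A (i j : Fin 3) : dot (D.A i) (D.A j) = if i = j then 2 else 0 := by
  rw [A, A, dot_sub_left, dot_sub_right, dot_sub_right, dot_vec_self, D.haa, D.dot_e₀,
    dot_comm (vec (D.e₀, (1 : ℤˣ))), D.dot_e₀, D.a₀, D.a₀]
  split_ifs <;> norm_num

theorem dot_b_A (i j : Fin 3) : dot (D.b i) (D.A j) = if j = i then 0 else 1 := by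
  rw [A, dot_sub_right, D.dot_e₀, D.b₀, dot_comm, D.hab, sub_zero]

theorem dot_c_A (i j : Fin 3) : dot (D.c i) (D.A j) = if i = j then 1 else 0 := by
  rw [A, dot_sub_right, D.dot_e₀, D.c₀, D.hca, sub_zero]

theorem dot_A_d (i : Fin 3) : dot (D.A i) D.d = -1 := by
  rw [A, dot_sub_left, D.da, D.dot_vec_d, deg]; simp [D.hd₀]

theorem exists_sides :
    ∃ σ : Fin 3 → Bool → X × ℤˣ, (∀ i, D.A i = vec (σ i false) + vec (σ i true)) ∧
      (∀ i, D.deg (σ i false) + D.deg (σ i true) = -1) ∧
      ∀ i s j t, (i, s) ≠ (j, t) → (σ i s).1 ≠ (σ j t).1 := by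
  have h : ∀ i, ∃ u w : X × ℤˣ, u.1 ≠ w.1 ∧ D.A i = vec u + vec w := fun i =>
    exists_vec_of_norm_two (by rw [D.dot_A_A, if_pos rfl])
  choose u w hne hA using h
  refine ⟨fun i s => if s then w i else u i, fun i => by simpa using hA i, fun i => ?_, ?_⟩
  · have := D.dot_A_d i
    rw [hA, dot_add_left, D.dot_vec_d, D.dot_vec_d] at this
    simpa using this
  have key : ∀ i j, i ≠ j → ∀ p q r s : X × ℤˣ, D.A i = vec p + vec q → p.1 ≠ q.1 →
      D.A j = vec r + vec s → r.1 ≠ s.1 → p.1 ≠ r.1 := by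
    intro i j hij p q r s hi hpq hj hrs e
    have h0 := D.dot_A_A i j
    rw [if_neg hij, hi, hj] at h0
    simp only [dot_add_left, dot_add_right] at h0
    rw [dot_vec_ne (u := p) (v := s) (e ▸ hrs), dot_vec_ne (u := q) (v := r) (e ▸ hpq.symm)] at h0
    have d1 := D.dot_A_d i
    have d2 := D.dot_A_d j
    rw [hi, dot_add_left, D.dot_vec_d, D.dot_vec_d] at d1
    rw [hj, dot_add_left, D.dot_vec_d, D.dot_vec_d] at d2
    have hr : dot (vec p) (vec r) = (r.2 : ℤ) * p.2 := by
      rw [dot_vec]; simp [vec, e, mul_comm]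
    have hpr : dot (vec p) (vec r) ≠ 0 := by
      rw [hr]; exact mul_ne_zero r.2.ne_zero p.2.ne_zero
    have hqs : q.1 = s.1 := by_contra fun hh => hpr (by rw [dot_vec_ne hh] at h0; omega)
    have hqs' : dot (vec q) (vec s) = (s.2 : ℤ) * q.2 := by
      rw [dot_vec]; simp [vec, hqs, mul_comm]
    rw [hr, hqs'] at h0
    have dp := D.hd r.1
    have dq := D.hd s.1
    simp only [deg, e, hqs] at d1 d2
    rcases Int.units_eq_one_or p.2 with hp | hp <;> rcases Int.units_eq_one_or r.2 with hr' | hr' <;>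
      rcases Int.units_eq_one_or q.2 with hq | hq <;> rcases Int.units_eq_one_or s.2 with hs | hs <;>
      simp only [hp, hr', hq, hs, Units.val_neg, Units.val_one] at h0 d1 d2 ⊢ <;> omega
  intro i s j t hne'
  by_cases hij : i = j
  · subst hij
    have hst : s ≠ t := fun e => hne' (by rw [e])
    cases s <;> cases t <;> simp at hst ⊢
    · exact hne i
    · exact (hne i).symm
  · have h1 := fun i => (hne i).symm
    have hA' : ∀ i, D.A i = vec (w i) + vec (u i) := fun i => (hA i).trans (add_comm _ _)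
    cases s <;> cases t <;> simp only [Bool.false_eq_true, if_false, if_true]
    · exact key i j hij _ _ _ _ (hA i) (hne i) (hA j) (hne j)
    · exact key i j hij _ _ _ _ (hA i) (hne i) (hA' j) (h1 j)
    · exact key i j hij _ _ _ _ (hA' i) (h1 i) (hA j) (hne j)
    · exact key i j hij _ _ _ _ (hA' i) (h1 i) (hA' j) (h1 j)

/-- The intermediate data: the two sides of each `a i`. -/
structure Sides (D : Data X) where
  σ : Fin 3 → Bool → X × ℤˣ
  hA : ∀ i, D.A i = vec (σ i false) + vec (σ i true)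
  hdeg : ∀ i, D.deg (σ i false) + D.deg (σ i true) = -1
  hne : ∀ i s j t, (i, s) ≠ (j, t) → (σ i s).1 ≠ (σ j t).1

variable {D}

namespace Sides

variable (S : Sides D)

theorem orth {i j : Fin 3} {s t : Bool} (h : (i, s) ≠ (j, t)) :
    dot (vec (S.σ i s)) (vec (S.σ j t)) = 0 := dot_vec_ne (S.hne i s j t h)

theorem dot_sides (v : X → ℤ) (i : Fin 3) (s : Bool) :
    dot v (vec (S.σ i s)) + dot v (vec (S.σ i !s)) = dot v (D.A i) := by
  rw [S.hA, dot_add_right]
  cases s <;> simp [add_comm]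

theorem deg_sides (i : Fin 3) (s : Bool) : D.deg (S.σ i s) + D.deg (S.σ i !s) = -1 := by
  have := S.hdeg i
  cases s <;> simp <;> omega

/-- Six signed units on distinct coordinates. -/
def six (i j k : Fin 3) : Fin 6 → X × ℤˣ :=
  ![S.σ i false, S.σ i true, S.σ j false, S.σ j true, S.σ k false, S.σ k true]

theorem six_ne {i j k : Fin 3} (h : Tri i j k) : ∀ m n, m ≠ n →
    (S.six i j k m).1 ≠ (S.six i j k n).1 := by
  obtain ⟨h1, h2, h3⟩ := h
  intro m n hmn
  fin_cases m <;> fin_cases n <;> simp only [six] <;> first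
    | exact absurd rfl hmn
    | (apply S.hne; simp [h1, h2, h3, h1.symm, h2.symm, h3.symm])

theorem exists_b {i j k : Fin 3} (h : Tri i j k) :
    ∃ (s t : Bool) (R : X × ℤˣ), D.b i = vec (S.σ j s) + vec (S.σ k t) + vec R ∧
      ∀ l u, R.1 ≠ (S.σ l u).1 := by
  obtain ⟨h1, h2, h3⟩ := h
  have hi := S.dot_sides (D.b i) i false
  have hj := S.dot_sides (D.b i) j false
  have hk := S.dot_sides (D.b i) k false
  rw [D.dot_b_A, if_pos rfl] at hi
  rw [D.dot_b_A, if_neg h1.symm] at hj
  rw [D.dot_b_A, if_neg h3.symm] at hk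
  have hb := bessel (D.b i) (S.six i j k) (S.six_ne ⟨h1, h2, h3⟩)
  rw [D.hbb, if_pos rfl] at hb
  simp only [Fin.sum_univ_six, six, Matrix.cons_val, Bool.not_false] at hb hi hj hk
  generalize g0 : dot (D.b i) (vec (S.σ i false)) = x0 at hi hb
  generalize g1 : dot (D.b i) (vec (S.σ i true)) = x1 at hi hb
  generalize g2 : dot (D.b i) (vec (S.σ j false)) = y0 at hj hb
  generalize g3 : dot (D.b i) (vec (S.σ j true)) = y1 at hj hb
  generalize g4 : dot (D.b i) (vec (S.σ k false)) = z0 at hk hb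
  generalize g5 : dot (D.b i) (vec (S.σ k true)) = z1 at hk hb
  have sx0 := small (n := 3) (a := x0) (by nlinarith) (by norm_num)
  have sy0 := small (n := 3) (a := y0) (by nlinarith) (by norm_num)
  have sy1 := small (n := 3) (a := y1) (by nlinarith) (by norm_num)
  have sz0 := small (n := 3) (a := z0) (by nlinarith) (by norm_num)
  have sz1 := small (n := 3) (a := z1) (by nlinarith) (by norm_num)
  have hx1 : x1 = -x0 := by omega
  subst hx1
  have hres : x0 = 0 ∧ (y0 = 1 ∧ y1 = 0 ∨ y0 = 0 ∧ y1 = 1) ∧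
      (z0 = 1 ∧ z1 = 0 ∨ z0 = 0 ∧ z1 = 1) := by
    rcases sx0 with rfl | rfl | rfl <;> rcases sy0 with rfl | rfl | rfl <;>
      rcases sy1 with rfl | rfl | rfl <;> rcases sz0 with rfl | rfl | rfl <;>
      rcases sz1 with rfl | rfl | rfl <;> omega
  obtain ⟨rfl, hy, hz⟩ := hres
  obtain ⟨s, hs, hs'⟩ : ∃ s, dot (D.b i) (vec (S.σ j s)) = 1 ∧
      dot (D.b i) (vec (S.σ j !s)) = 0 := by
    rcases hy with ⟨e, e'⟩ | ⟨e, e'⟩
    · exact ⟨false, g2.trans e, g3.trans e'⟩
    · exact ⟨true, g3.trans e', g2.trans e⟩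
  obtain ⟨t, ht, ht'⟩ : ∃ t, dot (D.b i) (vec (S.σ k t)) = 1 ∧
      dot (D.b i) (vec (S.σ k !t)) = 0 := by
    rcases hz with ⟨e, e'⟩ | ⟨e, e'⟩
    · exact ⟨false, g4.trans e, g5.trans e'⟩
    · exact ⟨true, g5.trans e', g4.trans e⟩
  have hjk : dot (vec (S.σ j s)) (vec (S.σ k t)) = 0 := S.orth (by simp [h2])
  obtain ⟨R, hR⟩ := exists_vec_of_norm_one
    (v := D.b i - vec (S.σ j s) - vec (S.σ k t)) (by
    rw [dot_sub_vec, dot_sub_vec, dot_sub_left, hs, ht, D.hbb, if_pos rfl, hjk]
    norm_num)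
  refine ⟨s, t, R, by rw [← hR]; abel, fun l u e => ?_⟩
  have hz' : dot (vec R) (vec (S.σ l u)) = 0 := by
    rw [← hR, dot_sub_left, dot_sub_left]
    rcases Tri.cases ⟨h1, h2, h3⟩ l with rfl | rfl | rfl
    · rw [S.orth (by simp [h1.symm]), S.orth (by simp [h3.symm])]
      cases u <;> simp [g0, g1]
    · rw [S.orth (i := k) (by simp [h2.symm])]
      by_cases hu : u = s
      · subst hu; rw [hs, dot_vec_self]; norm_num
      · rw [(Bool.eq_not_iff.mpr hu), hs', S.orth (by simp)]; norm_num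
    · rw [S.orth (i := j) (by simp [h2])]
      by_cases hu : u = t
      · subst hu; rw [ht, dot_vec_self]; norm_num
      · rw [(Bool.eq_not_iff.mpr hu), ht', S.orth (by simp)]; norm_num
  rw [dot_vec] at hz'
  simp [vec, e] at hz'

theorem consistency (β : Fin 3 → Fin 3 → Bool) (R : Fin 3 → X × ℤˣ)
    (hb : ∀ {i j k : Fin 3}, Tri i j k →
      D.b i = vec (S.σ j (β i j)) + vec (S.σ k (β i k)) + vec (R i))
    (hR : ∀ i l u, (R i).1 ≠ (S.σ l u).1) {i j k : Fin 3} (h : Tri i j k) :
    β j i = β k i := by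
  have hRσ : ∀ i l u, dot (vec (R i)) (vec (S.σ l u)) = 0 := fun i l u => dot_vec_ne (hR i l u)
  -- what the third family gives at an inconsistent index
  have step : ∀ {i j k : Fin 3}, Tri i j k → β j i ≠ β k i →
      dot (D.c i) (vec (S.σ i (β j i))) = 1 →
      β i k ≠ β j k ∧
        D.deg (S.σ i (β j i)) = D.deg (S.σ k (β j k)) - D.deg (S.σ k (β i k)) := by
    intro i j k h hne hp
    obtain ⟨h1, h2, h3⟩ := h
    have hki : β k i = !β j i := Bool.eq_not_iff.mpr (Ne.symm hne)
    have hRjk : R j = R k := by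
      have h0 := D.hbb j k
      rw [if_neg h2, hb (i := j) (j := i) (k := k) ⟨h1.symm, h3, h2⟩,
        hb (i := k) (j := i) (k := j) ⟨h3.symm, h1, h2.symm⟩] at h0
      simp only [dot_add_left, dot_add_right] at h0
      rw [S.orth (i := i) (j := i) (by simpa using hne), S.orth (i := i) (j := j) (by simp [h1]),
        S.orth (i := k) (j := i) (by simp [h3.symm]), S.orth (i := k) (j := j) (by simp [h2.symm]),
        dot_comm (vec (S.σ i (β j i))) (vec (R k)), hRσ,
        dot_comm (vec (S.σ k (β j k))) (vec (R k)), hRσ, hRσ, hRσ] at h0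
      rcases vec_cases (R j) (R k) with ⟨e, -⟩ | ⟨-, e⟩ | ⟨-, e⟩ <;> first | exact e | omega
    have ci := S.dot_sides (D.c i) i (β j i)
    have cj := S.dot_sides (D.c i) j (β k j)
    have ck := S.dot_sides (D.c i) k (β j k)
    rw [D.dot_c_A, if_pos rfl, hp] at ci
    rw [D.dot_c_A, if_neg h1] at cj
    rw [D.dot_c_A, if_neg h3] at ck
    have cbj := D.hcb i j
    have cbk := D.hcb i k
    rw [if_neg h1, hb (i := j) (j := i) (k := k) ⟨h1.symm, h3, h2⟩] at cbj
    rw [if_neg h3, hb (i := k) (j := i) (k := j) ⟨h3.symm, h1, h2.symm⟩, ← hRjk, hki] at cbk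
    simp only [dot_add_right] at cbj cbk
    rw [hp] at cbj
    let U : Fin 7 → X × ℤˣ := ![S.σ i (β j i), S.σ i !(β j i), S.σ j (β k j), S.σ j !(β k j),
      S.σ k (β j k), S.σ k !(β j k), R j]
    have hU : ∀ m n, m ≠ n → (U m).1 ≠ (U n).1 := by
      intro m n hmn
      fin_cases m <;> fin_cases n <;> simp only [U] <;> first
        | exact absurd rfl hmn
        | exact (hR j _ _)
        | exact (hR j _ _).symm
        | (apply S.hne; simp [h1, h2, h3, h1.symm, h2.symm, h3.symm])
    have hbes := bessel (D.c i) U hU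
    rw [D.hcc] at hbes
    simp only [Fin.sum_univ_seven, U, Matrix.cons_val] at hbes
    generalize g0 : dot (D.c i) (vec (S.σ i !(β j i))) = x at ci cbk hbes
    generalize g1 : dot (D.c i) (vec (S.σ j (β k j))) = y0 at cj cbk hbes
    generalize g2 : dot (D.c i) (vec (S.σ j !(β k j))) = y1 at cj hbes
    generalize g3 : dot (D.c i) (vec (S.σ k (β j k))) = z0 at ck cbj hbes
    generalize g4 : dot (D.c i) (vec (S.σ k !(β j k))) = z1 at ck hbes
    generalize g5 : dot (D.c i) (vec (R j)) = γ at cbj cbk hbes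
    rw [hp] at hbes
    have hx : x = 0 := by omega
    subst hx
    have hy1 : y1 = -y0 := by omega
    have hz1 : z1 = -z0 := by omega
    subst hy1; subst hz1
    have sγ := small (n := 3) (a := γ) (by nlinarith) (by norm_num)
    have hy0 : y0 = -γ := by omega
    have hz0 : z0 = -1 - γ := by omega
    subst hy0; subst hz0
    have hγ : γ = 0 := by rcases sγ with rfl | rfl | rfl <;> omega
    subst hγ
    have hrest : D.c i = vec (S.σ i (β j i)) - vec (S.σ k (β j k)) + vec (S.σ k !(β j k)) := by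
      refine sub_eq_zero.mp (eq_zero_of_dot_self ?_)
      simp only [dot_sub_left, dot_sub_right, dot_add_left, dot_add_right, D.hcc, dot_vec_self,
        dot_comm (vec _) (D.c i), hp, g3, g4]
      rw [S.orth (i := i) (j := k) (by simp [h3]), S.orth (i := i) (j := k) (by simp [h3]),
        S.orth (i := k) (j := i) (by simp [h3.symm]), S.orth (i := k) (j := i) (by simp [h3.symm]),
        S.orth (i := k) (j := k) (by simp), S.orth (i := k) (j := k) (by simp)]
      norm_num
    have cbi := D.hcb i i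
    rw [if_pos rfl, hb (i := i) (j := j) (k := k) ⟨h1, h2, h3⟩] at cbi
    simp only [dot_add_right] at cbi
    have hri : dot (D.c i) (vec (R i)) = 0 := by
      rw [hrest, dot_add_left, dot_sub_left, dot_comm (vec _) (vec (R i)), hRσ,
        dot_comm (vec _) (vec (R i)), hRσ, dot_comm (vec _) (vec (R i)), hRσ]
      norm_num
    have hcj : dot (D.c i) (vec (S.σ j (β i j))) = 0 := by
      rw [hrest, dot_add_left, dot_sub_left, S.orth (by simp [h1]), S.orth (by simp [h2.symm]),
        S.orth (by simp [h2.symm])]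
      norm_num
    rw [hri, hcj] at cbi
    have hne' : β i k ≠ β j k := fun e => by rw [e, g3] at cbi; omega
    refine ⟨hne', ?_⟩
    have hdc := D.dc i
    rw [hrest, dot_add_left, dot_sub_left, D.dot_vec_d, D.dot_vec_d, D.dot_vec_d] at hdc
    rw [(Bool.eq_not_iff.mpr hne' : β i k = !β j k)]
    omega
  have total : ∀ {i j k : Fin 3}, Tri i j k →
      D.deg (S.σ i (β j i)) = D.deg (S.σ i (β k i)) ∨
      (D.deg (S.σ i (β j i)) + D.deg (S.σ i (β k i)) = -1 ∧
        ((D.deg (S.σ k (β j k)) + D.deg (S.σ k (β i k)) = -1 ∧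
            D.deg (S.σ i (β j i)) = D.deg (S.σ k (β j k)) - D.deg (S.σ k (β i k))) ∨
          (D.deg (S.σ j (β k j)) + D.deg (S.σ j (β i j)) = -1 ∧
            D.deg (S.σ i (β k i)) = D.deg (S.σ j (β k j)) - D.deg (S.σ j (β i j))))) := by
    intro i j k h
    by_cases he : β j i = β k i
    · exact Or.inl (by rw [he])
    refine Or.inr ⟨by rw [Bool.eq_not_iff.mpr (Ne.symm he)]; exact S.deg_sides i _, ?_⟩
    have ci := S.dot_sides (D.c i) i (β j i)
    rw [D.dot_c_A, if_pos rfl, ← Bool.eq_not_iff.mpr (Ne.symm he)] at ci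
    have hb2 := bessel (D.c i) ![S.σ i (β j i), S.σ i (β k i)] (by
      intro m n hmn
      fin_cases m <;> fin_cases n <;> first
        | exact absurd rfl hmn
        | (apply S.hne; simp [he, Ne.symm he]))
    rw [D.hcc] at hb2
    simp only [Fin.sum_univ_two, Matrix.cons_val] at hb2
    have hor : dot (D.c i) (vec (S.σ i (β j i))) = 1 ∨ dot (D.c i) (vec (S.σ i (β k i))) = 1 := by
      rcases small (n := 3) (a := dot (D.c i) (vec (S.σ i (β j i)))) (by nlinarith) (by norm_num)
        with e | e | e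
      · rw [e] at ci hb2
        have : dot (D.c i) (vec (S.σ i (β k i))) = 2 := by omega
        rw [this] at hb2; omega
      · exact Or.inr (by omega)
      · exact Or.inl e
    rcases hor with hp | hp
    · obtain ⟨h', hd⟩ := step h he hp
      exact Or.inl ⟨by rw [Bool.eq_not_iff.mpr h']; exact S.deg_sides k _, hd⟩
    · obtain ⟨h', hd⟩ := step h.swap (Ne.symm he) hp
      exact Or.inr ⟨by rw [Bool.eq_not_iff.mpr h']; exact S.deg_sides j _, hd⟩
  have t1 := total h
  have t2 := total h.rot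
  have t3 := total h.rot.rot
  have hY : ∀ a s, D.deg (S.σ a s) ≠ 0 ∧ D.deg (S.σ a s) ≠ -1 := fun a s => by
    refine ⟨D.deg_ne_zero _, fun e => D.deg_ne_zero (S.σ a !s) ?_⟩
    have := S.deg_sides a s
    omega
  have y1 := hY i (β j i); have y2 := hY i (β k i)
  have y3 := hY j (β i j); have y4 := hY j (β k j)
  have y5 := hY k (β i k); have y6 := hY k (β j k)
  have heq : D.deg (S.σ i (β j i)) = D.deg (S.σ i (β k i)) := by omega
  by_contra hne
  have hs := S.deg_sides i (β j i)
  rw [← Bool.eq_not_iff.mpr (Ne.symm hne), ← heq] at hs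
  omega

end Sides

/-- The result: one signed irreducible for each `i` common to all families. -/
theorem main (D : Data X) : ∃ L M R Y : Fin 3 → X × ℤˣ,
    (∀ i, D.a i = vec (D.e₀, 1) + vec (L i) + vec (M i)) ∧
    (∀ i, D.b i = vec (L (i + 1)) + vec (L (i + 2)) + vec (R i)) ∧
    (∀ i, D.c i = vec (M i) + vec (R i) + vec (Y i)) := by
  obtain ⟨σ, hA, hdeg, hne⟩ := D.exists_sides
  let S : Sides D := ⟨σ, hA, hdeg, hne⟩
  have h := fun i => S.exists_b (tri_succ i)
  choose s t R hb hR using h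
  let β : Fin 3 → Fin 3 → Bool := fun i j => if j = i + 1 then s i else t i
  have hb' : ∀ {i j k : Fin 3}, Tri i j k →
      D.b i = vec (S.σ j (β i j)) + vec (S.σ k (β i k)) + vec (R i) := by
    intro i j k h
    have hne' : i + 2 ≠ i + 1 := fun e => absurd (add_left_cancel e) (by decide)
    rcases h.succ with ⟨rfl, rfl⟩ | ⟨rfl, rfl⟩
    · simp only [β, if_pos, if_neg hne']; exact hb i
    · simp only [β, if_pos, if_neg hne']
      rw [add_comm (vec _) (vec (S.σ (i + 1) _))]; exact hb i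
  have cons : ∀ {i j k : Fin 3}, Tri i j k → β j i = β k i := fun h =>
    S.consistency β R hb' hR h
  let L : Fin 3 → X × ℤˣ := fun i => S.σ i (β (i + 1) i)
  let M : Fin 3 → X × ℤˣ := fun i => S.σ i !(β (i + 1) i)
  have hL : ∀ {i j k : Fin 3}, Tri i j k → S.σ i (β j i) = L i := by
    intro i j k h
    rcases h.succ with ⟨rfl, rfl⟩ | ⟨rfl, rfl⟩
    · rfl
    · exact congrArg _ (cons h)
  have hbL : ∀ {i j k : Fin 3}, Tri i j k → D.b i = vec (L j) + vec (L k) + vec (R i) := by
    intro i j k h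
    rw [hb' h, hL (Tri.swap (Tri.rot h)), hL (Tri.rot (Tri.rot h))]
  have hRσ : ∀ i l u, dot (vec (R i)) (vec (S.σ l u)) = 0 := fun i l u => dot_vec_ne (hR i l u)
  have hLL : ∀ i j, i ≠ j → dot (vec (L i)) (vec (L j)) = 0 := fun i j hij => S.orth (by simp [hij])
  have hRR : ∀ {i j k : Fin 3}, Tri i j k → (R j).1 ≠ (R k).1 := by
    intro i j k h
    obtain ⟨h1, h2, h3⟩ := h
    have h0 := D.hbb j k
    rw [if_neg h2, hbL (i := j) (j := i) (k := k) ⟨h1.symm, h3, h2⟩,
      hbL (i := k) (j := i) (k := j) ⟨h3.symm, h1, h2.symm⟩] at h0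
    simp only [dot_add_left, dot_add_right] at h0
    rw [dot_vec_self, hLL i j h1, hLL k i h3.symm, hLL k j h2.symm,
      dot_comm (vec (L i)) (vec (R k)), dot_comm (vec (L k)) (vec (R k)),
      hRσ, hRσ, hRσ, hRσ] at h0
    rcases vec_cases (R j) (R k) with ⟨-, e⟩ | ⟨-, e⟩ | ⟨e, -⟩ <;> first | exact e | omega
  have hc : ∀ i, ∃ Y, D.c i = vec (M i) + vec (R i) + vec Y := by
    intro i
    obtain ⟨j, k, h⟩ : ∃ j k, Tri i j k := ⟨_, _, tri_succ i⟩
    obtain ⟨h1, h2, h3⟩ := h
    let U : Fin 9 → X × ℤˣ := ![L i, M i, L j, M j, L k, M k, R i, R j, R k]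
    have e1 := hRR (i := k) (j := i) (k := j) ⟨h3.symm, h1, h2.symm⟩
    have e2 := hRR (i := i) (j := j) (k := k) ⟨h1, h2, h3⟩
    have e3 := hRR (i := j) (j := i) (k := k) ⟨h1.symm, h3, h2⟩
    have hU : ∀ m n, m ≠ n → (U m).1 ≠ (U n).1 := by
      intro m n hmn
      fin_cases m <;> fin_cases n <;> simp only [U] <;> first
        | exact absurd rfl hmn
        | exact e1 | exact e1.symm | exact e2 | exact e2.symm | exact e3 | exact e3.symm
        | exact (hR _ _ _)
        | exact (hR _ _ _).symm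
        | (apply S.hne; simp [h1, h2, h3, h1.symm, h2.symm, h3.symm])
    have ci := S.dot_sides (D.c i) i (β (i + 1) i)
    have cj := S.dot_sides (D.c i) j (β (j + 1) j)
    have ck := S.dot_sides (D.c i) k (β (k + 1) k)
    change dot _ (vec (L i)) + dot _ (vec (M i)) = _ at ci
    change dot _ (vec (L j)) + dot _ (vec (M j)) = _ at cj
    change dot _ (vec (L k)) + dot _ (vec (M k)) = _ at ck
    rw [D.dot_c_A, if_pos rfl] at ci
    rw [D.dot_c_A, if_neg h1] at cj
    rw [D.dot_c_A, if_neg h3] at ck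
    have cbi := D.hcb i i
    have cbj := D.hcb i j
    have cbk := D.hcb i k
    rw [if_pos rfl, hbL (i := i) (j := j) (k := k) ⟨h1, h2, h3⟩] at cbi
    rw [if_neg h1, hbL (i := j) (j := i) (k := k) ⟨h1.symm, h3, h2⟩] at cbj
    rw [if_neg h3, hbL (i := k) (j := i) (k := j) ⟨h3.symm, h1, h2.symm⟩] at cbk
    simp only [dot_add_right] at cbi cbj cbk
    have hbes := bessel (D.c i) U hU
    rw [D.hcc] at hbes
    simp only [Fin.sum_univ_succ, Fin.sum_univ_zero, U, Matrix.cons_val_zero,
      Matrix.cons_val_succ, add_zero] at hbes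
    generalize g0 : dot (D.c i) (vec (L i)) = x at ci cbj cbk hbes
    generalize g1 : dot (D.c i) (vec (M i)) = x' at ci hbes
    generalize g2 : dot (D.c i) (vec (L j)) = y at cj cbi cbk hbes
    generalize g3 : dot (D.c i) (vec (M j)) = y' at cj hbes
    generalize g4 : dot (D.c i) (vec (L k)) = z at ck cbi cbj hbes
    generalize g5 : dot (D.c i) (vec (M k)) = z' at ck hbes
    generalize g6 : dot (D.c i) (vec (R i)) = ri at cbi hbes
    generalize g7 : dot (D.c i) (vec (R j)) = rj at cbj hbes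
    generalize g8 : dot (D.c i) (vec (R k)) = rk at cbk hbes
    have hx' : x' = 1 - x := by omega
    have hy' : y' = -y := by omega
    have hz' : z' = -z := by omega
    have hri : ri = 1 - y - z := by omega
    have hrj : rj = -x - z := by omega
    have hrk : rk = -x - y := by omega
    subst hx'; subst hy'; subst hz'; subst hri; subst hrj; subst hrk
    have sx := small (n := 3) (a := x) (by nlinarith) (by norm_num)
    have sy := small (n := 3) (a := y) (by nlinarith) (by norm_num)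
    have sz := small (n := 3) (a := z) (by nlinarith) (by norm_num)
    have hres : x = 0 ∧ y = 0 ∧ z = 0 := by
      rcases sx with rfl | rfl | rfl <;> rcases sy with rfl | rfl | rfl <;>
        rcases sz with rfl | rfl | rfl <;> omega
    obtain ⟨rfl, rfl, rfl⟩ := hres
    obtain ⟨Y, hY⟩ := exists_vec_of_norm_one (v := D.c i - vec (M i) - vec (R i)) (by
      rw [dot_sub_vec, dot_sub_vec, dot_sub_left, g1, g6, D.hcc,
        dot_comm (vec (M i)) (vec (R i)), hRσ]
      norm_num)
    exact ⟨Y, by rw [← hY]; abel⟩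
  choose Y hY using hc
  refine ⟨L, M, R, Y, fun i => ?_, fun i => hbL (tri_succ i), hY⟩
  have h0 : D.A i = vec (L i) + vec (M i) := by
    rw [S.hA]
    show _ = vec (S.σ i (β (i + 1) i)) + vec (S.σ i !(β (i + 1) i))
    cases β (i + 1) i <;> simp [add_comm]
  rw [add_assoc, ← h0, A]; abel

end Data

end Cfsg.Agent.H70.SignedUnits
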