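import Mathlib

/-!
The group `(S₃ × S₃ × S₃)⁺` (triples with an even number of reflections), as a concrete model,
with the class functions used in the recognition by centralisers of elements of order three.
-/

set_option autoImplicit false

namespace Cfsg.Agent.H70.ThreeCube

/-- Triples of symmetries of a triangle. -/
abbrev V : Type := DihedralGroup 3 × DihedralGroup 3 × DihedralGroup 3

/-- The coordinates. -/
def co : Fin 3 → V →* DihedralGroup 3 :=
  ![MonoidHom.fst _ _, (MonoidHom.fst _ _).comp (MonoidHom.snd _ _),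
    (MonoidHom.snd _ _).comp (MonoidHom.snd _ _)]

/-- The sign of a symmetry. -/
def eps : DihedralGroup 3 →* ℤˣ where
  toFun g := match g with
    | .r _ => 1
    | .sr _ => -1
  map_one' := rfl
  map_mul' := by decide

/-- The action on the three points. -/
def actFun : DihedralGroup 3 → Fin 3 → Fin 3
  | .r i, x => x + (show Fin 3 from i)
  | .sr i, x => -x - (show Fin 3 from i)

theorem actFun_mul : ∀ g h x, actFun (g * h) x = actFun g (actFun h x) := by decide

theorem actFun_one : ∀ x, actFun 1 x = x := by decide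

/-- The permutation representation on three points. -/
def act : DihedralGroup 3 →* Equiv.Perm (Fin 3) where
  toFun g := ⟨actFun g, actFun g⁻¹, fun x => by rw [← actFun_mul, inv_mul_cancel, actFun_one],
    fun x => by rw [← actFun_mul, mul_inv_cancel, actFun_one]⟩
  map_one' := Equiv.ext actFun_one
  map_mul' g h := Equiv.ext (actFun_mul g h)

/-- The degree two character. -/
def rho : DihedralGroup 3 → ℤ
  | .r i => if i = 0 then 2 else -1
  | .sr _ => 0

/-- Three times the indicator function of the rotations of order three. -/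
def delta (g : DihedralGroup 3) : ℤ := 1 + (eps g : ℤ) - rho g

/-- The first family of test functions. -/
def fa (i : Fin 3) (v : V) : ℤ := delta (co i v)

/-- The second family of test functions. -/
def fb (i : Fin 3) (v : V) : ℤ := delta (co i v) * (eps (co (i + 1) v) : ℤ)

/-- The third family of test functions. -/
def fc (i : Fin 3) (v : V) : ℤ :=
  rho (co 1 v) * rho (co 2 v) - rho (co i v) * (1 + (eps (co (i + 1) v) : ℤ))

/-- All the test functions. -/
def test : Fin 3 → Fin 3 → V → ℤ := ![fa, fb, fc]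

/-- The kernel of the product of the signs. -/
def Ev : Subgroup V :=
  (eps.comp (co 0) * eps.comp (co 1) * eps.comp (co 2)).ker

theorem mem_Ev {v : V} : v ∈ Ev ↔ eps (co 0 v) * eps (co 1 v) * eps (co 2 v) = 1 := Iff.rfl

instance : DecidablePred (· ∈ Ev) := fun _ => decidable_of_iff _ mem_Ev.symm

/-- The indices of the elements: three rotations and a type. -/
abbrev Idx : Type := (Fin 3 × Fin 3 × Fin 3) × Fin 4

/-- A symmetry from a flag and a number. -/
def sym (f : Bool) (a : Fin 3) : DihedralGroup 3 := if f then .sr a else .r a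

/-- Enumeration: type `k < 3` reflects the coordinates other than `k`, type `3` none. -/
def enum : Idx → V := fun ⟨⟨a, b, c⟩, t⟩ =>
  (sym (decide (t ≠ 0 ∧ t ≠ 3)) a, sym (decide (t ≠ 1 ∧ t ≠ 3)) b,
    sym (decide (t ≠ 2 ∧ t ≠ 3)) c)

theorem enum_mem : ∀ i, enum i ∈ Ev := by decide +kernel

theorem enum_surj : ∀ v, v ∈ Ev → ∃ i, enum i = v := by decide +kernel

theorem enum_inj : Function.Injective enum := by
  unfold Function.Injective
  decide +kernel

/-- The enumeration as a bijection. -/
noncomputable def enumEquiv : Idx ≃ Ev :=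
  Equiv.ofBijective (fun i => ⟨enum i, enum_mem i⟩)
    ⟨fun _ _ h => enum_inj (congrArg Subtype.val h),
      fun v => (enum_surj v v.2).imp fun _ h => Subtype.ext h⟩

/-- The involutions: a type, and a rotation parameter for the two reflected coordinates. -/
def invo : Fin 3 → Fin 3 → Fin 3 → Idx :=
  ![fun a b => ((0, a, b), 0), fun a b => ((a, 0, b), 1), fun a b => ((a, b, 0), 2)]

/-- The elements of order dividing three. -/
def rot (a : Fin 3 × Fin 3 × Fin 3) : Idx := (a, 3)

/-- The representative involutions. -/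
def u (k : Fin 3) : V := enum (invo k 0 0)

theorem sq_mem : ∀ i, ∃ a, enum i * enum i = enum (rot a) := by decide +kernel

theorem rot_comm : ∀ a b, enum (rot a) * enum (rot b) = enum (rot b) * enum (rot a) := by
  decide +kernel

theorem rot_cube : ∀ a, enum (rot a) ^ 3 = 1 := by decide +kernel

theorem rot_of_odd : ∀ i, enum i ^ 27 = 1 → i.2 = 3 := by decide +kernel

/-- The generators of the rotations. -/
def rotGen : Fin 3 → Idx := ![rot (1, 0, 0), rot (0, 1, 0), rot (0, 0, 1)]

theorem rotGen_inverted : ∀ c, u (c + 1) * enum (rotGen c) * u (c + 1) = (enum (rotGen c))⁻¹ := by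
  decide +kernel

theorem rot_eq_prod : ∀ a, ∃ x y z : Fin 3, enum (rot a) =
    enum (rotGen 0) ^ (x : ℕ) * enum (rotGen 1) ^ (y : ℕ) * enum (rotGen 2) ^ (z : ℕ) := by
  decide +kernel

theorem sq_eq_one_iff : ∀ i, enum i * enum i = 1 ↔
    enum i = 1 ∨ ∃ k a b, enum i = enum (invo k a b) := by
  decide +kernel

theorem invo_conj : ∀ k a b, ∃ c, enum (invo k a b) = enum (rot c) * u k * (enum (rot c))⁻¹ := by
  decide +kernel

theorem invo_inj : ∀ k a b k' a' b', enum (invo k a b) = enum (invo k' a' b') →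
    k = k' ∧ a = a' ∧ b = b' := by
  decide +kernel

theorem invo_ne_one : ∀ k a b, enum (invo k a b) ≠ 1 := by decide +kernel

theorem enum_split : ∀ i, i.2 = 3 ∨ ∃ k a, enum i = u k * enum (rot a) := by decide +kernel

theorem test_eq_zero : ∀ w i j, enum j * enum j = 1 → test w i (enum j) = 0 := by decide +kernel

theorem test_sum : ∀ w i, ∑ j : Idx, test w i (enum j) = ![108, 0, 0] w := by decide +kernel

/-- The Gram matrix of the test functions, times the group order. -/
def gram (w i w' i' : Fin 3) : ℤ :=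
  108 * if i = i' then ![![3, 0, 1], ![0, 3, 1], ![1, 1, 3]] w w'
    else ![![1, 1, 0], ![1, 1, 0], ![0, 0, 1]] w w'

theorem test_gram : ∀ w i w' i', ∑ j : Idx, test w i (enum j) * test w' i' (enum j) =
    gram w i w' i' := by decide +kernel

/-- The sums of the test functions over pairs of involutions of given types. -/
def pairSum (w i k l : Fin 3) : ℤ :=
  ![if k ≠ i ∧ l ≠ i then 162 else 0,
    if k ≠ i ∧ l ≠ i then (if k = l then 162 else -162) else 0,
    if k = i ∧ l = i then -324 else 0] w

theorem test_pairSum : ∀ w i k l, ∑ a : Fin 3, ∑ b : Fin 3, ∑ c : Fin 3, ∑ d : Fin 3,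
    test w i (enum (invo k a b) * enum (invo l c d)) = pairSum w i k l := by decide +kernel

/-- The embedding into the symmetric group on nine points. -/
def toPerm : V →* Equiv.Perm (Fin 9) where
  toFun v := finProdFinEquiv.permCongr (Equiv.prodCongrRight fun b : Fin 3 => act (co b v))
  map_one' := by
    refine Equiv.ext fun y => ?_
    obtain ⟨⟨b, x⟩, rfl⟩ := finProdFinEquiv.surjective y
    simp [Equiv.permCongr_apply, Equiv.prodCongrRight]
  map_mul' v w := by
    refine Equiv.ext fun y => ?_
    obtain ⟨⟨b, x⟩, rfl⟩ := finProdFinEquiv.surjective y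
    simp [Equiv.permCongr_apply, Equiv.prodCongrRight]

theorem toPerm_injective : Function.Injective toPerm :=
  (injective_iff_map_eq_one toPerm).mpr (by decide +kernel)

/-- The five generators. -/
def gen : Fin 5 → V :=
  ![enum (rot (1, 0, 0)), enum (rot (0, 1, 0)), enum (rot (0, 0, 1)),
    enum (invo 2 2 2), enum (invo 1 2 2)]

theorem toPerm_gen : ∀ n, toPerm (gen n) =
    ![Equiv.swap (0 : Fin 9) 1 * Equiv.swap 1 2, Equiv.swap (3 : Fin 9) 4 * Equiv.swap 4 5,
      Equiv.swap (6 : Fin 9) 7 * Equiv.swap 7 8, Equiv.swap (0 : Fin 9) 1 * Equiv.swap 3 4,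
      Equiv.swap (0 : Fin 9) 1 * Equiv.swap 6 7] n := by decide +kernel

theorem gen_mem : ∀ n, gen n ∈ Ev := by decide +kernel

theorem enum_gen : ∀ i, ∃ x y z : Fin 3, ∃ s t : Fin 2,
    enum i = gen 0 ^ (x : ℕ) * gen 1 ^ (y : ℕ) * gen 2 ^ (z : ℕ) * gen 3 ^ (s : ℕ) *
      gen 4 ^ (t : ℕ) := by
  decide +kernel

theorem map_Ev : Ev.map toPerm = Subgroup.closure
    ({Equiv.swap (0 : Fin 9) 1 * Equiv.swap 1 2, Equiv.swap (3 : Fin 9) 4 * Equiv.swap 4 5,
      Equiv.swap (6 : Fin 9) 7 * Equiv.swap 7 8, Equiv.swap (0 : Fin 9) 1 * Equiv.swap 3 4,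
      Equiv.swap (0 : Fin 9) 1 * Equiv.swap 6 7} : Set (Equiv.Perm (Fin 9))) := by
  refine le_antisymm ?_ ((Subgroup.closure_le _).mpr ?_)
  · rintro _ ⟨v, hv, rfl⟩
    obtain ⟨i, rfl⟩ := enum_surj v hv
    obtain ⟨x, y, z, s, t, hi⟩ := enum_gen i
    have hg : ∀ n, toPerm (gen n) ∈ Subgroup.closure
        ({Equiv.swap (0 : Fin 9) 1 * Equiv.swap 1 2, Equiv.swap (3 : Fin 9) 4 * Equiv.swap 4 5,
          Equiv.swap (6 : Fin 9) 7 * Equiv.swap 7 8, Equiv.swap (0 : Fin 9) 1 * Equiv.swap 3 4,
          Equiv.swap (0 : Fin 9) 1 * Equiv.swap 6 7} : Set (Equiv.Perm (Fin 9))) := by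
      intro n
      refine Subgroup.subset_closure ?_
      rw [toPerm_gen]
      fin_cases n <;> simp
    rw [hi]
    simp only [map_mul, map_pow]
    exact mul_mem (mul_mem (mul_mem (mul_mem (pow_mem (hg 0) _) (pow_mem (hg 1) _))
      (pow_mem (hg 2) _)) (pow_mem (hg 3) _)) (pow_mem (hg 4) _)
  · intro g hg
    have hn : ∀ n, toPerm (gen n) ∈ Ev.map toPerm := fun n => ⟨_, gen_mem n, rfl⟩
    simp only [toPerm_gen] at hn
    simp only [Set.mem_insert_iff, Set.mem_singleton_iff] at hg
    rcases hg with rfl | rfl | rfl | rfl | rfl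
    exacts [hn 0, hn 1, hn 2, hn 3, hn 4]

/-- The model is the subgroup of the symmetric group on nine points. -/
noncomputable def evEquiv : Ev ≃* Subgroup.closure
    ({Equiv.swap (0 : Fin 9) 1 * Equiv.swap 1 2, Equiv.swap (3 : Fin 9) 4 * Equiv.swap 4 5,
      Equiv.swap (6 : Fin 9) 7 * Equiv.swap 7 8, Equiv.swap (0 : Fin 9) 1 * Equiv.swap 3 4,
      Equiv.swap (0 : Fin 9) 1 * Equiv.swap 6 7} : Set (Equiv.Perm (Fin 9))) :=
  (Ev.equivMapOfInjective toPerm toPerm_injective).trans (MulEquiv.subgroupCongr map_Ev)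

end Cfsg.Agent.H70.ThreeCube
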