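import Mathlib
import Cfsg.Prelude.Def_Characters
import Cfsg.Prelude.Def_Blocks
import Cfsg.Agent.CharBasic.Complete
import Cfsg.Agent.CharInduce.Induce
import Cfsg.Agent.H84.ClassProd
import Cfsg.Agent.Coprime.Generation
import Cfsg.Agent.H70.ThreeCubeModel
import Cfsg.Agent.H70.SignedUnits

/-!
A group with a subgroup `(S₃ × S₃ × S₃)⁺` containing the centralisers of the elements of order
three of that subgroup, normalising its Sylow `3`-subgroup, is that subgroup.
-/

set_option autoImplicit false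
set_option linter.unusedSectionVars false
set_option linter.style.haveILetI false

namespace Cfsg.Agent.H70.ThreeCube

open scoped ComplexConjugate
open Cfsg.Agent.CharBasic Cfsg.Agent.CharInduce Finset
open SignedUnits (vec dot Tri)

/-! ### The test functions are virtual characters -/

theorem card_fixed : ∀ g : DihedralGroup 3,
    (Fintype.card {x : Fin 3 // actFun g x = x} : ℤ) = rho g + 1 := by decide +kernel

theorem isGen_rho : IsGeneralizedCharacter (DihedralGroup 3) (fun g => (rho g : ℂ)) := by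
  classical
  letI : MulAction (DihedralGroup 3) (Fin 3) :=
    { smul := actFun, one_smul := actFun_one, mul_smul := actFun_mul }
  haveI : MulAction.IsPretransitive (DihedralGroup 3) (Fin 3) :=
    ⟨by intro x y; revert x y; show ∀ x y : Fin 3, ∃ g, actFun g x = y; decide⟩
  have hfix := fixedBy_eq_indFun (G := DihedralGroup 3) (X := Fin 3) 0
  have hone : IsCharacter (DihedralGroup 3) (fun _ => (1 : ℂ)) := CharInduce.IsChar.one
  have hind : IsCharacter (DihedralGroup 3)
      (fun g : DihedralGroup 3 => (Nat.card (MulAction.fixedBy (Fin 3) g) : ℂ)) :=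
    hfix ▸ CharInduce.IsChar.ind _ CharInduce.IsChar.one
  refine ⟨_, _, hind, hone, funext fun g => ?_⟩
  have h := card_fixed g
  rw [← Nat.card_eq_fintype_card] at h
  show (rho g : ℂ) = (Nat.card {x : Fin 3 // actFun g x = x} : ℂ) - 1
  rw [show rho g = (Nat.card {x : Fin 3 // actFun g x = x} : ℤ) - 1 by omega]
  push_cast; rfl

theorem isGen_test {H : Type*} [Group H] (π : H →* V) (w i : Fin 3) :
    IsGeneralizedCharacter H (fun h => (test w i (π h) : ℂ)) := by
  have hone : IsGeneralizedCharacter H (fun _ => (1 : ℂ)) :=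
    CharInduce.IsGen.of_char CharInduce.IsChar.one
  have he : ∀ j, IsGeneralizedCharacter H (fun h => ((eps (co j (π h)) : ℤ) : ℂ)) := fun j => by
    have h0 := isCharacter_hom
      (((Units.map ((Int.castRingHom ℂ) : ℤ →* ℂ)).comp eps).comp ((co j).comp π))
    exact CharInduce.IsGen.of_char h0
  have hr : ∀ j, IsGeneralizedCharacter H (fun h => (rho (co j (π h)) : ℂ)) := fun j =>
    CharInduce.IsGen.comp isGen_rho ((co j).comp π)
  have hd : ∀ j, IsGeneralizedCharacter H (fun h => (delta (co j (π h)) : ℂ)) := fun j => by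
    have h0 := CharInduce.IsGen.sub (CharInduce.IsGen.add hone (he j)) (hr j)
    refine (congrArg _ (funext fun h => ?_)).mp h0
    simp [delta]
  fin_cases w
  · exact hd i
  · refine (congrArg _ (funext fun h => ?_)).mp (CharInduce.IsGen.mul (hd i) (he (i + 1)))
    simp [test, fb]
  · refine (congrArg _ (funext fun h => ?_)).mp (CharInduce.IsGen.sub
      (CharInduce.IsGen.mul (hr 1) (hr 2))
      (CharInduce.IsGen.mul (hr i) (CharInduce.IsGen.add hone (he (i + 1)))))
    simp [test, fc]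

/-! ### Algebra -/

section Algebra

variable {F : Type*} [Field F] [CharZero F]

theorem solve_single {vi vj wi wj K : F} (hwi : wi ≠ 0) (hwj : wj ≠ 0) (hK : K ≠ 0)
    (hAi : (vi - wi) ^ 2 = 0) (hAj : (vj - wj) ^ 2 = K * (wj * (1 + wj)))
    (hB : (vi * wj - vj * wi) ^ 2 = K * (wi * wj * (wi + wj))) : wi = 1 := by
  have e : vi = wi := sub_eq_zero.mp (pow_eq_zero_iff two_ne_zero |>.mp hAi)
  subst e
  have h : vi * wj * K * (vi * (1 + wj) - (vi + wj)) = 0 := by
    linear_combination hB - vi ^ 2 * hAj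
  have h' : wj * (vi - 1) = 0 := by
    rcases mul_eq_zero.mp h with h | h
    · exact absurd h (by simp [hwi, hwj, hK])
    · linear_combination h
  exact sub_eq_zero.mp ((mul_eq_zero.mp h').resolve_left hwj)

theorem solve_pair {vi vj vk wi wj wk K : F} (hwi : wi ≠ 0) (hwi' : 1 + wi ≠ 0) (hwj : wj ≠ 0)
    (hwk : wk ≠ 0) (hwk' : 1 + wk ≠ 0) (hK : K ≠ 0)
    (hAi : (vi - wi) ^ 2 = K * (wi * (1 + wi))) (hAj : (vj - wj) ^ 2 = K * (wj * (1 + wj)))
    (hAk : (vk - wk) ^ 2 = 4 * K * (wk * (1 + wk))) (hBk : vi * wj = vj * wi)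
    (hBj : (vi * wk - vk * wi) ^ 2 = K * (wi * wk * (wi + wk)))
    (hC : (1 + vk) * (wi + wj) = (1 + wk) * (vi + vj)) : wi = 1 := by
  have h1 : K * wi * wj * (wi - wj) = 0 := by
    linear_combination (-(wi ^ 2)) * hAj + wj ^ 2 * hAi - (vi * wj + vj * wi - 2 * wi * wj) * hBk
  have e : wi = wj := by
    rcases mul_eq_zero.mp h1 with h | h
    · exact absurd h (by simp [hwi, hwj, hK])
    · exact sub_eq_zero.mp h
  subst e
  have ev : vi = vj := mul_right_cancel₀ hwi hBk
  subst ev
  have hC' : (1 + vk) * wi = (1 + wk) * vi :=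
    mul_left_cancel₀ (two_ne_zero' F) (by linear_combination hC)
  have hd : vi * wk - vk * wi = wi - vi := by linear_combination -hC'
  have h2 : wi * K * ((1 + wi) - wk * (wi + wk)) = 0 := by
    rw [hd] at hBj
    linear_combination hBj - hAi
  have h2' : (1 + wi) - wk * (wi + wk) = 0 :=
    (mul_eq_zero.mp h2).resolve_left (by simp [hwi, hK])
  have hd' : (vk - wk) * wi = (1 + wk) * (vi - wi) := by linear_combination hC'
  have h3 : wi * (1 + wk) * K * (4 * wk * wi - (1 + wk) * (1 + wi)) = 0 := by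
    linear_combination (-(wi ^ 2)) * hAk + (1 + wk) ^ 2 * hAi +
      ((vk - wk) * wi + (1 + wk) * (vi - wi)) * hd'
  have h3' : 4 * wk * wi - (1 + wk) * (1 + wi) = 0 :=
    (mul_eq_zero.mp h3).resolve_left (by simp [hwi, hwk', hK])
  have h4 : (wk - 1) * (wk + 1 + wi) = 0 := by linear_combination -h2'
  rcases mul_eq_zero.mp h4 with h | h
  · have hk : wk = 1 := sub_eq_zero.mp h
    subst hk
    exact mul_left_cancel₀ (two_ne_zero' F) (by linear_combination h3')
  · have hk : wk = -1 - wi := by linear_combination h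
    subst hk
    have h5 : (3 : F) * wi * (1 + wi) = 0 := by linear_combination -h3'
    exact absurd h5 (by simp [hwi, hwi'])

theorem solve_triple {vi vj vk wi wj wk K : F} (hwi : wi ≠ 0) (hwi' : 1 + wi ≠ 0) (hwj : wj ≠ 0)
    (hwk : wk ≠ 0) (hK : K ≠ 0)
    (hAi : (vi - wi) ^ 2 = 4 * K * (wi * (1 + wi))) (hAj : (vj - wj) ^ 2 = 4 * K * (wj * (1 + wj)))
    (hAk : (vk - wk) ^ 2 = 4 * K * (wk * (1 + wk)))
    (hBk : vi * wj = vj * wi) (hBj : vi * wk = vk * wi)
    (hC : ((1 + vi) * (wj + wk) - (1 + wi) * (vj + vk)) ^ 2 =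
      2 * K * ((1 + wi) * (wj + wk) * (1 + wi + wj + wk))) : wi = 1 := by
  have h1 : 4 * K * wi * wj * (wi - wj) = 0 := by
    linear_combination (-(wi ^ 2)) * hAj + wj ^ 2 * hAi - (vi * wj + vj * wi - 2 * wi * wj) * hBk
  have h2 : 4 * K * wi * wk * (wi - wk) = 0 := by
    linear_combination (-(wi ^ 2)) * hAk + wk ^ 2 * hAi - (vi * wk + vk * wi - 2 * wi * wk) * hBj
  have e : wi = wj := sub_eq_zero.mp ((mul_eq_zero.mp h1).resolve_left (by simp [hwi, hwj, hK]))
  subst e
  have e : wi = wk := sub_eq_zero.mp ((mul_eq_zero.mp h2).resolve_left (by simp [hwi, hwk, hK]))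
  subst e
  have ev : vi = vj := mul_right_cancel₀ hwi hBk
  subst ev
  have ev : vi = vk := mul_right_cancel₀ hwi hBj
  subst ev
  have h : wi * (1 + wi) * K * (16 - 4 * (1 + 3 * wi)) = 0 := by
    linear_combination hC - 4 * hAi
  have h' : 16 - 4 * (1 + 3 * wi) = (0 : F) :=
    (mul_eq_zero.mp h).resolve_left (by simp [hwi, hwi', hK])
  exact mul_left_cancel₀ (by norm_num : (12 : F) ≠ 0) (by linear_combination -h')

/-- The three equations of a class, cleared of denominators. -/
theorem sq_a {v w K : F} (hw : w ≠ 0) (hw' : 1 + w ≠ 0)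
    (h : 1 + v ^ 2 / w + (-1 - v) ^ 2 / (-1 - w) = K) : (v - w) ^ 2 = K * (w * (1 + w)) := by
  have e : (-1 - w) ≠ 0 := fun e => hw' (by linear_combination -e)
  rw [← h]; field_simp; ring

theorem sq_b {v v' w w' K : F} (hw : w ≠ 0) (hw' : w' ≠ 0) (hs : w + w' ≠ 0)
    (h : v ^ 2 / w + v' ^ 2 / w' + (-(v + v')) ^ 2 / (-(w + w')) = K) :
    (v * w' - v' * w) ^ 2 = K * (w * w' * (w + w')) := by
  have e : -(w + w') ≠ 0 := neg_ne_zero.mpr hs
  rw [← h]; field_simp; ring

theorem sq_c {v w s t K : F} (hw : 1 + w ≠ 0) (ht : t ≠ 0) (hs : 1 + w + t ≠ 0)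
    (h : (-1 - v) ^ 2 / (-1 - w) + (-s) ^ 2 / (-t) + (1 + v + s) ^ 2 / (1 + w + t) = -K) :
    ((1 + v) * t - (1 + w) * s) ^ 2 = K * ((1 + w) * t * (1 + w + t)) := by
  have e : (-1 - w) ≠ 0 := fun e => hw (by linear_combination -e)
  have e' : -t ≠ 0 := neg_ne_zero.mpr ht
  rw [← neg_neg K, ← h]; field_simp; ring

end Algebra

/-! ### The setting -/

variable {G : Type*} [Group G] [Fintype G]

/-- A subgroup isomorphic to the model, with the hypotheses on its elements of order three. -/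
structure Setting (G : Type*) [Group G] where
  H : Subgroup G
  T : Subgroup G
  ψ : Ev ≃* H
  hTH : T ≤ H
  hT : Nat.card T = 27
  hN : Subgroup.normalizer (T : Set G) = H
  hC : ∀ t ∈ T, t ≠ 1 → Subgroup.centralizer ({t} : Set G) ≤ H

namespace Setting

variable (S : Setting G)

/-- The enumeration of the subgroup. -/
noncomputable def η : Idx ≃ S.H := enumEquiv.trans S.ψ.toEquiv

/-- The coordinates on the subgroup. -/
noncomputable def π : S.H →* V := Ev.subtype.comp S.ψ.symm.toMonoidHom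

theorem π_η (i : Idx) : S.π (S.η i) = enum i := by
  simp [π, η]
  rfl

theorem π_inj : Function.Injective S.π :=
  Ev.subtype_injective.comp S.ψ.symm.injective

theorem η_eq {i : Idx} {h : S.H} (e : S.π h = enum i) : S.η i = h :=
  S.π_inj ((S.π_η i).trans e.symm)

theorem card_H : Nat.card S.H = 108 := by
  rw [← Nat.card_congr S.η, Nat.card_eq_fintype_card]; rfl

theorem sum_H {M : Type*} [AddCommMonoid M] [Fintype S.H] (f : S.H → M) :
    ∑ h : S.H, f h = ∑ j : Idx, f (S.η j) :=
  (S.η.sum_comp f).symm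

/-- Membership in `T`, in coordinates. -/
theorem mem_T (h : S.H) : (h : G) ∈ S.T ↔ ∃ a, S.π h = enum (rot a) := by
  classical
  have h1 : ∀ h : S.H, (h : G) ∈ S.T → ∃ a, S.π h = enum (rot a) := by
    intro h hh
    obtain ⟨i, rfl⟩ := S.η.surjective h
    have hp : (S.η i : G) ^ 27 = 1 := by
      have := pow_card_eq_one' (G := S.T) (x := ⟨_, hh⟩)
      rw [S.hT] at this
      exact congrArg Subtype.val this
    have he : enum i ^ 27 = 1 := by
      rw [← S.π_η i, ← map_pow, (show S.η i ^ 27 = 1 from Subtype.ext hp), map_one]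
    exact ⟨i.1, by rw [S.π_η, rot, ← rot_of_odd i he]⟩
  refine ⟨h1 h, ?_⟩
  rintro ⟨a, ha⟩
  let f : S.T → Fin 3 × Fin 3 × Fin 3 := fun t => (S.η.symm ⟨t, S.hTH t.2⟩).1
  have hf : Function.Injective f := by
    intro t t' e
    obtain ⟨b, hb⟩ := h1 ⟨t, S.hTH t.2⟩ t.2
    obtain ⟨b', hb'⟩ := h1 ⟨t', S.hTH t'.2⟩ t'.2
    simp only [f, ← S.η_eq hb, ← S.η_eq hb', Equiv.symm_apply_apply, rot] at e
    subst e
    exact Subtype.ext (congrArg Subtype.val ((S.η_eq hb).symm.trans (S.η_eq hb')) : _)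
  have hbij : Function.Bijective f :=
    (Nat.bijective_iff_injective_and_card f).mpr ⟨hf, by rw [S.hT, Nat.card_eq_fintype_card]; rfl⟩
  obtain ⟨t, ht⟩ := hbij.2 a
  obtain ⟨b, hb⟩ := h1 ⟨t, S.hTH t.2⟩ t.2
  simp only [f, ← S.η_eq hb, Equiv.symm_apply_apply, rot] at ht
  subst ht
  rw [← S.η_eq ha, S.η_eq hb]
  exact t.2

theorem comm_T {s t : G} (hs : s ∈ S.T) (ht : t ∈ S.T) : s * t = t * s := by
  obtain ⟨a, ha⟩ := (S.mem_T ⟨s, S.hTH hs⟩).mp hs
  obtain ⟨b, hb⟩ := (S.mem_T ⟨t, S.hTH ht⟩).mp ht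
  have h : (⟨s, S.hTH hs⟩ : S.H) * ⟨t, S.hTH ht⟩ = ⟨t, S.hTH ht⟩ * ⟨s, S.hTH hs⟩ :=
    S.π_inj (by rw [map_mul, map_mul, ha, hb]; exact rot_comm a b)
  exact congrArg Subtype.val h

theorem cube_T {t : G} (ht : t ∈ S.T) : t ^ 3 = 1 := by
  obtain ⟨a, ha⟩ := (S.mem_T ⟨t, S.hTH ht⟩).mp ht
  exact congrArg Subtype.val (S.π_inj (a₁ := ⟨t, S.hTH ht⟩ ^ 3) (a₂ := 1)
    (by rw [map_pow, ha, map_one]; exact rot_cube a))

theorem sq_mem_T {x : G} (hx : x ∈ S.H) : x * x ∈ S.T := by
  obtain ⟨i, hi⟩ := S.η.surjective ⟨x, hx⟩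
  obtain ⟨a, ha⟩ := sq_mem i
  exact (S.mem_T ⟨x * x, mul_mem hx hx⟩).mpr
    ⟨a, by rw [show (⟨x * x, mul_mem hx hx⟩ : S.H) = ⟨x, hx⟩ * ⟨x, hx⟩ from rfl, ← hi,
      map_mul, S.π_η]; exact ha⟩

theorem mem_T_of_cube {x : G} (hx : x ∈ S.H) (h3 : x ^ 3 = 1) : x ∈ S.T := by
  have : x = (x * x) * (x * x) := by
    calc x = x * x ^ 3 := by rw [h3, mul_one]
      _ = (x * x) * (x * x) := by simp [pow_succ, mul_assoc]
  rw [this]; exact mul_mem (S.sq_mem_T hx) (S.sq_mem_T hx)

theorem ti {t g : G} (ht : t ∈ S.T) (ht1 : t ≠ 1) (hg : g * t * g⁻¹ ∈ S.T) : g ∈ S.H := by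
  rw [← S.hN]
  have hle : S.T.map (MulAut.conj g).toMonoidHom ≤ S.T := by
    rintro _ ⟨s, hs, rfl⟩
    refine S.mem_T_of_cube (S.hC _ hg (by simpa [mul_inv_eq_one] using ht1) ?_) ?_
    · rw [Subgroup.mem_centralizer_singleton_iff]
      simp only [MulEquiv.coe_toMonoidHom, MulAut.conj_apply]
      rw [conj_mul, conj_mul, S.comm_T hs ht]
    · show (g * s * g⁻¹) ^ 3 = 1
      rw [conj_pow, S.cube_T hs]; group
  have he : S.T.map (MulAut.conj g).toMonoidHom = S.T :=
    Subgroup.eq_of_le_of_card_ge hle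
      (Nat.card_congr (S.T.equivMapOfInjective _ (MulAut.conj g).injective).toEquiv).le
  rw [Subgroup.mem_normalizer_iff]
  intro s
  constructor
  · exact fun hs => hle ⟨s, hs, rfl⟩
  · intro hs
    rw [← he] at hs
    obtain ⟨s', hs', e⟩ := hs
    have : s' = s := by simpa using e
    exact this ▸ hs'

theorem ti_support {x g : G} (hx : x ∈ S.H) (hx2 : x * x ≠ 1) (hg : g * x * g⁻¹ ∈ S.H) :
    g ∈ S.H := by
  refine S.ti (S.sq_mem_T hx) hx2 ?_
  have := S.sq_mem_T hg
  rwa [conj_mul] at this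

/-! ### The test functions and their induced functions -/

/-- A test function on the subgroup. -/
noncomputable def F (w i : Fin 3) : S.H → ℂ := fun h => (test w i (S.π h) : ℂ)

theorem F_eq_zero (w i : Fin 3) {h : S.H} (h2 : h * h = 1) : S.F w i h = 0 := by
  obtain ⟨j, rfl⟩ := S.η.surjective h
  simp only [F, S.π_η]
  rw [test_eq_zero w i j (by rw [← S.π_η j, ← map_mul, h2, map_one]), Int.cast_zero]

theorem isGen_F (w i : Fin 3) : IsGeneralizedCharacter S.H (S.F w i) := isGen_test S.π w i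

/-- The induced test functions. -/
noncomputable def ind (w i : Fin 3) : G → ℂ := indFun S.H (S.F w i)

theorem isGen_ind (w i : Fin 3) : IsGeneralizedCharacter G (S.ind w i) :=
  CharInduce.IsGen.ind _ (S.isGen_F w i)

theorem ind_eq (w i : Fin 3) {x : S.H} (hx : x * x ≠ 1) : S.ind w i x = S.F w i x := by
  classical
  have h : ∀ g : G, extendByZero S.H (S.F w i) (g⁻¹ * x * g) =
      if g ∈ S.H then S.F w i x else 0 := by
    intro g
    split_ifs with hg
    · have := extendByZero_conj (CharInduce.IsGen.isClassFunction (S.isGen_F w i))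
        (inv_mem hg) (x : G)
      rwa [inv_inv, extendByZero_coe] at this
    · refine extendByZero_of_not_mem _ fun hy => hg ?_
      have := S.ti_support x.2 (fun e => hx (Subtype.ext e)) (g := g⁻¹) (by rwa [inv_inv])
      simpa using inv_mem this
  simp only [ind, indFun_apply, h]
  rw [← sum_filter, sum_const, nsmul_eq_mul,
    show (univ.filter fun g : G => g ∈ S.H).card = Nat.card S.H by
      rw [Nat.card_eq_fintype_card, Fintype.card_subtype],
    ← mul_assoc, inv_mul_cancel₀ (card_ne_zero_complex _), one_mul]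

theorem ind_eq_zero (w i : Fin 3) {x : G} (hx : x * x = 1) : S.ind w i x = 0 := by
  classical
  rw [ind, indFun_apply, sum_eq_zero fun g _ => ?_, mul_zero]
  by_cases hy : g⁻¹ * x * g ∈ S.H
  · rw [extendByZero_of_mem _ hy]
    refine S.F_eq_zero w i (Subtype.ext ?_)
    show g⁻¹ * x * g * (g⁻¹ * x * g) = 1
    rw [show g⁻¹ * x * g * (g⁻¹ * x * g) = g⁻¹ * (x * x) * g by group, hx]; group
  · exact extendByZero_of_not_mem _ hy

theorem inner_F [Fintype S.H] (w i w' i' : Fin 3) :
    classInner (S.F w i) (S.F w' i') = (gram w i w' i' : ℂ) / 108 := by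
  rw [classInner, S.card_H, S.sum_H]
  simp only [F, S.π_η, map_intCast, ← Int.cast_mul, ← Int.cast_sum]
  rw [test_gram]; push_cast; ring

theorem inner_ind (w i w' i' : Fin 3) :
    classInner (S.ind w i) (S.ind w' i') = (gram w i w' i' : ℂ) / 108 := by
  haveI := Fintype.ofFinite S.H
  rw [← S.inner_F, ind, classInner_indFun_left _ _ _
    (CharInduce.IsGen.isClassFunction (S.isGen_ind w' i'))]
  simp only [classInner]
  congr 1
  refine sum_congr rfl fun x _ => ?_
  by_cases hx : x * x = 1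
  · rw [S.F_eq_zero w i hx, zero_mul, zero_mul]
  · rw [S.ind_eq w' i' hx]

/-- The coefficients of the induced test functions. -/
noncomputable def coef (w i : Fin 3) (χ : IrrCharacter G) : ℤ :=
  (CharInduce.IsGen.exists_int_coeff (S.isGen_ind w i) (CharBasic.IsIrr.isCharacter χ.2)).choose

theorem coef_spec (w i : Fin 3) (χ : IrrCharacter G) :
    classInner (S.ind w i) (χ : G → ℂ) = (S.coef w i χ : ℂ) :=
  (CharInduce.IsGen.exists_int_coeff (S.isGen_ind w i) (CharBasic.IsIrr.isCharacter χ.2)).choose_spec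

theorem sum_coef_apply (w i : Fin 3) (x : G) :
    ∑ χ : IrrCharacter G, (S.coef w i χ : ℂ) * (χ : G → ℂ) x = S.ind w i x := by
  conv_rhs => rw [classFunction_expansion (CharInduce.IsGen.isClassFunction (S.isGen_ind w i))]
  simp [S.coef_spec, Finset.sum_apply]

theorem dot_coef [DecidableEq (IrrCharacter G)] {w i w' i' : Fin 3} {m : ℤ}
    (h : gram w i w' i' = 108 * m) : dot (S.coef w i) (S.coef w' i') = m := by
  have h1 := S.inner_ind w i w' i'
  rw [classInner_eq_sum (CharInduce.IsGen.isClassFunction (S.isGen_ind w i)), h] at h1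
  simp only [S.coef_spec, map_intCast] at h1
  have h2 : ((dot (S.coef w i) (S.coef w' i') : ℤ) : ℂ) = (m : ℂ) := by
    rw [dot]; push_cast; rw [h1]; push_cast; ring
  exact_mod_cast h2

/-- The trivial character. -/
def triv : IrrCharacter G := ⟨fun _ => 1, isIrrCharacter_one⟩

theorem coef_triv (w i : Fin 3) : S.coef w i triv = ![1, 0, 0] w := by
  haveI := Fintype.ofFinite S.H
  have h := S.coef_spec w i triv
  rw [ind, classInner_indFun_left _ _ _ (fun _ _ => rfl), classInner, S.card_H, S.sum_H] at h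
  simp only [triv, map_one, mul_one, F, S.π_η, ← Int.cast_sum] at h
  rw [test_sum] at h
  have h2 : ((S.coef w i triv : ℤ) : ℂ) = ((![1, 0, 0] w : ℤ) : ℂ) := by
    rw [triv, ← h]; fin_cases w <;> norm_num
  exact_mod_cast h2

/-- The degree of an irreducible character, as an integer. -/
noncomputable def deg (χ : IrrCharacter G) : ℤ :=
  ((CharBasic.IsIrr.exists_degree χ.2).choose : ℤ)

theorem deg_spec (χ : IrrCharacter G) : (χ : G → ℂ) 1 = (deg χ : ℂ) := by
  rw [(CharBasic.IsIrr.exists_degree χ.2).choose_spec.2, deg]; push_cast; rfl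

theorem deg_pos (χ : IrrCharacter G) : 0 < deg χ := by
  have := (CharBasic.IsIrr.exists_degree χ.2).choose_spec.1
  rw [deg]; exact_mod_cast this

theorem dot_deg [DecidableEq (IrrCharacter G)] (w i : Fin 3) : dot (S.coef w i) deg = 0 := by
  have h := S.sum_coef_apply w i 1
  rw [S.ind_eq_zero w i (mul_one 1)] at h
  simp only [deg_spec, ← Int.cast_mul, ← Int.cast_sum] at h
  exact_mod_cast h

/-- The vectors attached to the setting. -/
noncomputable def data [DecidableEq (IrrCharacter G)] : SignedUnits.Data (IrrCharacter G) where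
  e₀ := triv
  d := deg
  a := S.coef 0
  b := S.coef 1
  c := S.coef 2
  hd := deg_pos
  hd₀ := by
    have : ((deg (triv : IrrCharacter G) : ℤ) : ℂ) = ((1 : ℤ) : ℂ) := by
      rw [← deg_spec]; simp [triv]
    exact_mod_cast this
  a₀ i := by simp [S.coef_triv]
  b₀ i := by simp [S.coef_triv]
  c₀ i := by simp [S.coef_triv]
  da := S.dot_deg 0
  db := S.dot_deg 1
  dc := S.dot_deg 2
  haa i j := S.dot_coef (by revert i j; decide)
  hab i j := S.dot_coef (by revert i j; decide)
  hbb i j := S.dot_coef (by revert i j; decide)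
  hca i j := S.dot_coef (by revert i j; decide)
  hcb i j := S.dot_coef (by revert i j; decide)
  hcc i := S.dot_coef (by revert i; decide)

/-! ### Evaluation -/

/-- The representative involutions. -/
noncomputable def inv (k : Fin 3) : G := (S.η (invo k 0 0) : G)

theorem inv_mul_self (k : Fin 3) : S.inv k * S.inv k = 1 := by
  have h : enum (invo k 0 0) * enum (invo k 0 0) = 1 :=
    (sq_eq_one_iff _).mpr (Or.inr ⟨k, 0, 0, rfl⟩)
  exact congrArg Subtype.val (S.π_inj (a₁ := S.η (invo k 0 0) * S.η (invo k 0 0)) (a₂ := 1)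
    (by rw [map_mul, map_one, S.π_η]; exact h))

theorem inv_ne_one (k : Fin 3) : S.inv k ≠ 1 := fun e =>
  invo_ne_one k 0 0 (by rw [← S.π_η, show S.η (invo k 0 0) = 1 from Subtype.ext e, map_one])

/-- The value of a signed unit at an element. -/
def val (x : G) (u : IrrCharacter G × ℤˣ) : ℂ := ((u.2 : ℤ) : ℂ) * (u.1 : G → ℂ) x

/-- Evaluation of an integer vector. -/
noncomputable def eval (φ : IrrCharacter G → ℂ) (v : IrrCharacter G → ℤ) : ℂ :=
  ∑ χ, (v χ : ℂ) * φ χ

theorem eval_add (φ : IrrCharacter G → ℂ) (v v' : IrrCharacter G → ℤ) :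
    eval φ (v + v') = eval φ v + eval φ v' := by
  simp [eval, add_mul, sum_add_distrib]

theorem eval_vec [DecidableEq (IrrCharacter G)] (φ : IrrCharacter G → ℂ)
    (u : IrrCharacter G × ℤˣ) : eval φ (vec u) = ((u.2 : ℤ) : ℂ) * φ u.1 := by
  rw [eval, sum_eq_single u.1]
  · simp [vec]
  · intro χ _ hχ; simp [vec, Pi.single_eq_of_ne hχ]
  · simp

theorem val_one_ne_zero (u : IrrCharacter G × ℤˣ) : val 1 u ≠ 0 :=
  mul_ne_zero (Int.cast_ne_zero.mpr u.2.ne_zero) (CharBasic.IsIrr.one_ne_zero u.1.2)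

theorem unit_quot (x : G) (u : IrrCharacter G × ℤˣ) :
    ((u.2 : ℤ) : ℂ) * ((u.1 : G → ℂ) x ^ 2 / (u.1 : G → ℂ) 1) = val x u ^ 2 / val 1 u := by
  rcases Int.units_eq_one_or u.2 with h | h <;> simp [val, h] <;> ring

/-- The class of a representative, on the subgroup. -/
theorem sum_class [Fintype S.H] (x : G) (hx : x * x = 1) (hx1 : x ≠ 1) (f : S.H → ℂ) :
    ∑ p : S.H, f p * (open scoped Classical in if IsConj x (p : G) then 1 else 0) =
      ∑ k : Fin 3, (open scoped Classical in if IsConj x (S.inv k) then 1 else 0) *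
        ∑ a : Fin 3, ∑ b : Fin 3, f (S.η (invo k a b)) := by
  classical
  have hconj : ∀ k a b, IsConj (S.inv k) (S.η (invo k a b) : G) := by
    intro k a b
    obtain ⟨c, hc⟩ := invo_conj k a b
    refine isConj_iff.mpr ⟨(S.η (rot c) : G), ?_⟩
    exact congrArg Subtype.val (S.π_inj (a₁ := S.η (rot c) * S.η (invo k 0 0) * (S.η (rot c))⁻¹)
      (a₂ := S.η (invo k a b)) (by simp only [map_mul, map_inv, S.π_η]; exact hc.symm))
  have hiff : ∀ k a b, IsConj x (S.η (invo k a b) : G) ↔ IsConj x (S.inv k) := fun k a b =>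
    ⟨fun h => h.trans (hconj k a b).symm, fun h => h.trans (hconj k a b)⟩
  let g : Fin 3 × Fin 3 × Fin 3 → S.H := fun p => S.η (invo p.1 p.2.1 p.2.2)
  have hg : Function.Injective g := by
    rintro ⟨k, a, b⟩ ⟨k', a', b'⟩ e
    obtain ⟨h1, h2, h3⟩ := invo_inj k a b k' a' b' (congrArg enum (S.η.injective e))
    simp [h1, h2, h3]
  rw [← Fintype.sum_of_injective g hg
    (fun p => f (g p) * if IsConj x (S.inv p.1) then 1 else 0) _ (fun p hp => ?_) (fun p => ?_)]
  · simp only [Fintype.sum_prod_type]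
    refine sum_congr rfl fun k _ => ?_
    rw [mul_sum]
    refine sum_congr rfl fun a _ => ?_
    rw [mul_sum]
    exact sum_congr rfl fun b _ => mul_comm _ _
  · rw [if_neg, mul_zero]
    intro hc
    obtain ⟨j, rfl⟩ := S.η.surjective p
    obtain ⟨c, hc'⟩ := isConj_iff.mp hc
    have h2 : S.η j * S.η j = 1 := Subtype.ext (by
      show (S.η j : G) * S.η j = 1
      rw [← hc', conj_mul, hx]; group)
    have h2' : enum j * enum j = 1 := by rw [← S.π_η j, ← map_mul, h2, map_one]
    rcases (sq_eq_one_iff j).mp h2' with e | ⟨k, a, b, e⟩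
    · have e1 : S.η j = 1 := S.π_inj (by rw [S.π_η, e, map_one])
      apply hx1
      rw [e1] at hc'
      simpa [mul_inv_eq_one] using hc'
    · exact hp ⟨(k, a, b), by simp only [g, enum_inj e]⟩
  · simp only [g, hiff]

open scoped Classical in
/-- The number of ways of writing an element as a product of two members of the class of `x`. -/
noncomputable def count (x z : G) : ℂ :=
  ((univ.filter fun g : G => IsConj x g ∧ IsConj x (g⁻¹ * z)).card : ℂ)

open scoped Classical in
theorem count_eq_sum [Fintype S.H] {x : G} (hx : x * x = 1) {g : S.H} (hg : g * g ≠ 1) :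
    count x (g : G) = ∑ p : S.H, (if IsConj x (p : G) then 1 else 0) *
      (if IsConj x ((p⁻¹ * g : S.H) : G) then 1 else 0) := by
  rw [count, Finset.natCast_card_filter]
  symm
  refine Fintype.sum_of_injective (Subtype.val : S.H → G) Subtype.val_injective _ _ ?_ ?_
  · intro p hp
    rw [if_neg]
    rintro ⟨h1, h2⟩
    refine hp ⟨⟨p, ?_⟩, rfl⟩
    obtain ⟨c, hc⟩ := isConj_iff.mp h1
    obtain ⟨c', hc'⟩ := isConj_iff.mp h2
    have hp2 : p * p = 1 := by rw [← hc, conj_mul, hx]; group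
    have hq2 : (p⁻¹ * g) * (p⁻¹ * g) = 1 := by rw [← hc', conj_mul, hx]; group
    have hpi : p⁻¹ = p := inv_eq_of_mul_eq_one_right hp2
    rw [hpi] at hq2
    refine S.ti_support g.2 (fun e => hg (Subtype.ext e)) ?_
    have : p * g * p⁻¹ = (g : G)⁻¹ := by
      rw [hpi]
      exact eq_inv_of_mul_eq_one_left (by rw [← hq2]; group)
    rw [this]; exact inv_mem g.2
  · intro p
    simp only [Subgroup.coe_mul, Subgroup.coe_inv]
    split_ifs with h1 h2 <;> simp_all

/-- The indicator of the representatives in the class of `x`. -/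
noncomputable def ind₁ (x : G) (k : Fin 3) : ℂ :=
  open scoped Classical in if IsConj x (S.inv k) then 1 else 0

/-- The sum of a test function over pairs from the class of `x`. -/
noncomputable def pairs (x : G) (w i : Fin 3) : ℂ :=
  ∑ k : Fin 3, ∑ l : Fin 3, S.ind₁ x k * S.ind₁ x l * (pairSum w i k l : ℂ)

theorem sum_F_count [Fintype S.H] {x : G} (hx : x * x = 1) (hx1 : x ≠ 1) (w i : Fin 3) :
    ∑ g : S.H, S.F w i g * count x (g : G) = S.pairs x w i := by
  classical
  have h : ∀ g : S.H, S.F w i g * count x (g : G) = ∑ p : S.H, (if IsConj x (p : G) then 1 else 0) *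
      (S.F w i g * if IsConj x ((p⁻¹ * g : S.H) : G) then 1 else 0) := by
    intro g
    by_cases hg : g * g = 1
    · simp [S.F_eq_zero w i hg]
    · rw [S.count_eq_sum hx hg, mul_sum]
      exact sum_congr rfl fun p _ => by ring
  simp only [h]
  rw [sum_comm]
  have h2 : ∀ p : S.H, ∑ g : S.H, (if IsConj x (p : G) then (1 : ℂ) else 0) *
      (S.F w i g * if IsConj x ((p⁻¹ * g : S.H) : G) then 1 else 0) =
      (∑ q : S.H, S.F w i (p * q) * if IsConj x (q : G) then 1 else 0) *
        (if IsConj x (p : G) then 1 else 0) := by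
    intro p
    rw [← mul_sum, mul_comm, ← Equiv.sum_comp (Equiv.mulLeft p)]
    simp
  simp only [h2]
  rw [S.sum_class x hx hx1]
  simp only [S.sum_class x hx hx1, ind₁, pairs]
  refine sum_congr rfl fun k _ => ?_
  simp only [← test_pairSum, Int.cast_sum, mul_sum]
  rw [sum_congr rfl fun a _ => sum_comm, sum_comm]
  refine sum_congr rfl fun l _ => ?_
  refine sum_congr rfl fun a _ => ?_
  refine sum_congr rfl fun b _ => ?_
  refine sum_congr rfl fun c _ => ?_
  refine sum_congr rfl fun d _ => ?_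
  simp only [F, map_mul, S.π_η]
  ring

theorem isClassFunction_count (x : G) : IsClassFunction G (count x) := by
  intro z g
  classical
  simp only [count]
  congr 1
  refine Finset.card_equiv ⟨fun p => g⁻¹ * p * g, fun p => g * p * g⁻¹,
    fun p => by group, fun p => by group⟩ fun p => ?_
  simp only [mem_filter, mem_univ, true_and, Equiv.coe_fn_mk]
  have e : (g⁻¹ * p * g)⁻¹ * z = g⁻¹ * (p⁻¹ * (g * z * g⁻¹)) * g := by group
  have hc : ∀ q, IsConj x (g⁻¹ * q * g) ↔ IsConj x q := fun q =>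
    ⟨fun h => h.trans (isConj_iff.mpr ⟨g, by group⟩),
      fun h => h.trans (isConj_iff.mpr ⟨g⁻¹, by group⟩)⟩
  rw [e, hc, hc]

/-- The constant relating pairs to character sums. -/
noncomputable def ratio (x : G) : ℂ :=
  162 * (Nat.card G : ℂ) / (108 * ((Subgroup.centralizer ({x} : Set G)).index : ℂ) ^ 2)

theorem ratio_ne_zero (x : G) : ratio x ≠ 0 := by
  refine div_ne_zero (mul_ne_zero (by norm_num) (card_ne_zero_complex G))
    (mul_ne_zero (by norm_num) (pow_ne_zero _ ?_))
  exact Nat.cast_ne_zero.mpr Subgroup.FiniteIndex.index_ne_zero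

theorem eval_quot {x : G} (hx : x * x = 1) (hx1 : x ≠ 1) (w i : Fin 3) :
    eval (fun χ => (χ : G → ℂ) x ^ 2 / (χ : G → ℂ) 1) (S.coef w i) =
      ratio x * (S.pairs x w i / 162) := by
  classical
  haveI := Fintype.ofFinite S.H
  have hcount : ∀ z, count x z = (Nat.card G : ℂ)⁻¹ * ∑ χ : IrrCharacter G,
      (χ : G → ℂ) 1 * (centralChar (χ : G → ℂ) x * centralChar (χ : G → ℂ) x) *
        conj ((χ : G → ℂ) z) := fun z => by
    rw [← H84.coeff_classSum_mul_eq, H84.coeff_classSum_mul, count]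
  have h1 : classInner (S.ind w i) (count x) = (108 : ℂ)⁻¹ * S.pairs x w i := by
    rw [ind, classInner_indFun_left _ _ _ (isClassFunction_count x), classInner, S.card_H,
      ← S.sum_F_count hx hx1]
    refine congrArg _ (sum_congr rfl fun g _ => ?_)
    simp [count]
  have h2 : classInner (S.ind w i) (count x) = (Nat.card G : ℂ)⁻¹ * ∑ χ : IrrCharacter G,
      (χ : G → ℂ) 1 * (centralChar (χ : G → ℂ) x * centralChar (χ : G → ℂ) x) *
        (S.coef w i χ : ℂ) := by
    simp only [← S.coef_spec, classInner]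
    have hr : ∀ z, S.ind w i z * conj (count x z) = S.ind w i z * count x z := fun z => by
      simp [count]
    simp only [hr]
    simp only [hcount, mul_sum]
    rw [sum_comm]
    exact sum_congr rfl fun χ _ => sum_congr rfl fun z _ => by ring
  rw [h1] at h2
  have h3 : ∀ χ : IrrCharacter G, (χ : G → ℂ) 1 * (centralChar (χ : G → ℂ) x *
      centralChar (χ : G → ℂ) x) * (S.coef w i χ : ℂ) =
      ((Subgroup.centralizer ({x} : Set G)).index : ℂ) ^ 2 *
        ((S.coef w i χ : ℂ) * ((χ : G → ℂ) x ^ 2 / (χ : G → ℂ) 1)) := by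
    intro χ
    have := CharBasic.IsIrr.one_ne_zero χ.2
    simp only [centralChar]
    field_simp
  simp only [h3, ← mul_sum] at h2
  have hidx : ((Subgroup.centralizer ({x} : Set G)).index : ℂ) ≠ 0 :=
    Nat.cast_ne_zero.mpr Subgroup.FiniteIndex.index_ne_zero
  have hG := card_ne_zero_complex G
  rw [eval, ratio]
  field_simp at h2 ⊢
  linear_combination -h2

theorem eval_apply (w i : Fin 3) (x : G) :
    eval (fun χ => (χ : G → ℂ) x) (S.coef w i) = S.ind w i x := S.sum_coef_apply w i x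

/-! ### The exceptional characters -/

theorem exists_units [DecidableEq (IrrCharacter G)] : ∃ L M R Y : Fin 3 → IrrCharacter G × ℤˣ,
    (∀ i, S.coef 0 i = vec (triv, 1) + vec (L i) + vec (M i)) ∧
    (∀ i, S.coef 1 i = vec (L (i + 1)) + vec (L (i + 2)) + vec (R i)) ∧
    (∀ i, S.coef 2 i = vec (M i) + vec (R i) + vec (Y i)) :=
  S.data.main

theorem pairs_a (x : G) {i j k : Fin 3} (h : Tri i j k) :
    S.pairs x 0 i = 162 * (S.ind₁ x j + S.ind₁ x k) ^ 2 := by
  rcases h.succ with ⟨rfl, rfl⟩ | ⟨rfl, rfl⟩ <;> fin_cases i <;>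
    simp [pairs, pairSum, Fin.sum_univ_three] <;> ring

theorem pairs_b (x : G) {i j k : Fin 3} (h : Tri i j k) :
    S.pairs x 1 i = 162 * (S.ind₁ x j - S.ind₁ x k) ^ 2 := by
  rcases h.succ with ⟨rfl, rfl⟩ | ⟨rfl, rfl⟩ <;> fin_cases i <;>
    simp [pairs, pairSum, Fin.sum_univ_three] <;> ring

theorem pairs_c (x : G) (i : Fin 3) : S.pairs x 2 i = -324 * S.ind₁ x i ^ 2 := by
  fin_cases i <;> simp [pairs, pairSum, Fin.sum_univ_three] <;> ring

/-- The numbers attached to one involution class. -/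
structure Rel (x : G) where
  L : Fin 3 → IrrCharacter G × ℤˣ
  hL0 : ∀ l, val 1 (L l) ≠ 0
  hL1 : ∀ l, 1 + val 1 (L l) ≠ 0
  eqA : ∀ {i j k : Fin 3}, Tri i j k → (val x (L i) - val 1 (L i)) ^ 2 =
    ratio x * (S.ind₁ x j + S.ind₁ x k) ^ 2 * (val 1 (L i) * (1 + val 1 (L i)))
  eqB : ∀ {i j k : Fin 3}, Tri i j k →
    (val x (L j) * val 1 (L k) - val x (L k) * val 1 (L j)) ^ 2 =
      ratio x * (S.ind₁ x j - S.ind₁ x k) ^ 2 *
        (val 1 (L j) * val 1 (L k) * (val 1 (L j) + val 1 (L k)))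
  eqC : ∀ {i j k : Fin 3}, Tri i j k →
    ((1 + val x (L i)) * (val 1 (L j) + val 1 (L k)) -
      (1 + val 1 (L i)) * (val x (L j) + val x (L k))) ^ 2 =
      2 * ratio x * S.ind₁ x i ^ 2 *
        ((1 + val 1 (L i)) * (val 1 (L j) + val 1 (L k)) *
          (1 + val 1 (L i) + val 1 (L j) + val 1 (L k)))

theorem exists_rel : ∃ L : Fin 3 → IrrCharacter G × ℤˣ, ∀ x : G, x * x = 1 → x ≠ 1 →
    ∃ r : Rel S x, r.L = L := by
  classical
  obtain ⟨L, M, R, Y, hA, hB, hC⟩ := S.exists_units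
  refine ⟨L, fun x hx hx1 => ?_⟩
  have lin : ∀ (y : G), y * y = 1 → ∀ i,
      (1 + val y (L i) + val y (M i) = 0) ∧
      (val y (L (i + 1)) + val y (L (i + 2)) + val y (R i) = 0) ∧
      (val y (M i) + val y (R i) + val y (Y i) = 0) := by
    intro y hy i
    refine ⟨?_, ?_, ?_⟩
    · have := S.eval_apply 0 i y
      rw [S.ind_eq_zero 0 i hy, hA, eval_add, eval_add, eval_vec, eval_vec, eval_vec] at this
      simpa [val, triv] using this
    · have := S.eval_apply 1 i y
      rw [S.ind_eq_zero 1 i hy, hB, eval_add, eval_add, eval_vec, eval_vec, eval_vec] at this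
      simpa [val] using this
    · have := S.eval_apply 2 i y
      rw [S.ind_eq_zero 2 i hy, hC, eval_add, eval_add, eval_vec, eval_vec, eval_vec] at this
      simpa [val] using this
  have hM : ∀ y : G, y * y = 1 → ∀ i, val y (M i) = -1 - val y (L i) := fun y hy i => by
    linear_combination (lin y hy i).1
  have hR : ∀ y : G, y * y = 1 → ∀ i, val y (R i) = -(val y (L (i + 1)) + val y (L (i + 2))) :=
    fun y hy i => by linear_combination (lin y hy i).2.1
  have hY : ∀ y : G, y * y = 1 → ∀ i, val y (Y i) =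
      1 + val y (L i) + (val y (L (i + 1)) + val y (L (i + 2))) := fun y hy i => by
    linear_combination (lin y hy i).2.2 - hM y hy i - hR y hy i
  have o := mul_one (1 : G)
  have hL1 : ∀ l, 1 + val 1 (L l) ≠ 0 := fun l e => val_one_ne_zero (M l) (by
    rw [hM 1 o]; linear_combination -e)
  have hS : ∀ i, val 1 (L (i + 1)) + val 1 (L (i + 2)) ≠ 0 := fun i e => val_one_ne_zero (R i) (by
    rw [hR 1 o, e, neg_zero])
  have hT : ∀ i, 1 + val 1 (L i) + (val 1 (L (i + 1)) + val 1 (L (i + 2))) ≠ 0 := fun i e =>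
    val_one_ne_zero (Y i) (by rw [hY 1 o, e])
  have sA : ∀ {i j k : Fin 3}, Tri i j k → (val x (L i) - val 1 (L i)) ^ 2 =
      ratio x * (S.ind₁ x j + S.ind₁ x k) ^ 2 * (val 1 (L i) * (1 + val 1 (L i))) := by
    intro i j k h
    refine sq_a (val_one_ne_zero _) (hL1 i) ?_
    have he := S.eval_quot hx hx1 0 i
    rw [hA, eval_add, eval_add, eval_vec, eval_vec, eval_vec, unit_quot, unit_quot, unit_quot,
      hM x hx, hM 1 o, S.pairs_a x h] at he
    simp [val, triv] at he
    simp only [val] at *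
    linear_combination he
  have sB : ∀ i : Fin 3,
      (val x (L (i + 1)) * val 1 (L (i + 2)) - val x (L (i + 2)) * val 1 (L (i + 1))) ^ 2 =
        ratio x * (S.ind₁ x (i + 1) - S.ind₁ x (i + 2)) ^ 2 *
          (val 1 (L (i + 1)) * val 1 (L (i + 2)) * (val 1 (L (i + 1)) + val 1 (L (i + 2)))) := by
    intro i
    refine sq_b (val_one_ne_zero _) (val_one_ne_zero _) (hS i) ?_
    have he := S.eval_quot hx hx1 1 i
    rw [hB, eval_add, eval_add, eval_vec, eval_vec, eval_vec, unit_quot, unit_quot, unit_quot,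
      hR x hx, hR 1 o, S.pairs_b x (SignedUnits.tri_succ i)] at he
    linear_combination he
  have sC : ∀ i : Fin 3,
      ((1 + val x (L i)) * (val 1 (L (i + 1)) + val 1 (L (i + 2))) -
        (1 + val 1 (L i)) * (val x (L (i + 1)) + val x (L (i + 2)))) ^ 2 =
        (2 * ratio x * S.ind₁ x i ^ 2) *
          ((1 + val 1 (L i)) * (val 1 (L (i + 1)) + val 1 (L (i + 2))) *
            (1 + val 1 (L i) + (val 1 (L (i + 1)) + val 1 (L (i + 2))))) := by
    intro i
    refine sq_c (hL1 i) (hS i) (hT i) ?_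
    have he := S.eval_quot hx hx1 2 i
    rw [hC, eval_add, eval_add, eval_vec, eval_vec, eval_vec, unit_quot, unit_quot, unit_quot,
      hM x hx, hM 1 o, hR x hx, hR 1 o, hY x hx, hY 1 o, S.pairs_c] at he
    linear_combination he
  refine ⟨⟨L, fun l => val_one_ne_zero _, hL1, sA, ?_, ?_⟩, rfl⟩
  · intro i j k h
    rcases h.succ with ⟨rfl, rfl⟩ | ⟨rfl, rfl⟩
    · exact sB i
    · linear_combination sB i
  · intro i j k h
    rcases h.succ with ⟨rfl, rfl⟩ | ⟨rfl, rfl⟩
    · linear_combination sC i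
    · linear_combination sC i

theorem ind₁_self (i : Fin 3) : S.ind₁ (S.inv i) i = 1 := by
  classical
  rw [ind₁, if_pos (IsConj.refl _)]

theorem degree_one {i : Fin 3} (r : Rel S (S.inv i)) : val 1 (r.L i) = 1 := by
  have h := SignedUnits.tri_succ i
  set j := i + 1
  set k := i + 2
  set K := ratio (S.inv i) with hKdef
  have hK : K ≠ 0 := ratio_ne_zero _
  have hi := S.ind₁_self i
  have Ai := r.eqA h; have Aj := r.eqA h.rot; have Ak := r.eqA h.rot.rot
  have Bi := r.eqB h; have Bj := r.eqB h.rot; have Bk := r.eqB h.rot.rot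
  have Ci := r.eqC h; have Cj := r.eqC h.rot; have Ck := r.eqC h.rot.rot
  rw [← hKdef] at Ai Aj Ak Bi Bj Bk Ci Cj Ck
  rcases (show S.ind₁ (S.inv i) j = 0 ∨ S.ind₁ (S.inv i) j = 1 by
      unfold ind₁; split_ifs <;> simp) with hj | hj <;>
    rcases (show S.ind₁ (S.inv i) k = 0 ∨ S.ind₁ (S.inv i) k = 1 by
      unfold ind₁; split_ifs <;> simp) with hk | hk <;>
    simp only [hi, hj, hk] at Ai Aj Ak Bi Bj Bk Ci Cj Ck
  · exact solve_single (vi := val (S.inv i) (r.L i)) (vj := val (S.inv i) (r.L j)) (r.hL0 i)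
      (r.hL0 j) hK (by linear_combination Ai) (by linear_combination Aj)
      (by linear_combination Bk)
  · -- `i`, `k`
    have e : val (S.inv i) (r.L i) * val 1 (r.L k) = val (S.inv i) (r.L k) * val 1 (r.L i) :=
      sub_eq_zero.mp (pow_eq_zero_iff two_ne_zero |>.mp (by linear_combination Bj))
    have e' : (1 + val (S.inv i) (r.L j)) * (val 1 (r.L i) + val 1 (r.L k)) =
        (1 + val 1 (r.L j)) * (val (S.inv i) (r.L i) + val (S.inv i) (r.L k)) :=
      sub_eq_zero.mp (pow_eq_zero_iff two_ne_zero |>.mp (by linear_combination Cj))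
    exact solve_pair (r.hL0 i) (r.hL1 i) (r.hL0 k) (r.hL0 j) (r.hL1 j) hK
      (by linear_combination Ai) (by linear_combination Ak) (by linear_combination Aj) e
      (by linear_combination Bk) e'
  · -- `i`, `j`
    have e : val (S.inv i) (r.L i) * val 1 (r.L j) = val (S.inv i) (r.L j) * val 1 (r.L i) :=
      sub_eq_zero.mp (pow_eq_zero_iff two_ne_zero |>.mp (by linear_combination Bk))
    have e' : (1 + val (S.inv i) (r.L k)) * (val 1 (r.L i) + val 1 (r.L j)) =
        (1 + val 1 (r.L k)) * (val (S.inv i) (r.L i) + val (S.inv i) (r.L j)) :=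
      sub_eq_zero.mp (pow_eq_zero_iff two_ne_zero |>.mp (by linear_combination Ck))
    exact solve_pair (r.hL0 i) (r.hL1 i) (r.hL0 j) (r.hL0 k) (r.hL1 k) hK
      (by linear_combination Ai) (by linear_combination Aj) (by linear_combination Ak) e
      (by linear_combination Bj) e'
  · have e : val (S.inv i) (r.L i) * val 1 (r.L j) = val (S.inv i) (r.L j) * val 1 (r.L i) :=
      sub_eq_zero.mp (pow_eq_zero_iff two_ne_zero |>.mp (by linear_combination Bk))
    have e' : val (S.inv i) (r.L i) * val 1 (r.L k) = val (S.inv i) (r.L k) * val 1 (r.L i) :=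
      sub_eq_zero.mp (pow_eq_zero_iff two_ne_zero |>.mp (by linear_combination Bj))
    exact solve_triple (r.hL0 i) (r.hL1 i) (r.hL0 j) (r.hL0 k) hK (by linear_combination Ai)
      (by linear_combination Aj) (by linear_combination Ak) e e' (by linear_combination Ci)

theorem exists_homs : ∃ l : Fin 3 → (G →* ℂˣ), ∀ i j, i ≠ j → (l i (S.inv j) : ℂ) = -1 := by
  obtain ⟨L, hL⟩ := S.exists_rel
  have hw : ∀ i, val 1 (L i) = 1 := fun i => by
    obtain ⟨r, hr⟩ := hL (S.inv i) (S.inv_mul_self i) (S.inv_ne_one i)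
    rw [← hr]; exact S.degree_one r
  have hs : ∀ i, ((L i).2 : ℤ) = 1 ∧ ((L i).1 : G → ℂ) 1 = 1 := by
    intro i
    have h := hw i
    rw [val, deg_spec, ← Int.cast_mul, ← Int.cast_one, Int.cast_inj] at h
    have := deg_pos (L i).1
    rcases Int.units_eq_one_or (L i).2 with e | e <;> simp [e] at h ⊢
    · rw [deg_spec, h]; simp
    · omega
  choose l hl using fun i => IsChar.exists_hom_of_degree_one
    (CharBasic.IsIrr.isCharacter (L i).1.2) (hs i).2
  refine ⟨l, fun i j hij => ?_⟩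
  obtain ⟨r, hr⟩ := hL (S.inv j) (S.inv_mul_self j) (S.inv_ne_one j)
  have hv : val (S.inv j) (L i) = (l i (S.inv j) : ℂ) := by
    rw [val, (hs i).1, hl i (S.inv j)]; simp
  have hsq : (l i (S.inv j) : ℂ) * (l i (S.inv j) : ℂ) = 1 := by
    rw [← Units.val_mul, ← map_mul, S.inv_mul_self, map_one, Units.val_one]
  rcases mul_self_eq_one_iff.mp hsq with h1 | h1
  · exfalso
    obtain ⟨k, htri⟩ := (show ∀ i j : Fin 3, i ≠ j → ∃ k, Tri i j k by
      unfold SignedUnits.Tri; decide) i j hij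
    have hA := r.eqA htri
    rw [hr, hv, h1, hw, S.ind₁_self] at hA
    have h0 : (1 + S.ind₁ (S.inv j) k) ^ 2 = 0 := by
      have := mul_eq_zero.mp (show ratio (S.inv j) * (1 + S.ind₁ (S.inv j) k) ^ 2 = 0 by
        linear_combination -(1 / 2 : ℂ) * hA)
      exact this.resolve_left (ratio_ne_zero _)
    rcases (show S.ind₁ (S.inv j) k = 0 ∨ S.ind₁ (S.inv j) k = 1 by
      unfold ind₁; split_ifs <;> simp) with e | e <;> rw [e] at h0 <;> norm_num at h0
  · exact h1

theorem top_of_setting : S.H = ⊤ := by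
  classical
  obtain ⟨l, hl⟩ := S.exists_homs
  set N : Subgroup G := (l 0).ker ⊓ (l 1).ker ⊓ (l 2).ker with hN
  have hmemN : ∀ g, g ∈ N ↔ ∀ i, l i g = 1 := by
    intro g
    simp only [hN, Subgroup.mem_inf, MonoidHom.mem_ker]
    exact ⟨fun ⟨⟨a, b⟩, c⟩ i => by fin_cases i <;> assumption,
      fun h => ⟨⟨h 0, h 1⟩, h 2⟩⟩
  -- the Sylow subgroup lies in the kernels
  have hgenT : ∀ c i, l i (S.η (rotGen c) : G) = 1 := by
    intro c i
    have h := rotGen_inverted c
    have h' : S.η (invo (c + 1) 0 0) * S.η (rotGen c) * S.η (invo (c + 1) 0 0) =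
        (S.η (rotGen c))⁻¹ :=
      S.π_inj (by simp only [map_mul, map_inv, S.π_η]; exact h)
    have h2 := congrArg (fun g : S.H => l i (g : G)) h'
    simp only [Subgroup.coe_mul, Subgroup.coe_inv, map_mul, map_inv] at h2
    change l i (S.inv (c + 1)) * _ * l i (S.inv (c + 1)) = _ at h2
    rw [mul_comm (l i (S.inv (c + 1))), mul_assoc, ← map_mul, S.inv_mul_self, map_one,
      mul_one, eq_inv_iff_mul_eq_one] at h2
    have h3 : l i (S.η (rotGen c) : G) ^ 3 = 1 := by
      rw [← map_pow]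
      refine (congrArg _ (S.cube_T ((S.mem_T _).mpr ?_))).trans (map_one _)
      fin_cases c <;> exact ⟨_, S.π_η _⟩
    rwa [pow_succ, sq, h2, one_mul] at h3
  have hTN : S.T ≤ N := by
    intro t ht
    obtain ⟨a, ha⟩ := (S.mem_T ⟨t, S.hTH ht⟩).mp ht
    obtain ⟨x, y, z, e⟩ := rot_eq_prod a
    have he : (⟨t, S.hTH ht⟩ : S.H) =
        S.η (rotGen 0) ^ (x : ℕ) * S.η (rotGen 1) ^ (y : ℕ) * S.η (rotGen 2) ^ (z : ℕ) :=
      S.π_inj (by simp only [map_mul, map_pow, S.π_η, ha]; exact e)
    rw [hmemN]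
    intro i
    have := congrArg (fun g : S.H => l i (g : G)) he
    simp only [Subgroup.coe_mul, Subgroup.coe_pow, map_mul, map_pow, hgenT, one_pow, mul_one] at this
    exact this
  have hHN : ∀ g ∈ S.H, g ∈ N → g ∈ S.T := by
    intro g hg hgN
    obtain ⟨j, hj⟩ := S.η.surjective ⟨g, hg⟩
    rcases enum_split j with e | ⟨k, a, e⟩
    · exact (S.mem_T ⟨g, hg⟩).mpr ⟨j.1, by rw [← hj, S.π_η, rot, ← e]⟩
    · exfalso
      have he : (⟨g, hg⟩ : S.H) = S.η (invo k 0 0) * S.η (rot a) :=
        S.π_inj (by rw [← hj, map_mul, S.π_η, S.π_η, S.π_η]; exact e)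
      obtain ⟨i, hik⟩ : ∃ i, i ≠ k := ⟨k + 1, (show ∀ k : Fin 3, k + 1 ≠ k by decide) k⟩
      have h1 := congrArg (fun x : S.H => (l i (x : G) : ℂ)) he
      simp only [Subgroup.coe_mul, map_mul, Units.val_mul] at h1
      have hr : l i (S.η (rot a) : G) = 1 :=
        (hmemN _).mp (hTN ((S.mem_T _).mpr ⟨a, S.π_η _⟩)) i
      change (l i g : ℂ) = (l i (S.inv k) : ℂ) * _ at h1
      rw [hl i k hik, hr, (hmemN g).mp hgN i] at h1
      norm_num at h1
  haveI : N.Normal := by rw [hN]; infer_instance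
  -- the Sylow subgroup in `N`
  haveI : Fact (Nat.Prime 3) := ⟨by norm_num⟩
  set P := S.T.subgroupOf N with hP
  have hPcard : Nat.card P = 3 ^ 3 := by
    rw [hP, Nat.card_congr (Subgroup.subgroupOfEquivOfLe hTN).toEquiv, S.hT]; norm_num
  have hPp : IsPGroup 3 P := IsPGroup.of_card hPcard
  have hnP : ∀ g : N, g ∈ Subgroup.normalizer (P : Set N) → g ∈ P := by
    intro g hg
    refine Subgroup.mem_subgroupOf.mpr (hHN g ?_ g.2)
    rw [← S.hN]
    have := Subgroup.le_normalizer_map N.subtype ⟨g, hg, rfl⟩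
    rwa [hP, Subgroup.subgroupOf_map_subtype, inf_eq_left.mpr hTN] at this
  obtain ⟨Q, hQ⟩ := hPp.exists_le_sylow
  have hQP : (Q : Subgroup N) = P := by
    refine le_antisymm ?_ hQ
    by_contra hne
    haveI := Q.isPGroup'.isNilpotent
    have hlt : P.subgroupOf Q < ⊤ := lt_top_iff_ne_top.mpr fun e =>
      hne (Subgroup.subgroupOf_eq_top.mp e)
    obtain ⟨q, hq, hqP⟩ := SetLike.exists_of_lt (Group.normalizerCondition_of_isNilpotent _ hlt)
    refine hqP (Subgroup.mem_subgroupOf.mpr (hnP _ ?_))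
    have := Subgroup.le_normalizer_map (Q : Subgroup N).subtype ⟨q, hq, rfl⟩
    rwa [Subgroup.subgroupOf_map_subtype, inf_eq_left.mpr hQ] at this
  have hburn : Subgroup.normalizer ((Q : Subgroup N) : Set N) ≤
      Subgroup.centralizer ((Q : Subgroup N) : Set N) := by
    rw [hQP]
    intro g hg x hx
    exact Subtype.ext (S.comm_T (Subgroup.mem_subgroupOf.mp hx)
      (Subgroup.mem_subgroupOf.mp (hnP g hg)))
  have hcompl := MonoidHom.ker_transferSylow_isComplement' Q hburn
  set M := (MonoidHom.transferSylow Q hburn).ker with hM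
  haveI : IsMulCommutative P :=
    ⟨⟨fun a b => Subtype.ext (Subtype.ext
      (S.comm_T (Subgroup.mem_subgroupOf.mp a.2) (Subgroup.mem_subgroupOf.mp b.2)))⟩⟩
  have hcop : (Nat.card P).Coprime (Nat.card M) := by
    rw [hPcard]
    refine Nat.Coprime.pow_left _ ((Nat.Prime.coprime_iff_not_dvd (by norm_num)).mpr fun hd => ?_)
    refine Q.not_dvd_index (dvd_trans hd (dvd_of_eq ?_))
    have hc := hcompl.card_mul_card
    rw [← (Q : Subgroup N).card_mul_index, mul_comm (Nat.card M)] at hc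
    exact Nat.eq_of_mul_eq_mul_left Nat.card_pos hc
  have hM0 : M = ⊥ := by
    refine le_bot_iff.mp (Coprime.le_of_centralizer_noncyclic_le (A := P) ?_
      (le_top.trans (Subgroup.normalizer_eq_top_iff.mpr inferInstance).ge) hcop fun a ha ha1 => ?_)
    · intro hc
      obtain ⟨g, hg⟩ := hc.exists_generator
      have h1 := orderOf_eq_card_of_forall_mem_zpowers hg
      rw [hPcard] at h1
      have h2 : g ^ 3 = 1 := Subtype.ext (Subtype.ext
        (S.cube_T (Subgroup.mem_subgroupOf.mp g.2)))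
      have := orderOf_dvd_of_pow_eq_one h2
      rw [h1] at this
      norm_num at this
    · intro m hm
      obtain ⟨hmM, hmC⟩ := hm
      have hmH : (m : G) ∈ S.H := S.hC a (Subgroup.mem_subgroupOf.mp ha)
        (fun e => ha1 (Subtype.ext e))
        (Subgroup.mem_centralizer_singleton_iff.mpr
          (congrArg Subtype.val (Subgroup.mem_centralizer_singleton_iff.mp hmC)))
      have hmQ : m ∈ (Q : Subgroup N) := hQP ▸ Subgroup.mem_subgroupOf.mpr (hHN _ hmH m.2)
      exact hcompl.disjoint.le_bot ⟨hmM, hmQ⟩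
  -- so `N = T` is normal
  have hPtop : P = ⊤ := by
    rw [← hQP]
    have := hcompl.sup_eq_top
    rwa [hM0, bot_sup_eq] at this
  have hNT : N = S.T := le_antisymm (fun g hg => Subgroup.mem_subgroupOf.mp
    (show (⟨g, hg⟩ : N) ∈ P from hPtop ▸ Subgroup.mem_top _)) hTN
  rw [← S.hN, ← hNT]
  exact Subgroup.normalizer_eq_top_iff.mpr inferInstance

end Setting

end Cfsg.Agent.H70.ThreeCube
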