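import Cfsg.Prelude.Def_Solvable
import Cfsg.Prelude.Def_TwoFusion
import Cfsg.Agent.H84.ClassProd
import Cfsg.Agent.H70.ThreeCube
import Cfsg.Agent.CharBasic.Kernel
import Cfsg.Agent.H70.CubeFoldVirtual
import Cfsg.Agent.H70.CubeFoldFacts
import Cfsg.Agent.H70.CubeFoldSums
import Cfsg.Agent.H70.CubeFoldPairs
import Cfsg.Agent.H70.CubeFoldFinal
import Cfsg.Agent.H70.CubeFoldUnits
import Cfsg.Agent.H70.CubeFoldAlgebra
import Mathlib.GroupTheory.Sylow

/-!
A group with a subgroup `(S₃ ≀ S₃) ∩ A₉` which contains the centralisers of the non-trivial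
elements of its normal subgroup `J` of order 27 is that subgroup.
-/

set_option autoImplicit false
set_option linter.unusedSectionVars false
set_option linter.style.haveILetI false

namespace Cfsg.Agent.H70.CubeFold

open scoped ComplexConjugate
open Cfsg.Agent.CharBasic Cfsg.Agent.CharInduce
open Finset hiding val
open SignedUnits (vec dot)
open ThreeCube.Setting (val eval eval_add eval_vec triv deg deg_spec deg_pos val_one_ne_zero)

/-- The setting. -/
structure Setting (G : Type*) [Group G] where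
  H : Subgroup G
  J : Subgroup G
  ψ : M ≃* H
  hJ : J = (Cfsg.pCore 3 H).map H.subtype
  hC : ∀ j ∈ J, j ≠ 1 → Subgroup.centralizer ({j} : Set G) ≤ H

namespace Setting

variable {G : Type*} [Group G] [Fintype G] (S : Setting G)

/-- The enumeration of the subgroup. -/
noncomputable def E : Idx ≃ S.H := enumEquiv.trans S.ψ.toEquiv

/-- The coordinates on the subgroup. -/
noncomputable def π : S.H →* W := M.subtype.comp S.ψ.symm.toMonoidHom

theorem π_E (i : Idx) : S.π (S.E i) = enum i := by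
  simp [π, E]
  rfl

theorem π_inj : Function.Injective S.π :=
  M.subtype_injective.comp S.ψ.symm.injective

theorem π_mem (h : S.H) : S.π h ∈ M := (S.ψ.symm h).2

theorem card_H : Nat.card S.H = 648 := by
  rw [← Nat.card_congr S.E, Nat.card_eq_fintype_card]
  simp only [Fintype.card_prod, Fintype.card_fin, DihedralGroup.card]

theorem sum_H {A : Type*} [AddCommMonoid A] [Fintype S.H] (f : S.H → A) :
    ∑ h : S.H, f h = ∑ j : Idx, f (S.E j) :=
  (S.E.sum_comp f).symm

/-- The element of `G` with given coordinates. -/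
noncomputable def el (x : W) (hx : x ∈ M) : G := (S.ψ ⟨x, hx⟩ : G)

theorem π_ψ (x : M) : S.π (S.ψ x) = x := by simp [π]

theorem pow_81 {h : S.H} {k : ℕ} (hk : h ^ 3 ^ k = 1) : S.π h ^ 81 = 1 := by
  have h1 : orderOf h ∣ 3 ^ k := orderOf_dvd_of_pow_eq_one hk
  have h2 : orderOf h ∣ 8 * 81 := by
    have := orderOf_dvd_natCard h
    rwa [S.card_H] at this
  have h3 : orderOf h ∣ 81 :=
    (Nat.Coprime.coprime_dvd_left h1 ((Nat.Coprime.pow_left k (by norm_num : Nat.Coprime 3 8)))).dvd_of_dvd_mul_left h2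
  rw [← map_pow, orderOf_dvd_iff_pow_eq_one.mp h3, map_one]

theorem inJ_rot {x : W} (hx : x ∈ M) (h : inJ x) : ∃ a, x = enum (rot a) := by
  have := (inJ_enum (index x)).mp (by rwa [enum_index hx])
  refine ⟨(index x).1.1, ?_⟩
  conv_lhs => rw [← enum_index hx]
  exact congrArg enum (Prod.ext (Prod.ext rfl this.1) this.2)

theorem rot_inJ (a : Fin 3 × Fin 3 × Fin 3) : inJ (enum (rot a)) := (inJ_enum _).mpr ⟨rfl, rfl⟩

/-- The normal subgroup of order 27 in coordinates. -/
noncomputable def core : Subgroup S.H where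
  carrier := {h | inJ (S.π h)}
  one_mem' := by show inJ (S.π 1); rw [map_one]; decide
  mul_mem' := fun {x y} hx hy => by
    obtain ⟨a, ha⟩ := inJ_rot (S.π_mem x) hx
    obtain ⟨b, hb⟩ := inJ_rot (S.π_mem y) hy
    obtain ⟨c, hc⟩ := rot_mul a b
    show inJ (S.π (x * y))
    rw [map_mul, ha, hb, hc]; exact rot_inJ c
  inv_mem' := fun {x} hx => by
    obtain ⟨a, ha⟩ := inJ_rot (S.π_mem x) hx
    obtain ⟨c, hc⟩ := rot_mul a a
    have h3 : S.π x * (S.π x * S.π x) = 1 := by rw [← pow_two, ← pow_succ', ha]; exact cube_J a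
    show inJ (S.π x⁻¹)
    rw [map_inv, inv_eq_of_mul_eq_one_right h3, ha, hc]
    exact rot_inJ c

theorem pCore_eq : Cfsg.pCore 3 S.H = S.core := by
  refine le_antisymm (sSup_le ?_) (le_sSup ⟨⟨?_⟩, ?_⟩)
  · rintro N ⟨hN, hP⟩ x hx
    by_contra hout
    obtain ⟨k, hk⟩ := hP ⟨x, hx⟩
    have hx81 := S.pow_81 (h := x) (k := k) (by simpa using congrArg Subtype.val hk)
    have hv : vv 0 ∈ M := enum_mem _
    set u : S.H := S.ψ ⟨_, hv⟩
    have hy : x * u * x⁻¹ * u⁻¹ ∈ N := by
      have : x * u * x⁻¹ * u⁻¹ = x * (u * x⁻¹ * u⁻¹) := by group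
      rw [this]; exact mul_mem hx (hN.conj_mem _ (inv_mem hx) u)
    obtain ⟨k', hk'⟩ := hP ⟨_, hy⟩
    have hy81 := S.pow_81 (h := x * u * x⁻¹ * u⁻¹) (k := k') (by simpa using congrArg Subtype.val hk')
    obtain ⟨i, rfl⟩ := S.E.surjective x
    simp only [map_mul, map_inv, π_E, π_ψ, u] at hy81 hx81
    exact pgroup_out i (fun h => hout (show inJ (S.π (S.E i)) by rwa [π_E])) hx81 hy81
  · intro x hx g
    obtain ⟨a, ha⟩ := inJ_rot (S.π_mem x) hx
    obtain ⟨i, rfl⟩ := S.E.surjective g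
    show inJ (S.π (S.E i * x * (S.E i)⁻¹))
    rw [map_mul, map_mul, map_inv, π_E, ha]
    exact inJ_conj i a
  · intro x
    obtain ⟨a, ha⟩ := inJ_rot (S.π_mem x) x.2
    refine ⟨1, Subtype.ext (S.π_inj ?_)⟩
    simp only [pow_one, SubmonoidClass.coe_pow, map_pow, ha, OneMemClass.coe_one, map_one]
    exact cube_J a

theorem core_normal : S.core.Normal where
  conj_mem x hx g := by
    obtain ⟨a, ha⟩ := inJ_rot (S.π_mem x) hx
    obtain ⟨i, rfl⟩ := S.E.surjective g
    show inJ (S.π (S.E i * x * (S.E i)⁻¹))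
    rw [map_mul, map_mul, map_inv, π_E, ha]
    exact inJ_conj i a

theorem mem_J (h : S.H) : (h : G) ∈ S.J ↔ inJ (S.π h) := by
  rw [S.hJ, S.pCore_eq]
  constructor
  · rintro ⟨x, hx, e⟩
    rwa [Subtype.ext e] at hx
  · exact fun hh => ⟨h, hh, rfl⟩

theorem J_le {j : G} (hj : j ∈ S.J) : j ∈ S.H := by
  rw [S.hJ] at hj
  exact Subgroup.map_subtype_le _ hj

theorem conj_mem_J {g j : G} (hg : g ∈ S.H) (hj : j ∈ S.J) : g * j * g⁻¹ ∈ S.J := by
  rw [S.hJ, S.pCore_eq] at hj ⊢
  obtain ⟨x, hx, rfl⟩ := hj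
  haveI : S.core.Normal := S.core_normal
  exact ⟨⟨g, hg⟩ * x * ⟨g, hg⟩⁻¹, Subgroup.Normal.conj_mem inferInstance _ hx _, rfl⟩

theorem el_mem_J {x : W} (hx : x ∈ M) : S.el x hx ∈ S.J ↔ inJ x := by
  rw [el, mem_J, π_ψ]

theorem el_mul {x y : W} (hx : x ∈ M) (hy : y ∈ M) :
    S.el x hx * S.el y hy = S.el (x * y) (mul_mem hx hy) := by
  rw [el, el, el, ← Subgroup.coe_mul, ← map_mul]; rfl

theorem el_inv {x : W} (hx : x ∈ M) : (S.el x hx)⁻¹ = S.el x⁻¹ (inv_mem hx) := by
  rw [el, el, ← Subgroup.coe_inv, ← map_inv]; rfl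

theorem el_congr {x y : W} (hx : x ∈ M) (hy : y ∈ M) : S.el x hx = S.el y hy ↔ x = y := by
  rw [el, el, Subtype.coe_inj, S.ψ.injective.eq_iff, Subtype.mk.injEq]

theorem el_one : S.el 1 (one_mem M) = 1 := by
  rw [el, show (⟨1, one_mem M⟩ : M) = 1 from rfl, map_one]; rfl

theorem ee_mem (w : Fin 3) : ee w ∈ M := enum_mem _

/-- The distinguished elements. -/
noncomputable def e (w : Fin 3) : G := S.el (ee w) (ee_mem w)

theorem e_mem (w : Fin 3) : S.e w ∈ S.J := (S.el_mem_J _).mpr (rot_inJ _)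

theorem ee_ne : ∀ w, ee w ≠ 1 := by decide +kernel

theorem e_ne (w : Fin 3) : S.e w ≠ 1 := by
  rw [e, ← S.el_one, Ne, S.el_congr]; exact ee_ne w

theorem card_centralizer (w : Fin 3) :
    Nat.card (Subgroup.centralizer ({S.e w} : Set G)) = ![108, 54, 81] w := by
  classical
  rw [← card_cent w, ← Fintype.card_subtype, ← Nat.card_eq_fintype_card]
  refine Nat.card_congr
    { toFun := fun g => ⟨S.E.symm ⟨g, S.hC _ (S.e_mem w) (S.e_ne w) g.2⟩, ?_⟩
      invFun := fun i => ⟨(S.E i.1 : G), ?_⟩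
      left_inv := fun g => by simp
      right_inv := fun i => by simp }
  · have hg := Subgroup.mem_centralizer_singleton_iff.mp g.2
    rw [← S.π_E, Equiv.apply_symm_apply,
      show ee w = S.π (S.ψ ⟨ee w, enum_mem _⟩) by rw [π_ψ], ← map_mul, ← map_mul]
    exact congrArg _ (Subtype.ext (by simpa [e, el] using hg))
  · rw [Subgroup.mem_centralizer_singleton_iff]
    have h : S.E i.1 * S.ψ ⟨ee w, enum_mem _⟩ = S.ψ ⟨ee w, enum_mem _⟩ * S.E i.1 :=
      S.π_inj (by rw [map_mul, map_mul, π_E, π_ψ]; exact i.2)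
    simpa [e, el] using congrArg Subtype.val h

theorem exists_orbit {j : G} (hj : j ∈ S.J) (hj1 : j ≠ 1) :
    ∃ w, ∃ c ∈ S.H, j = c * S.e w * c⁻¹ := by
  have hjH : j ∈ S.H := S.J_le hj
  obtain ⟨a, ha⟩ := inJ_rot (S.π_mem ⟨j, hjH⟩) ((S.mem_J ⟨j, hjH⟩).mp hj)
  have ha1 : enum (rot a) ≠ 1 := fun h =>
    hj1 (congrArg Subtype.val (S.π_inj (a₁ := ⟨j, hjH⟩) (a₂ := 1) (by rw [ha, h, map_one])))
  obtain ⟨w, g, k, hw⟩ := orbit_J a ha1
  have hc : pp g * vv k ∈ M := mul_mem (enum_mem _) (enum_mem _)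
  refine ⟨w, (S.ψ ⟨_, hc⟩ : G), (S.ψ ⟨_, hc⟩).2, ?_⟩
  exact congrArg Subtype.val (S.π_inj (a₁ := ⟨j, hjH⟩)
    (a₂ := S.ψ ⟨_, hc⟩ * S.ψ ⟨ee w, enum_mem _⟩ * (S.ψ ⟨_, hc⟩)⁻¹)
    (by simp only [map_mul, map_inv, π_ψ, ha]; exact hw))

theorem card_centralizer_conj (x c : G) :
    Nat.card (Subgroup.centralizer ({c * x * c⁻¹} : Set G)) =
      Nat.card (Subgroup.centralizer ({x} : Set G)) := by
  refine Nat.card_congr
    { toFun := fun g => ⟨c⁻¹ * g * c, ?_⟩
      invFun := fun g => ⟨c * g * c⁻¹, ?_⟩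
      left_inv := fun g => Subtype.ext (by group)
      right_inv := fun g => Subtype.ext (by group) }
  · have := Subgroup.mem_centralizer_singleton_iff.mp g.2
    rw [Subgroup.mem_centralizer_singleton_iff]
    calc c⁻¹ * g * c * x = c⁻¹ * (g * (c * x * c⁻¹)) * c := by group
      _ = c⁻¹ * (c * x * c⁻¹ * g) * c := by rw [this]
      _ = x * (c⁻¹ * g * c) := by group
  · have := Subgroup.mem_centralizer_singleton_iff.mp g.2
    rw [Subgroup.mem_centralizer_singleton_iff]
    calc c * g * c⁻¹ * (c * x * c⁻¹) = c * (g * x) * c⁻¹ := by group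
      _ = c * (x * g) * c⁻¹ := by rw [this]
      _ = c * x * c⁻¹ * (c * g * c⁻¹) := by group

theorem ti {j g : G} (hj : j ∈ S.J) (hj1 : j ≠ 1) (hg : g * j * g⁻¹ ∈ S.J) : g ∈ S.H := by
  obtain ⟨w, c, hc, hw⟩ := S.exists_orbit hj hj1
  obtain ⟨w', c', hc', hw'⟩ := S.exists_orbit hg (by simpa [mul_inv_eq_one] using hj1)
  have hconj : S.e w' = (c'⁻¹ * g * c) * S.e w * (c'⁻¹ * g * c)⁻¹ := by
    calc S.e w' = c'⁻¹ * (c' * S.e w' * c'⁻¹) * c' := by group
      _ = _ := by rw [← hw', hw]; group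
  have hww : w' = w := by
    have h := S.card_centralizer w'
    rw [hconj, card_centralizer_conj, S.card_centralizer] at h
    exact (show ∀ u v : Fin 3, (![108, 54, 81] : Fin 3 → ℕ) u = ![108, 54, 81] v → v = u by decide) _ _ h
  subst hww
  have hmem : c'⁻¹ * g * c ∈ S.H := by
    refine S.hC _ (S.e_mem w') (S.e_ne w') (Subgroup.mem_centralizer_singleton_iff.mpr ?_)
    exact (mul_inv_eq_iff_eq_mul.mp hconj.symm)
  have : g = c' * (c'⁻¹ * g * c) * c⁻¹ := by group
  rw [this]
  exact mul_mem (mul_mem hc' hmem) (inv_mem hc)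

theorem ti_D {x : S.H} (hx : inD (S.π x)) {g : G} (hg : g * x * g⁻¹ ∈ S.H)
    (hy : inD (S.π ⟨g * x * g⁻¹, hg⟩)) : g ∈ S.H := by
  have key : ∀ n : ℕ, (n = 3 ∨ n = 4) → inJ (S.π x ^ n) → S.π x ^ n ≠ 1 → g ∈ S.H := by
    intro n hn h1 h2
    have hj : ((x ^ n : S.H) : G) ∈ S.J := (S.mem_J _).mpr (by rwa [map_pow])
    have hj1 : ((x ^ n : S.H) : G) ≠ 1 := fun e => h2 (by
      rw [← map_pow, (show x ^ n = 1 from Subtype.ext e), map_one])
    obtain ⟨a, ha⟩ := inJ_rot (pow_mem (S.π_mem x) n) h1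
    have h9 : (x ^ n) ^ 3 = 1 := S.π_inj (by rw [map_pow, map_pow, ha, cube_J, map_one])
    set y : S.H := ⟨g * x * g⁻¹, hg⟩
    have e : ((y ^ n : S.H) : G) = g * ((x ^ n : S.H) : G) * g⁻¹ := by
      simp [y, conj_pow]
    refine S.ti hj hj1 ?_
    rw [← e, S.mem_J, map_pow]
    obtain ⟨i, hi⟩ := S.E.surjective y
    rw [← hi, π_E]
    rw [← hi, π_E] at hy
    refine inD_pow_inJ i hy n hn ?_ ?_
    · rw [← S.π_E, ← map_pow, ← map_pow, hi, ← map_one S.π]
      refine congrArg _ (Subtype.ext ?_)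
      have h9' := congrArg Subtype.val h9
      simp only [SubmonoidClass.coe_pow, y, OneMemClass.coe_one] at h9' ⊢
      rw [conj_pow, conj_pow, h9']; group
    · rw [← S.π_E, ← map_pow, hi]
      intro h
      apply hj1
      have h' := congrArg Subtype.val (S.π_inj (a₁ := y ^ n) (a₂ := 1) (by rw [h, map_one]))
      rw [e] at h'
      simpa [mul_inv_eq_one] using h'
  obtain ⟨i, hi⟩ := S.E.surjective x
  subst hi
  rw [S.π_E] at hx key
  rcases inD_pow i hx with ⟨h1, h2⟩ | ⟨h1, h2⟩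
  · exact key 3 (Or.inl rfl) h1 h2
  · exact key 4 (Or.inr rfl) h1 h2

/-! ### The involutions -/

/-- The representative involutions in coordinates. -/
def rep (b : Bool) : W := if b then ss else tt

theorem rep_mem : ∀ b, rep b ∈ M := by decide +kernel

/-- The representative involutions. -/
noncomputable def inv (b : Bool) : G := S.el (rep b) (rep_mem b)

theorem inv_mul_self (b : Bool) : S.inv b * S.inv b = 1 := by
  rw [inv, S.el_mul, ← S.el_one, S.el_congr]
  cases b
  · exact inv_facts.1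
  · exact inv_facts.2.1

theorem inv_ne_one (b : Bool) : S.inv b ≠ 1 := by
  rw [inv, ← S.el_one, Ne, S.el_congr]
  cases b
  · exact inv_facts.2.2.1
  · exact inv_facts.2.2.2.1

theorem not_fused : ¬ IsConj (S.inv true) (S.inv false) := by
  intro h
  obtain ⟨c, hc⟩ := isConj_iff.mp h
  haveI : Fact (Nat.Prime 3) := ⟨by norm_num⟩
  set C := Subgroup.centralizer ({S.inv false} : Set G) with hCdef
  have hcube : ∀ w, S.e w ^ 3 = 1 := fun w => by
    have h3 : (S.ψ ⟨ee w, enum_mem _⟩) ^ 3 = 1 :=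
      S.π_inj (by rw [map_pow, π_ψ, map_one]; exact cube_J _)
    exact congrArg Subtype.val h3
  have comm : ∀ x y : W, ∀ hx : x ∈ M, ∀ hy : y ∈ M, x * y = y * x →
      S.el x hx * S.el y hy = S.el y hy * S.el x hx := fun x y hx hy e => by
    rw [S.el_mul, S.el_mul, S.el_congr]; exact e
  have he0 : S.e 0 ∈ C := Subgroup.mem_centralizer_singleton_iff.mpr
    (comm _ _ _ _ inv_facts.2.2.2.2.1.symm)
  have hse : S.inv true * S.e 1 = S.e 1 * S.inv true := comm _ _ _ _ inv_facts.2.2.2.2.2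
  have hj : c * S.e 1 * c⁻¹ ∈ C := by
    rw [hCdef, Subgroup.mem_centralizer_singleton_iff, ← hc]
    calc c * S.e 1 * c⁻¹ * (c * S.inv true * c⁻¹) = c * (S.e 1 * S.inv true) * c⁻¹ := by group
      _ = c * (S.inv true * S.e 1) * c⁻¹ := by rw [hse]
      _ = _ := by group
  have hzp : ∀ y : G, y ∈ C → y ^ 3 = 1 → ∃ P : Sylow 3 C, ∃ hy : y ∈ C, (⟨y, hy⟩ : C) ∈ P := by
    intro y hy h3
    have hp : IsPGroup 3 (Subgroup.zpowers (⟨y, hy⟩ : C)) := by
      rintro ⟨_, k, rfl⟩
      refine ⟨1, Subtype.ext ?_⟩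
      show ((⟨y, hy⟩ : C) ^ k) ^ (3 ^ 1) = 1
      rw [pow_one, ← zpow_natCast ((⟨y, hy⟩ : C) ^ k), ← zpow_mul, mul_comm, zpow_mul, zpow_natCast,
        (show (⟨y, hy⟩ : C) ^ 3 = 1 from Subtype.ext h3), one_zpow]
    obtain ⟨P, hP⟩ := hp.exists_le_sylow
    exact ⟨P, hy, hP (Subgroup.mem_zpowers _)⟩
  obtain ⟨P, _, hP0⟩ := hzp _ he0 (hcube 0)
  obtain ⟨Q, _, hQj⟩ := hzp _ hj (by rw [conj_pow, hcube]; group)
  have hsmall : ∀ z ∈ P, ∀ z' : G, (z : G) = z' → z' * S.e 0 = S.e 0 * z' →
      z' = 1 ∨ z' = S.e 0 ∨ z' = S.e 0 * S.e 0 := by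
    intro z hz z' hzz hcomm
    have hzH : z' ∈ S.H := S.hC _ (S.e_mem 0) (S.e_ne 0)
      (Subgroup.mem_centralizer_singleton_iff.mpr hcomm)
    obtain ⟨k, hk⟩ := P.isPGroup' ⟨z, hz⟩
    have h81 := S.pow_81 (h := ⟨z', hzH⟩) (k := k) (Subtype.ext (by
      have := congrArg (fun q : (P : Subgroup C) => ((q : C) : G)) hk
      simpa [← hzz] using this))
    obtain ⟨i, hi⟩ := S.E.surjective ⟨z', hzH⟩
    rw [← hi, π_E] at h81
    have hzt : z' * S.inv false = S.inv false * z' :=
      hzz ▸ Subgroup.mem_centralizer_singleton_iff.mp z.2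
    have hiM := enum_mem i
    have hel : z' = S.el (enum i) hiM := by
      rw [el, show (⟨enum i, hiM⟩ : M) = enumEquiv i from rfl]
      exact congrArg Subtype.val hi.symm
    rw [hel] at hcomm hzt ⊢
    simp only [inv, e, S.el_mul, S.el_congr] at hcomm hzt ⊢
    rw [← S.el_one]
    simp only [S.el_congr]
    exact cent_pair i hzt hcomm h81
  haveI : Nontrivial (P : Subgroup C) := by
    refine (Subgroup.nontrivial_iff_ne_bot _).mpr fun hb => S.e_ne 0 ?_
    have h0 : (⟨S.e 0, _⟩ : C) ∈ (P : Subgroup C) := hP0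
    rw [hb, Subgroup.mem_bot] at h0
    exact congrArg Subtype.val h0
  haveI := P.isPGroup'.center_nontrivial
  obtain ⟨⟨z, hzc⟩, hz1⟩ := exists_ne (1 : Subgroup.center (P : Subgroup C))
  have hcen : ∀ q : (P : Subgroup C), (((q : C) : G)) * ((z : C) : G) = ((z : C) : G) * ((q : C) : G) :=
    fun q => congrArg (fun p : (P : Subgroup C) => ((p : C) : G)) (Subgroup.mem_center_iff.mp hzc q)
  have hcomm : ∀ q : (P : Subgroup C), ((q : C) : G) * S.e 0 = S.e 0 * ((q : C) : G) := by
    intro q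
    rcases hsmall z z.2 _ rfl (hcen ⟨_, hP0⟩).symm with h0 | h0 | h0
    · exact absurd (Subtype.ext (Subtype.ext (Subtype.ext h0))) hz1
    · have := hcen q; rwa [h0] at this
    · have h2 := hcen q
      rw [h0] at h2
      have e4 : S.e 0 * S.e 0 * (S.e 0 * S.e 0) = S.e 0 := by
        calc S.e 0 * S.e 0 * (S.e 0 * S.e 0) = S.e 0 ^ 3 * S.e 0 := by
              simp [pow_succ, mul_assoc]
          _ = S.e 0 := by rw [hcube, one_mul]
      have h4 := Commute.mul_right h2 h2
      rwa [e4] at h4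
  obtain ⟨d, hd⟩ := MulAction.exists_smul_eq C Q P
  have hdj : d * ⟨_, hj⟩ * d⁻¹ ∈ (P : Subgroup C) := by
    rw [← hd]
    exact Subgroup.smul_mem_pointwise_smul _ (MulAut.conj d) _ hQj
  set f : C := d * ⟨_, hj⟩ * d⁻¹ with hf
  have hfval : (f : G) = ((d : G) * c) * S.e 1 * ((d : G) * c)⁻¹ := by
    simp only [hf, Subgroup.coe_mul, Subgroup.coe_inv]; group
  have hJc : (f : G) ∈ S.J := by
    rcases hsmall f hdj _ rfl (hcomm ⟨f, hdj⟩) with h0 | h0 | h0 <;> rw [h0]
    · exact one_mem _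
    · exact S.e_mem 0
    · exact mul_mem (S.e_mem 0) (S.e_mem 0)
  have hdc : (d : G) * c ∈ S.H := S.ti (S.e_mem 1) (S.e_ne 1) (hfval ▸ hJc)
  have hcard : Nat.card (Subgroup.centralizer ({(f : G)} : Set G)) = 54 := by
    rw [hfval, card_centralizer_conj, S.card_centralizer]; rfl
  have hf1 : (f : G) ≠ 1 := by rw [hfval, Ne, conj_eq_one_iff]; exact S.e_ne 1
  rcases hsmall f hdj _ rfl (hcomm ⟨f, hdj⟩) with h0 | h0 | h0
  · exact hf1 h0
  · rw [h0, S.card_centralizer] at hcard; simp at hcard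
  · have hle : Subgroup.centralizer ({S.e 0} : Set G) =
        Subgroup.centralizer ({(f : G)} : Set G) := by
      ext x
      simp only [Subgroup.mem_centralizer_singleton_iff, h0]
      constructor
      · intro hx
        rw [← mul_assoc, hx, mul_assoc, hx, mul_assoc]
      · intro hx
        have e4 : S.e 0 * S.e 0 * (S.e 0 * S.e 0) = S.e 0 := by
          calc S.e 0 * S.e 0 * (S.e 0 * S.e 0) = S.e 0 ^ 3 * S.e 0 := by
                simp [pow_succ, mul_assoc]
            _ = S.e 0 := by rw [hcube, one_mul]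
        have h4 := Commute.mul_right hx hx
        rwa [e4] at h4
    rw [← hle, S.card_centralizer] at hcard
    simp at hcard

theorem invCl_rep : ∀ b, cl (rep b) = invCl b := by decide +kernel

theorem isConj_inv_iff (b : Bool) (i : Idx) :
    IsConj (S.inv b) (S.E i : G) ↔ cl (enum i) = invCl b := by
  have hel : (S.E i : G) = S.el (enum i) (enum_mem i) := rfl
  have fwd : ∀ b', cl (enum i) = invCl b' → IsConj (S.inv b') (S.E i : G) := by
    intro b' h
    obtain ⟨c, hcM, hc⟩ : ∃ c ∈ M, enum i = c * rep b' * c⁻¹ := by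
      cases b'
      · obtain ⟨a, g, e⟩ := conj_tt i h
        exact ⟨_, mul_mem (enum_mem _) (enum_mem _), e⟩
      · obtain ⟨a, g, k, e⟩ := conj_ss i h
        exact ⟨_, mul_mem (mul_mem (enum_mem _) (enum_mem _)) (enum_mem _), e⟩
    refine isConj_iff.mpr ⟨S.el c hcM, ?_⟩
    rw [hel, inv, S.el_inv, S.el_mul, S.el_mul, S.el_congr]
    exact hc.symm
  refine ⟨fun h => ?_, fwd b⟩
  obtain ⟨c, hc⟩ := isConj_iff.mp h
  have h2 : enum i * enum i = 1 := by
    have : (S.E i : G) * (S.E i : G) = 1 := by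
      rw [← hc, conj_mul, S.inv_mul_self]; group
    rw [← S.π_E i, ← map_mul, (show S.E i * S.E i = 1 from Subtype.ext this), map_one]
  rcases invol_cases i h2 with e | e | e
  · exfalso
    have e1 : (S.E i : G) = 1 := by
      rw [hel, ← S.el_one, S.el_congr]; exact e
    rw [e1, mul_inv_eq_one, mul_right_eq_self₀'] at hc
    exact S.inv_ne_one b hc
  · cases b
    · exact e
    · exact absurd (h.trans (fwd false e).symm) S.not_fused
  · cases b
    · exact absurd ((fwd true e).trans h.symm) S.not_fused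
    · exact e
where
  mul_right_eq_self₀' {G : Type _} [Group G] {a b : G} : a * b = a ↔ b = 1 := mul_eq_left

/-! ### The test functions and their induced functions -/

/-- A test function on the subgroup. -/
noncomputable def F (w : Fin 6) : S.H → ℂ := fun h => ev2 (tab w (cl (S.π h)))

theorem F_E (w : Fin 6) (i : Idx) : S.F w (S.E i) = ev2 (test w i) := by
  rw [F, π_E]; rfl

theorem isGen_F (w : Fin 6) : IsGeneralizedCharacter S.H (S.F w) :=
  CharInduce.IsGen.comp (isGen_test w) S.ψ.symm.toMonoidHom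

theorem F_eq_zero (w : Fin 6) {h : S.H} (hh : ¬ inD (S.π h)) : S.F w h = 0 := by
  obtain ⟨j, rfl⟩ := S.E.surjective h
  rw [π_E] at hh
  rw [F_E, test_eq_zero w j hh]
  simp [ev2]

/-- The induced test functions. -/
noncomputable def ind (w : Fin 6) : G → ℂ := indFun S.H (S.F w)

theorem isGen_ind (w : Fin 6) : IsGeneralizedCharacter G (S.ind w) :=
  CharInduce.IsGen.ind _ (S.isGen_F w)

theorem ind_eq (w : Fin 6) {x : S.H} (hx : inD (S.π x)) : S.ind w x = S.F w x := by
  classical
  have h : ∀ g : G, extendByZero S.H (S.F w) (g⁻¹ * x * g) = if g ∈ S.H then S.F w x else 0 := by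
    intro g
    split_ifs with hg
    · have := extendByZero_conj (CharInduce.IsGen.isClassFunction (S.isGen_F w))
        (inv_mem hg) (x : G)
      rwa [inv_inv, extendByZero_coe] at this
    · by_cases hy : g⁻¹ * x * g ∈ S.H
      · rw [extendByZero_of_mem _ hy]
        by_contra hne
        have hD : inD (S.π ⟨_, hy⟩) := by
          by_contra hD
          exact hne (S.F_eq_zero w hD)
        have := S.ti_D hx (g := g⁻¹) (by rwa [inv_inv]) (by simpa only [inv_inv] using hD)
        exact hg (by simpa using inv_mem this)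
      · exact extendByZero_of_not_mem _ hy
  simp only [ind, indFun_apply, h]
  rw [← sum_filter, sum_const, nsmul_eq_mul,
    show (univ.filter fun g : G => g ∈ S.H).card = Nat.card S.H by
      rw [Nat.card_eq_fintype_card, Fintype.card_subtype],
    ← mul_assoc, inv_mul_cancel₀ (card_ne_zero_complex _), one_mul]

theorem ind_eq_zero (w : Fin 6) {x : G} (hx : x * x = 1) : S.ind w x = 0 := by
  classical
  rw [ind, indFun_apply, sum_eq_zero fun g _ => ?_, mul_zero]
  by_cases hy : g⁻¹ * x * g ∈ S.H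
  · rw [extendByZero_of_mem _ hy]
    refine S.F_eq_zero w fun hD => ?_
    obtain ⟨i, hi⟩ := S.E.surjective ⟨_, hy⟩
    rw [← hi, π_E] at hD
    refine inD_not_sq i hD ?_
    have h2 : S.E i * S.E i = 1 := by
      rw [hi]
      refine Subtype.ext ?_
      show g⁻¹ * x * g * (g⁻¹ * x * g) = 1
      rw [show g⁻¹ * x * g * (g⁻¹ * x * g) = g⁻¹ * (x * x) * g by group, hx]; group
    rw [← S.π_E, ← map_mul, h2, map_one]
  · exact extendByZero_of_not_mem _ hy

theorem sum_ev2 {ι : Type*} (s : Finset ι) (f : ι → ℤ × ℤ) :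
    ∑ i ∈ s, ev2 (f i) = ev2 (∑ i ∈ s, f i) := by
  classical
  induction s using Finset.induction_on with
  | empty => simp [ev2]
  | insert a s ha ih => rw [sum_insert ha, sum_insert ha, ih, ev2_add]

theorem inner_ind (w w' : Fin 6) : classInner (S.ind w) (S.ind w') = (gram w w' : ℂ) := by
  haveI := Fintype.ofFinite S.H
  rw [ind, classInner_indFun_left _ _ _
    (CharInduce.IsGen.isClassFunction (S.isGen_ind w')), classInner, S.card_H]
  have h1 : ∀ h : S.H, S.F w h * conj (S.ind w' h) = S.F w h * S.F w' h := by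
    intro h
    by_cases hh : inD (S.π h)
    · rw [S.ind_eq w' hh, F, F, conj_ev2]
    · rw [S.F_eq_zero w hh, zero_mul, zero_mul]
  simp only [h1]
  rw [S.sum_H]
  simp only [F_E]
  have h2 : ∀ i : Idx, ev2 (test w i) * ev2 (test w' i) =
      (((test w i).1 * (test w' i).1 + 3 * ((test w i).2 * (test w' i).2) : ℤ) : ℂ) / 4 +
        (((test w i).1 * (test w' i).2 + (test w i).2 * (test w' i).1 : ℤ) : ℂ) * s3 / 4 := by
    intro i
    simp only [ev2]; push_cast
    linear_combination (((test w i).2 : ℂ) * (test w' i).2 / 4) * s3_sq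
  simp only [h2, sum_add_distrib, ← sum_div, ← sum_mul, ← Int.cast_sum,
    (test_gram w w').1, (test_gram w w').2]
  push_cast; ring

/-- The coefficients of the induced test functions. -/
noncomputable def coef (w : Fin 6) (χ : IrrCharacter G) : ℤ :=
  (CharInduce.IsGen.exists_int_coeff (S.isGen_ind w) (CharBasic.IsIrr.isCharacter χ.2)).choose

theorem coef_spec (w : Fin 6) (χ : IrrCharacter G) :
    classInner (S.ind w) (χ : G → ℂ) = (S.coef w χ : ℂ) :=
  (CharInduce.IsGen.exists_int_coeff (S.isGen_ind w) (CharBasic.IsIrr.isCharacter χ.2)).choose_spec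

theorem sum_coef_apply (w : Fin 6) (x : G) :
    ∑ χ : IrrCharacter G, (S.coef w χ : ℂ) * (χ : G → ℂ) x = S.ind w x := by
  conv_rhs => rw [classFunction_expansion (CharInduce.IsGen.isClassFunction (S.isGen_ind w))]
  simp [S.coef_spec, Finset.sum_apply]

theorem dot_coef [DecidableEq (IrrCharacter G)] (w w' : Fin 6) :
    dot (S.coef w) (S.coef w') = gramU w w' := by
  have h1 := S.inner_ind w w'
  rw [classInner_eq_sum (CharInduce.IsGen.isClassFunction (S.isGen_ind w))] at h1
  simp only [S.coef_spec, map_intCast] at h1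
  have h2 : ((dot (S.coef w) (S.coef w') : ℤ) : ℂ) = ((gramU w w' : ℤ) : ℂ) := by
    rw [dot]; push_cast; rw [h1]; rfl
  exact_mod_cast h2

theorem coef_triv (w : Fin 6) : S.coef w triv = ![0, 0, 1, 1, 0, 0] w := by
  haveI := Fintype.ofFinite S.H
  have h := S.coef_spec w triv
  rw [ind, classInner_indFun_left _ _ _ (fun _ _ => rfl), classInner, S.card_H, S.sum_H] at h
  simp only [triv, map_one, mul_one, F_E, sum_ev2] at h
  have hs : ev2 (∑ i : Idx, test w i) = ((648 * ![0, 0, 1, 1, 0, 0] w : ℤ) : ℂ) := by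
    rw [ev2, Prod.fst_sum, Prod.snd_sum, (test_sum w).1, (test_sum w).2]; push_cast; ring
  rw [hs] at h
  have h2 : ((S.coef w triv : ℤ) : ℂ) = ((![0, 0, 1, 1, 0, 0] w : ℤ) : ℂ) := by
    rw [triv, ← h]; push_cast; ring
  exact_mod_cast h2

theorem dot_deg [DecidableEq (IrrCharacter G)] (w : Fin 6) : dot (S.coef w) deg = 0 := by
  have h := S.sum_coef_apply w 1
  rw [S.ind_eq_zero w (mul_one 1)] at h
  simp only [deg_spec, ← Int.cast_mul, ← Int.cast_sum] at h
  exact_mod_cast h

/-- The vectors attached to the setting. -/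
noncomputable def data [DecidableEq (IrrCharacter G)] : Data (IrrCharacter G) where
  e₀ := triv
  d := deg
  v := S.coef
  hd := deg_pos
  hd₀ := by
    have : ((deg (triv : IrrCharacter G) : ℤ) : ℂ) = ((1 : ℤ) : ℂ) := by
      rw [← deg_spec]; simp [triv]
    exact_mod_cast this
  v₀ := S.coef_triv
  dv := S.dot_deg
  hv := S.dot_coef

/-! ### Evaluation -/

open scoped Classical in
/-- The number of ways of writing an element as a product of members of two classes. -/
noncomputable def count (x y z : G) : ℂ :=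
  ((univ.filter fun g : G => IsConj x g ∧ IsConj y (g⁻¹ * z)).card : ℂ)

theorem isClassFunction_count (x y : G) : IsClassFunction G (count x y) := by
  intro z g
  classical
  simp only [count]
  congr 1
  refine Finset.card_equiv ⟨fun p => g⁻¹ * p * g, fun p => g * p * g⁻¹,
    fun p => by group, fun p => by group⟩ fun p => ?_
  simp only [mem_filter, mem_univ, true_and, Equiv.coe_fn_mk]
  have e : (g⁻¹ * p * g)⁻¹ * z = g⁻¹ * (p⁻¹ * (g * z * g⁻¹)) * g := by group
  have hc : ∀ u q, IsConj u (g⁻¹ * q * g) ↔ IsConj u q := fun u q =>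
    ⟨fun h => h.trans (isConj_iff.mpr ⟨g, by group⟩),
      fun h => h.trans (isConj_iff.mpr ⟨g⁻¹, by group⟩)⟩
  rw [e, hc, hc]

open scoped Classical in
theorem count_eq_sum [Fintype S.H] {x y : G} (hx : x * x = 1) (hy : y * y = 1) {g : S.H}
    (hg : inD (S.π g)) :
    count x y (g : G) = ∑ p : S.H, (if IsConj x (p : G) then 1 else 0) *
      (if IsConj y ((p⁻¹ * g : S.H) : G) then 1 else 0) := by
  rw [count, Finset.natCast_card_filter]
  symm
  refine Fintype.sum_of_injective (Subtype.val : S.H → G) Subtype.val_injective _ _ ?_ ?_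
  · intro p hp
    rw [if_neg]
    rintro ⟨h1, h2⟩
    refine hp ⟨⟨p, ?_⟩, rfl⟩
    obtain ⟨c, hc⟩ := isConj_iff.mp h1
    obtain ⟨c', hc'⟩ := isConj_iff.mp h2
    have hp2 : p * p = 1 := by rw [← hc, conj_mul, hx]; group
    have hq2 : (p⁻¹ * g) * (p⁻¹ * g) = 1 := by rw [← hc', conj_mul, hy]; group
    have hpi : p⁻¹ = p := inv_eq_of_mul_eq_one_right hp2
    rw [hpi] at hq2
    have e : p * g * p⁻¹ = (g : G)⁻¹ := by
      rw [hpi]
      exact eq_inv_of_mul_eq_one_left (by rw [← hq2]; group)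
    have hm : p * g * p⁻¹ ∈ S.H := e ▸ inv_mem g.2
    refine S.ti_D hg hm ?_
    obtain ⟨i, hi⟩ := S.E.surjective g
    rw [show (⟨_, hm⟩ : S.H) = g⁻¹ from Subtype.ext e, map_inv, ← hi, π_E]
    rw [← hi, π_E] at hg
    exact inD_inv i hg
  · intro p
    simp only [Subgroup.coe_mul, Subgroup.coe_inv]
    split_ifs with h1 h2 <;> simp_all

theorem sum_class [Fintype S.H] (b : Bool) (f : S.H → ℂ) :
    ∑ p : S.H, f p * (open scoped Classical in if IsConj (S.inv b) (p : G) then 1 else 0) =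
      ∑ i ∈ univ.filter (fun i : Idx => cl (enum i) = invCl b), f (S.E i) := by
  classical
  rw [S.sum_H, sum_filter]
  refine sum_congr rfl fun i _ => ?_
  simp only [S.isConj_inv_iff]
  split_ifs <;> simp

theorem sum_F_count [Fintype S.H] (w : Fin 6) (x y : Bool) :
    ∑ g : S.H, S.F w g * count (S.inv x) (S.inv y) (g : G) = (pairSum w x y : ℂ) / 2 := by
  classical
  have h : ∀ g : S.H, S.F w g * count (S.inv x) (S.inv y) (g : G) =
      ∑ p : S.H, (if IsConj (S.inv x) (p : G) then 1 else 0) *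
        (S.F w g * if IsConj (S.inv y) ((p⁻¹ * g : S.H) : G) then 1 else 0) := by
    intro g
    by_cases hg : inD (S.π g)
    · rw [S.count_eq_sum (S.inv_mul_self x) (S.inv_mul_self y) hg, mul_sum]
      exact sum_congr rfl fun p _ => by ring
    · simp [S.F_eq_zero w hg]
  simp only [h]
  rw [sum_comm]
  have h2 : ∀ p : S.H, ∑ g : S.H, (if IsConj (S.inv x) (p : G) then (1 : ℂ) else 0) *
      (S.F w g * if IsConj (S.inv y) ((p⁻¹ * g : S.H) : G) then 1 else 0) =
      (∑ q : S.H, S.F w (p * q) * if IsConj (S.inv y) (q : G) then 1 else 0) *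
        (if IsConj (S.inv x) (p : G) then 1 else 0) := by
    intro p
    rw [← mul_sum, mul_comm, ← Equiv.sum_comp (Equiv.mulLeft p)]
    simp
  simp only [h2]
  rw [S.sum_class x]
  simp only [S.sum_class y]
  have h3 : ∀ i j, S.F w (S.E i * S.E j) = ev2 (tab w (cl (enum i * enum j))) := fun i j => by
    rw [F, map_mul, π_E, π_E]
  simp only [h3, sum_ev2]
  rw [test_pairSum]
  simp [ev2]

/-- The reciprocal of a class size, times a normalising constant. -/
noncomputable def iv (b : Bool) : ℂ :=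
  ((Subgroup.centralizer ({S.inv b} : Set G)).index : ℂ)⁻¹

theorem iv_ne_zero (b : Bool) : S.iv b ≠ 0 :=
  inv_ne_zero (Nat.cast_ne_zero.mpr Subgroup.FiniteIndex.index_ne_zero)

/-- The bilinear form of two classes. -/
noncomputable def Q (x y : Bool) (v : IrrCharacter G → ℤ) : ℂ :=
  eval (fun χ => (χ : G → ℂ) (S.inv x) * (χ : G → ℂ) (S.inv y) / (χ : G → ℂ) 1) v

theorem Q_coef (w : Fin 6) (x y : Bool) :
    S.Q x y (S.coef w) = (Nat.card G : ℂ) * S.iv x * S.iv y * (pairSum w x y : ℂ) / 1296 := by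
  classical
  haveI := Fintype.ofFinite S.H
  have hcount : ∀ z, count (S.inv x) (S.inv y) z = (Nat.card G : ℂ)⁻¹ * ∑ χ : IrrCharacter G,
      (χ : G → ℂ) 1 * (centralChar (χ : G → ℂ) (S.inv x) * centralChar (χ : G → ℂ) (S.inv y)) *
        conj ((χ : G → ℂ) z) := fun z => by
    rw [← H84.coeff_classSum_mul_eq, H84.coeff_classSum_mul, count]
  have h1 : classInner (S.ind w) (count (S.inv x) (S.inv y)) =
      (648 : ℂ)⁻¹ * ((pairSum w x y : ℂ) / 2) := by
    rw [ind, classInner_indFun_left _ _ _ (isClassFunction_count _ _), classInner, S.card_H,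
      ← S.sum_F_count w x y]
    refine congrArg _ (sum_congr rfl fun g _ => ?_)
    simp [count]
  have h2 : classInner (S.ind w) (count (S.inv x) (S.inv y)) =
      (Nat.card G : ℂ)⁻¹ * ∑ χ : IrrCharacter G,
      (χ : G → ℂ) 1 * (centralChar (χ : G → ℂ) (S.inv x) * centralChar (χ : G → ℂ) (S.inv y)) *
        (S.coef w χ : ℂ) := by
    simp only [← S.coef_spec, classInner]
    have hr : ∀ z, S.ind w z * conj (count (S.inv x) (S.inv y) z) =
        S.ind w z * count (S.inv x) (S.inv y) z := fun z => by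
      simp [count]
    simp only [hr]
    simp only [hcount, mul_sum]
    rw [sum_comm]
    exact sum_congr rfl fun χ _ => sum_congr rfl fun z _ => by ring
  rw [h1] at h2
  set ix : ℂ := ((Subgroup.centralizer ({S.inv x} : Set G)).index : ℂ) with hix
  set iy : ℂ := ((Subgroup.centralizer ({S.inv y} : Set G)).index : ℂ) with hiy
  have h3 : ∀ χ : IrrCharacter G, (χ : G → ℂ) 1 * (centralChar (χ : G → ℂ) (S.inv x) *
      centralChar (χ : G → ℂ) (S.inv y)) * (S.coef w χ : ℂ) =
      (ix * iy) * ((S.coef w χ : ℂ) *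
        ((χ : G → ℂ) (S.inv x) * (χ : G → ℂ) (S.inv y) / (χ : G → ℂ) 1)) := by
    intro χ
    have := CharBasic.IsIrr.one_ne_zero χ.2
    simp only [centralChar, ← hix, ← hiy]
    field_simp
  simp only [h3, ← mul_sum] at h2
  have hxn : ix ≠ 0 := Nat.cast_ne_zero.mpr Subgroup.FiniteIndex.index_ne_zero
  have hyn : iy ≠ 0 := Nat.cast_ne_zero.mpr Subgroup.FiniteIndex.index_ne_zero
  have hG := card_ne_zero_complex G
  rw [Q, eval, iv, iv, ← hix, ← hiy]
  field_simp at h2 ⊢
  linear_combination -h2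

theorem eval_neg (φ : IrrCharacter G → ℂ) (v : IrrCharacter G → ℤ) :
    eval φ (-v) = -eval φ v := by
  simp [eval, sum_neg_distrib]

theorem eval_sub (φ : IrrCharacter G → ℂ) (v v' : IrrCharacter G → ℤ) :
    eval φ (v - v') = eval φ v - eval φ v' := by
  rw [sub_eq_add_neg, eval_add, eval_neg, sub_eq_add_neg]

theorem linear_coef (w : Fin 6) {y : G} (hy : y * y = 1) :
    eval (fun χ => (χ : G → ℂ) y) (S.coef w) = 0 := by
  rw [← S.ind_eq_zero w hy, ← S.sum_coef_apply]; rfl

theorem quot_vec [DecidableEq (IrrCharacter G)] (x y : Bool) (u : IrrCharacter G × ℤˣ) :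
    S.Q x y (vec u) = val (S.inv x) u * val (S.inv y) u / val 1 u := by
  rw [Q, eval_vec]
  rcases Int.units_eq_one_or u.2 with h | h <;> simp [val, h] <;> ring

theorem pair_form {δ δ' τ σ r a g : ℂ} (hr : r ≠ 0) (ha : a ≠ 0) (hg : g ≠ 0)
    (hs : r + a + g = 0) :
    (δ + τ * r) * (δ' + σ * r) / r + τ * a * (σ * a) / a + (-δ + τ * g) * (-δ' + σ * g) / g =
      δ * δ' / r + δ * δ' / g := by
  obtain rfl : a = -r - g := by linear_combination hs
  field_simp
  ring

theorem quad_form {η η' δ₁ δ₁' δ₂ δ₂' τ τ' d₁ d₂ d₃ : ℂ} (h1 : d₁ ≠ 0) (h2 : d₂ ≠ 0) (h3 : d₃ ≠ 0)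
    (hs : 1 + d₁ + d₂ + d₃ = 0) (hη : η = 1 - τ) (hη' : η' = 1 - τ') :
    1 + (δ₁ + τ * d₁) * (δ₁' + τ' * d₁) / d₁ + (δ₂ + τ * d₂) * (δ₂' + τ' * d₂) / d₂ +
        (-1 - (δ₁ + τ * d₁) - (δ₂ + τ * d₂)) * (-1 - (δ₁' + τ' * d₁) - (δ₂' + τ' * d₂)) / d₃ =
      η * η' + δ₁ * δ₁' / d₁ + δ₂ * δ₂' / d₂ + (η + δ₁ + δ₂) * (η' + δ₁' + δ₂') / d₃ := by
  obtain rfl : d₃ = -1 - d₁ - d₂ := by linear_combination hs
  subst hη hη'
  field_simp
  ring

/-- One of the exceptional characters has degree two, and the first involution in its kernel. -/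
theorem exists_degree_two : ∃ χ : IrrCharacter G,
    (χ : G → ℂ) 1 = 2 ∧ (χ : G → ℂ) (S.inv false) = 2 ∧ S.coef 0 χ = 1 := by
  classical
  obtain ⟨R, A, P, Xu, Yu, Z, hθ, hφ, hq, hR, hb⟩ := S.data.exists_shape.some
  simp only [data] at hθ hφ hq hR hb
  set N : ℂ := (Nat.card G : ℂ) with hN
  have hN0 : N ≠ 0 := card_ne_zero_complex G
  set it := S.iv false with hit
  set is := S.iv true with his
  have it0 : it ≠ 0 := S.iv_ne_zero false
  have is0 : is ≠ 0 := S.iv_ne_zero true
  set U : ℂ := N * it * it with hU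
  set V : ℂ := N * is * is with hV
  set C : ℂ := N * it * is with hC'
  have hU0 : U ≠ 0 := mul_ne_zero (mul_ne_zero hN0 it0) it0
  have hV0 : V ≠ 0 := mul_ne_zero (mul_ne_zero hN0 is0) is0
  have hC0 : C ≠ 0 := mul_ne_zero (mul_ne_zero hN0 it0) is0
  have hUV : C ^ 2 = U * V := by rw [hU, hV, hC']; ring
  set pt : Fin 3 → G := ![1, S.inv false, S.inv true] with hpt
  have hp : ∀ k, pt k * pt k = 1 := by
    intro k; fin_cases k
    · exact mul_one 1
    · exact S.inv_mul_self false
    · exact S.inv_mul_self true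
  have one_val : ∀ y : G, val y ((triv : IrrCharacter G), (1 : ℤˣ)) = 1 := fun y => by
    simp [val, triv]
  set ev' : Fin 3 → IrrCharacter G × ℤˣ → ℂ := fun k u => val (pt k) u with hev
  have lθ : ∀ k, ev' k R + ev' k A + ev' k P = 0 := fun k => by
    have := S.linear_coef 0 (hp k)
    rw [hθ, eval_add, eval_add, eval_vec, eval_vec, eval_vec] at this
    exact this
  have lφ : ∀ k, -ev' k A + ev' k Xu + ev' k Yu = 0 := fun k => by
    have := S.linear_coef 1 (hp k)
    rw [hφ, eval_add, eval_add, eval_neg, eval_vec, eval_vec, eval_vec] at this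
    exact this
  have lq : ∀ k, 1 + ev' k R + ev' k Xu + ev' k Z = 0 := fun k => by
    have := S.linear_coef 2 (hp k)
    rw [hq, eval_add, eval_add, eval_add, eval_vec, eval_vec, eval_vec, eval_vec] at this
    have e1 := one_val (pt k)
    simp only [val] at e1
    rw [e1] at this
    exact this
  set r := ev' 0 R with hr
  set a := ev' 0 A with ha
  set g := ev' 0 P with hg
  set x := ev' 0 Xu with hx
  set y := ev' 0 Yu with hy
  set z := ev' 0 Z with hz
  have nz : ∀ u, ev' 0 u ≠ 0 := fun u => val_one_ne_zero u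
  have hr0 : r ≠ 0 := nz R
  have ha0 : a ≠ 0 := nz A
  have hg0 : g ≠ 0 := nz P
  have hx0 : x ≠ 0 := nz Xu
  have hy0 : y ≠ 0 := nz Yu
  have hz0 : z ≠ 0 := nz Z
  set τ := ev' 1 A / a with hτ
  set σ := ev' 2 A / a with hσ
  have tA : ev' 1 A = τ * a := (div_mul_cancel₀ _ ha0).symm
  have sA : ev' 2 A = σ * a := (div_mul_cancel₀ _ ha0).symm
  have hQ : ∀ w b b', S.Q b b' (S.coef w) =
      N * S.iv b * S.iv b' * (pairSum w b b' : ℂ) / 1296 := fun w b b' => S.Q_coef w b b'
  have qv : ∀ b b' u, S.Q b b' (vec u) =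
      val (S.inv b) u * val (S.inv b') u / val 1 u := fun b b' u => S.quot_vec b b' u
  have q_add : ∀ b b' v v', S.Q b b' (v + v') = S.Q b b' v + S.Q b b' v' := fun b b' v v' =>
    eval_add _ v v'
  have q_sub : ∀ b b' v v', S.Q b b' (v - v') = S.Q b b' v - S.Q b b' v' := fun b b' v v' =>
    eval_sub _ v v'
  have q_neg : ∀ b b' v, S.Q b b' (-v) = -S.Q b b' v := fun b b' v => eval_neg _ v
  have v0 : ∀ u, val 1 u = ev' 0 u := fun u => rfl
  have v1 : ∀ u, val (S.inv false) u = ev' 1 u := fun u => rfl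
  have v2 : ∀ u, val (S.inv true) u = ev' 2 u := fun u => rfl
  -- the second family: proportionality
  have tX : ev' 1 Xu = τ * x := by
    have h := hQ 1 false false
    rw [hφ, q_add, q_add, q_neg, qv, qv, qv] at h
    simp only [v0, v1, ← ha, ← hx, ← hy, pairSum, Matrix.cons_val, Bool.false_eq_true, if_false,
      Int.cast_zero, mul_zero, zero_div] at h
    rw [tA, show ev' 1 Yu = τ * a - ev' 1 Xu by linear_combination lφ 1 + tA] at h
    have hya : y = a - x := by linear_combination lφ 0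
    have h2 : (ev' 1 Xu - τ * x) ^ 2 = 0 := by
      rw [hya] at h
      have : a - x ≠ 0 := hya ▸ hy0
      field_simp at h
      refine (mul_eq_zero.mp (?_ : a * (ev' 1 Xu - τ * x) ^ 2 = 0)).resolve_left ha0
      linear_combination h
    exact sub_eq_zero.mp (pow_eq_zero_iff two_ne_zero |>.mp h2)
  have sR : ev' 2 R = σ * r := by
    have h := hQ 0 true true
    rw [hθ, q_add, q_add, qv, qv, qv] at h
    simp only [v0, v2, ← hr, ← ha, ← hg, pairSum, Matrix.cons_val, if_true, Int.cast_zero,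
      mul_zero, zero_div] at h
    rw [sA, show ev' 2 P = -(σ * a) - ev' 2 R by linear_combination lθ 2 - sA] at h
    have hga : g = -a - r := by linear_combination lθ 0
    have h2 : (ev' 2 R - σ * r) ^ 2 = 0 := by
      rw [hga] at h
      have : -a - r ≠ 0 := hga ▸ hg0
      field_simp at h
      refine (mul_eq_zero.mp (?_ : a * (ev' 2 R - σ * r) ^ 2 = 0)).resolve_left ha0
      linear_combination -h
    exact sub_eq_zero.mp (pow_eq_zero_iff two_ne_zero |>.mp h2)
  set η := 1 - τ with hη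
  set ζ := 1 - σ with hζ
  set δ := ev' 1 R - τ * r with hδ
  set ε := ev' 2 Xu - σ * x with hε
  have tR : ev' 1 R = δ + τ * r := by rw [hδ]; ring
  have sX : ev' 2 Xu = ε + σ * x := by rw [hε]; ring
  have tP : ev' 1 P = -δ + τ * g := by
    linear_combination lθ 1 - tR - tA - τ * lθ 0
  have sP : ev' 2 P = σ * g := by linear_combination lθ 2 - sR - sA - σ * lθ 0
  have tY : ev' 1 Yu = τ * y := by linear_combination lφ 1 + tA - tX - τ * lφ 0
  have sY : ev' 2 Yu = -ε + σ * y := by linear_combination lφ 2 + sA - sX - σ * lφ 0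
  -- the two norm three equations
  have eθ : δ ^ 2 / r + δ ^ 2 / g = 3 * U := by
    have h := hQ 0 false false
    rw [hθ, q_add, q_add, qv, qv, qv] at h
    simp only [v0, v1, ← hr, ← ha, ← hg, tR, tA, tP] at h
    rw [pair_form hr0 ha0 hg0 (lθ 0)] at h
    simp [pairSum] at h
    linear_combination h
  have hya : y + -a + x = 0 := by linear_combination lφ 0
  have eφ : ε ^ 2 / x + ε ^ 2 / y = 3 * V := by
    have h := hQ 1 true true
    rw [hφ, q_add, q_add, q_neg, qv, qv, qv] at h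
    simp only [v0, v2, ← ha, ← hx, ← hy, sA, sX, sY] at h
    have := pair_form (δ := ε) (δ' := ε) (τ := σ) (σ := σ) hx0 (neg_ne_zero.mpr ha0) hy0
      (by linear_combination hya)
    simp [pairSum] at h
    linear_combination h - this
  -- the norm four equations, for a decomposition with two marked parts
  have four : ∀ (w : Fin 6) (u₁ u₂ u₃ : ℂ × ℂ × ℂ) (δ₁ δ₁' δ₂ δ₂' : ℂ),
      u₁.1 ≠ 0 → u₂.1 ≠ 0 → u₃.1 ≠ 0 →
      (∀ b b', S.Q b b' (S.coef w) = 1 +
        (if b then u₁.2.2 else u₁.2.1) * (if b' then u₁.2.2 else u₁.2.1) / u₁.1 +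
        (if b then u₂.2.2 else u₂.2.1) * (if b' then u₂.2.2 else u₂.2.1) / u₂.1 +
        (if b then u₃.2.2 else u₃.2.1) * (if b' then u₃.2.2 else u₃.2.1) / u₃.1) →
      1 + u₁.1 + u₂.1 + u₃.1 = 0 → 1 + u₁.2.1 + u₂.2.1 + u₃.2.1 = 0 →
      1 + u₁.2.2 + u₂.2.2 + u₃.2.2 = 0 →
      u₁.2.1 = δ₁ + τ * u₁.1 → u₁.2.2 = δ₁' + σ * u₁.1 →
      u₂.2.1 = δ₂ + τ * u₂.1 → u₂.2.2 = δ₂' + σ * u₂.1 →
      (η * η + δ₁ * δ₁ / u₁.1 + δ₂ * δ₂ / u₂.1 + (η + δ₁ + δ₂) * (η + δ₁ + δ₂) / u₃.1 =
          U * (pairSum w false false : ℂ) / 1296) ∧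
        (η * ζ + δ₁ * δ₁' / u₁.1 + δ₂ * δ₂' / u₂.1 + (η + δ₁ + δ₂) * (ζ + δ₁' + δ₂') / u₃.1 =
          C * (pairSum w false true : ℂ) / 1296) ∧
        (ζ * ζ + δ₁' * δ₁' / u₁.1 + δ₂' * δ₂' / u₂.1 + (ζ + δ₁' + δ₂') * (ζ + δ₁' + δ₂') / u₃.1 =
          V * (pairSum w true true : ℂ) / 1296) := by
    intro w u₁ u₂ u₃ δ₁ δ₁' δ₂ δ₂' h1 h2 h3 hw s0 s1 s2 e1 e1' e2 e2'
    have e3 : u₃.2.1 = -1 - (δ₁ + τ * u₁.1) - (δ₂ + τ * u₂.1) := by
      linear_combination s1 - e1 - e2
    have e3' : u₃.2.2 = -1 - (δ₁' + σ * u₁.1) - (δ₂' + σ * u₂.1) := by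
      linear_combination s2 - e1' - e2'
    refine ⟨?_, ?_, ?_⟩
    · have h := (hw false false).symm.trans (hQ w false false)
      simp only [Bool.false_eq_true, if_false, e1, e2, e3] at h
      rwa [quad_form h1 h2 h3 s0 hη hη] at h
    · have h := (hw false true).symm.trans (hQ w false true)
      simp only [Bool.false_eq_true, if_false, if_true, e1, e2, e3, e1', e2', e3'] at h
      rwa [quad_form h1 h2 h3 s0 hη hζ] at h
    · have h := (hw true true).symm.trans (hQ w true true)
      simp only [if_true, e1', e2', e3'] at h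
      rwa [quad_form h1 h2 h3 s0 hζ hζ] at h
  have vb : ∀ b u, val (S.inv b) u = if b then ev' 2 u else ev' 1 u := fun b u => by
    cases b <;> rfl
  obtain ⟨q11, q12, q22⟩ := four 2 (r, ev' 1 R, ev' 2 R) (x, ev' 1 Xu, ev' 2 Xu)
    (z, ev' 1 Z, ev' 2 Z) δ 0 0 ε hr0 hx0 hz0
    (fun b b' => by
      rw [hq, q_add, q_add, q_add, qv, qv, qv, qv, one_val, one_val, one_val, vb, vb, vb, vb, vb, vb]
      simp [v0, ← hr, ← hx, ← hz])
    (lq 0) (lq 1) (lq 2) tR (by rw [sR, zero_add]) (by rw [tX, zero_add]) sX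
  simp only [mul_zero, zero_div, add_zero, zero_add] at q11 q12 q22
  simp [pairSum] at q11 q12 q22
  have hδ0 : δ ≠ 0 := fun h => by
    rw [h] at eθ
    exact hU0 (by linear_combination -(1 / 3 : ℂ) * eθ)
  rcases hb with ⟨Wu, hb⟩ | hb | hb | ⟨Vu, Wu, hb, h4⟩ | ⟨Wu, hb, h5⟩
  · -- the coherent case
    have lb : ∀ k, 1 - ev' k P + ev' k Yu + ev' k Wu = 0 := fun k => by
      have := S.linear_coef 3 (hp k)
      rw [hb, eval_add, eval_add, eval_sub, eval_vec, eval_vec, eval_vec, eval_vec] at this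
      have e1 := one_val (pt k)
      simp only [val] at e1
      rw [e1] at this
      exact this
    have hw0 : ev' 0 Wu ≠ 0 := nz Wu
    obtain ⟨b11, b12, b22⟩ := four 3 (-g, -ev' 1 P, -ev' 2 P) (y, ev' 1 Yu, ev' 2 Yu)
      (ev' 0 Wu, ev' 1 Wu, ev' 2 Wu) δ 0 0 (-ε) (neg_ne_zero.mpr hg0) hy0 hw0
      (fun b b' => by
        rw [hb, q_add, q_add, q_sub, qv, qv, qv, qv, one_val, one_val, one_val, vb, vb, vb, vb,
          vb, vb]
        cases b <;> cases b' <;> simp [v0, ← hg, ← hy] <;> ring)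
      (by linear_combination lb 0) (by linear_combination lb 1) (by linear_combination lb 2)
      (by simp only; linear_combination -tP) (by simp only; linear_combination -sP)
      (by simp only; linear_combination tY) sY
    simp only [mul_zero, zero_div, add_zero, zero_add] at b11 b12 b22
    simp [pairSum] at b11 b12 b22
    have hD0 : 1 + r + x ≠ 0 := fun h => hz0 (by linear_combination lq 0 - h)
    have hD20 : 1 + y + -g ≠ 0 := fun h => hw0 (by linear_combination lb 0 - h)
    have hz' : z = -(1 + r + x) := by linear_combination lq 0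
    have hw' : ev' 0 Wu = -(1 + y + -g) := by linear_combination lb 0
    rw [hz'] at q11 q12 q22
    rw [hw'] at b11 b12 b22
    field_simp at q11 q12 q22 b11 b12 b22 eθ eφ
    let n : ℤ := 1 + ((R.2 : ℤ) * ThreeCube.Setting.deg R.1) +
      ((Xu.2 : ℤ) * ThreeCube.Setting.deg Xu.1)
    have castv : ∀ u : IrrCharacter G × ℤˣ, ev' 0 u = (((u.2 : ℤ) * deg u.1 : ℤ) : ℂ) := fun u => by
      show val 1 u = _
      rw [val, deg_spec]; push_cast; rfl
    let sys : Sys ℂ :=
      { η := η, δ := δ, ζ := ζ, ε := ε, U := U, W := V, C := C, r := r, c := -g, a := a, x := x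
        y := y, D := 1 + r + x, D2 := 1 + y + -g
        ha := by linear_combination -hya
        hc := by linear_combination -(lθ 0)
        hD := rfl
        hD2 := rfl
        hU := hU0, hW := hV0, hC := hC0, hr0 := hr0, hc0 := neg_ne_zero.mpr hg0, ha0 := ha0
        hx0 := hx0, hy0 := hy0, hD0 := hD0, hD20 := hD20, hUW := hUV
        hθ := by linear_combination -eθ
        hφ := by linear_combination eφ - ε ^ 2 * hya
        q11 := by linear_combination q11 / 1296
        q12 := by linear_combination q12 / 1296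
        q22 := by linear_combination q22 / 1296
        b11 := by linear_combination -b11 / 648
        b12 := by linear_combination b12 / 648
        b22 := by linear_combination b22 / 648
        hDint := by
          have e : (1 + r + x : ℂ) = (n : ℂ) := by
            rw [hr, hx, castv, castv]; push_cast [n]; rfl
          rw [e]
          have h : n ^ 4 + 5 * n ^ 2 + 10 * n + 8 ≠ 0 := by
            nlinarith [sq_nonneg (n + 1), sq_nonneg (n ^ 2)]
          exact_mod_cast h
        hyint := by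
          rw [hy, castv]
          have h : 3 * ((Yu.2 : ℤ) * deg Yu.1) ≠ 1 := by omega
          exact_mod_cast h }
    obtain ⟨h2, hd2⟩ := sys.conclusion
    change r = 2 at h2
    change δ = 2 * η at hd2
    have hsign : (R.2 : ℤ) = 1 := by
      rw [hr, castv] at h2
      have h' : (R.2 : ℤ) * deg R.1 = 2 := by exact_mod_cast h2
      have := deg_pos R.1
      rcases Int.units_eq_one_or R.2 with e | e <;> simp [e] at h' ⊢
      omega
    refine ⟨R.1, ?_, ?_, ?_⟩
    · rw [hr] at h2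
      simpa [hev, hpt, val, hsign] using h2
    · have : ev' 1 R = 2 := by rw [tR, h2, hd2, hη]; ring
      simpa [hev, hpt, val, hsign] using this
    · rw [SignedUnits.dot_vec] at hR
      rw [hsign, mul_one] at hR
      exact hR
  · exfalso
    have lb : ∀ k, 1 - ev' k R + ev' k Yu + ev' k Z = 0 := fun k => by
      have := S.linear_coef 3 (hp k)
      rw [hb, eval_add, eval_add, eval_sub, eval_vec, eval_vec, eval_vec, eval_vec] at this
      have e1 := one_val (pt k)
      simp only [val] at e1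
      rw [e1] at this
      exact this
    exact hδ0 (by linear_combination (1 / 2 : ℂ) * (lq 1) - (1 / 2 : ℂ) * (lb 1) - tR -
      (1 / 2 : ℂ) * tX + (1 / 2 : ℂ) * tY - (τ / 2) * (lq 0) + (τ / 2) * (lb 0))
  · exfalso
    have lb : ∀ k, 1 - ev' k P + ev' k Xu - ev' k Z = 0 := fun k => by
      have := S.linear_coef 3 (hp k)
      rw [hb, eval_sub, eval_add, eval_sub, eval_vec, eval_vec, eval_vec, eval_vec] at this
      have e1 := one_val (pt k)
      simp only [val] at e1
      rw [e1] at this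
      exact this
    have hηδ : η + δ = 0 := by
      linear_combination (1 / 2 : ℂ) * lq 1 + (1 / 2 : ℂ) * lb 1 - (1 / 2 : ℂ) * tR +
        (1 / 2 : ℂ) * tP - tX - (τ / 2) * lq 0 - (τ / 2) * lb 0 + hη
    obtain ⟨b11, -, -⟩ := four 3 (-g, -ev' 1 P, -ev' 2 P) (x, ev' 1 Xu, ev' 2 Xu)
      (-z, -ev' 1 Z, -ev' 2 Z) δ 0 0 ε (neg_ne_zero.mpr hg0) hx0 (neg_ne_zero.mpr hz0)
      (fun b b' => by
        rw [hb, q_sub, q_add, q_sub, qv, qv, qv, qv, one_val, one_val, one_val, vb, vb, vb, vb,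
          vb, vb]
        cases b <;> cases b' <;> simp [v0, ← hg, ← hx, ← hz] <;> ring)
      (by linear_combination lb 0) (by linear_combination lb 1) (by linear_combination lb 2)
      (by simp only; linear_combination -tP) (by simp only; linear_combination -sP)
      (by simp only; linear_combination tX) sX
    simp only [mul_zero, zero_div, add_zero, zero_add, hηδ, zero_mul] at b11 q11
    simp [pairSum, div_neg] at b11
    exact hU0 (by linear_combination (2 / 3 : ℂ) * (q11 - b11) - (2 / 3 : ℂ) * eθ)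
  · exfalso
    have lb : ∀ k, 1 - ev' k A + ev' k Vu + ev' k Wu = 0 := fun k => by
      have := S.linear_coef 3 (hp k)
      rw [hb, eval_add, eval_add, eval_sub, eval_vec, eval_vec, eval_vec, eval_vec] at this
      have e1 := one_val (pt k)
      simp only [val] at e1
      rw [e1] at this
      exact this
    rcases h4 with h4 | h4 | h4
    · have l4 : ∀ k, ev' k A + ev' k Vu = 0 := fun k => by
        have := S.linear_coef 4 (hp k)
        rw [h4, eval_add, eval_vec, eval_vec] at this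
        exact this
      have hv0 : ev' 0 Vu ≠ 0 := nz Vu
      obtain ⟨b11, b12, b22⟩ := four 3 (-a, -ev' 1 A, -ev' 2 A) (ev' 0 Vu, ev' 1 Vu, ev' 2 Vu)
        (ev' 0 Wu, ev' 1 Wu, ev' 2 Wu) 0 0 0 0 (neg_ne_zero.mpr ha0) hv0 (nz Wu)
        (fun b b' => by
          rw [hb, q_add, q_add, q_sub, qv, qv, qv, qv, one_val, one_val, one_val, vb, vb, vb, vb,
            vb, vb]
          cases b <;> cases b' <;> simp [v0, ← ha] <;> ring)
        (by linear_combination lb 0) (by linear_combination lb 1) (by linear_combination lb 2)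
        (by simp only; linear_combination -tA) (by simp only; linear_combination -sA)
        (by simp only; linear_combination l4 1 - tA - τ * l4 0)
        (by simp only; linear_combination l4 2 - sA - σ * l4 0)
      simp [pairSum] at b11 b12 b22
      have : (9 / 2 : ℂ) * (U * V) = 0 := by
        linear_combination -(3 / 2 * U) * b22 -
          (ζ * ζ + ζ * ζ / ev' 0 Wu) * b11 + (η * ζ + η * ζ / ev' 0 Wu + 3 / 2 * C) * b12 +
          (9 / 4 : ℂ) * hUV
      simp [hU0, hV0] at this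
    · have l4 : ∀ k, ev' k R - ev' k Xu = 0 := fun k => by
        have := S.linear_coef 4 (hp k)
        rw [h4, eval_sub, eval_vec, eval_vec] at this
        exact this
      exact hδ0 (by linear_combination l4 1 - tR + tX - τ * l4 0)
    · have l4 : ∀ k, ev' k P - ev' k Yu = 0 := fun k => by
        have := S.linear_coef 4 (hp k)
        rw [h4, eval_sub, eval_vec, eval_vec] at this
        exact this
      exact hδ0 (by linear_combination -(l4 1) + tP - tY + τ * l4 0)
  · exfalso
    have lb : ∀ k, 1 - ev' k R + ev' k Xu + ev' k Wu = 0 := fun k => by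
      have := S.linear_coef 3 (hp k)
      rw [hb, eval_add, eval_add, eval_sub, eval_vec, eval_vec, eval_vec, eval_vec] at this
      have e1 := one_val (pt k)
      simp only [val] at e1
      rw [e1] at this
      exact this
    obtain ⟨-, -, b22⟩ := four 3 (-r, -ev' 1 R, -ev' 2 R) (x, ev' 1 Xu, ev' 2 Xu)
      (ev' 0 Wu, ev' 1 Wu, ev' 2 Wu) (-δ) 0 0 ε (neg_ne_zero.mpr hr0) hx0 (nz Wu)
      (fun b b' => by
        rw [hb, q_add, q_add, q_sub, qv, qv, qv, qv, one_val, one_val, one_val, vb, vb, vb, vb,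
          vb, vb]
        cases b <;> cases b' <;> simp [v0, ← hr, ← hx] <;> ring)
      (by linear_combination lb 0) (by linear_combination lb 1) (by linear_combination lb 2)
      (by simp only; linear_combination -tR) (by simp only; linear_combination -sR)
      (by simp only; linear_combination tX) sX
    have hζε : ζ + ε = 0 := by
      rcases h5 with h5 | h5
      · have l5 : ∀ k, -ev' k R + ev' k Z = 0 := fun k => by
          have := S.linear_coef 5 (hp k)
          rw [h5, eval_add, eval_neg, eval_vec, eval_vec] at this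
          exact this
        linear_combination lq 2 - sR - sX - l5 2 - sR - σ * lq 0 + σ * l5 0 + hζ
      · have l5 : ∀ k, -ev' k P + ev' k Wu = 0 := fun k => by
          have := S.linear_coef 5 (hp k)
          rw [h5, eval_add, eval_neg, eval_vec, eval_vec] at this
          exact this
        linear_combination lb 2 + sR - sX - l5 2 - sP - σ * lb 0 + σ * l5 0 + hζ
    simp [hζε, pairSum] at b22
    rw [hζε] at q22
    simp only [zero_mul, zero_div, add_zero] at q22
    exact hV0 (by linear_combination (2 / 3 : ℂ) * (b22 - q22))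

/-! ### Conclusion -/

theorem top_of_setting : S.H = ⊤ := by
  classical
  haveI := Fintype.ofFinite S.H
  obtain ⟨χ, hχ1, hχt, hc⟩ := S.exists_degree_two
  obtain ⟨N, hN, hker, hmul⟩ := CharBasic.IsChar.exists_kernel (CharBasic.IsIrr.isCharacter χ.2)
  have htN : S.inv false ∈ N := (hker _).mpr (by rw [hχt, hχ1])
  -- the coordinates of the intersection with the kernel
  let K : Subgroup M := (N.comap S.H.subtype).comap S.ψ.toMonoidHom
  haveI : K.Normal := inferInstance
  have hK : ∀ x : M, x ∈ K ↔ (S.ψ x : G) ∈ N := fun x => Iff.rfl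
  have htK : (⟨vv 2, enum_mem _⟩ : M) ∈ K := htN
  have hrot : ∀ a, (⟨enum (rot a), enum_mem _⟩ : M) ∈ K := by
    intro a
    have hcom : ∀ b, ∃ hb : comT b ∈ M, (⟨comT b, hb⟩ : M) ∈ K := fun b => by
      refine ⟨mul_mem (mul_mem (mul_mem (enum_mem _) (enum_mem _)) (inv_mem (enum_mem _)))
        (inv_mem (enum_mem _)), ?_⟩
      have h2 : (⟨enum (rot b), enum_mem _⟩ : M) * (⟨vv 2, enum_mem _⟩ : M)⁻¹ *
          (⟨enum (rot b), enum_mem _⟩ : M)⁻¹ ∈ K := Subgroup.Normal.conj_mem inferInstance _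
        (inv_mem htK) _
      convert mul_mem htK h2 using 1
      ext1
      simp [comT, mul_assoc]
    obtain ⟨b, c, e⟩ := rot_comT a
    obtain ⟨hb, hb'⟩ := hcom b
    obtain ⟨hc', hc''⟩ := hcom c
    have h3 := mul_mem hb' (Subgroup.Normal.conj_mem inferInstance _ hc''
      (⟨pp (.r 1), enum_mem _⟩ : M))
    convert h3 using 1
    exact Subtype.ext e
  have hvv : ∀ k, (⟨vv k, enum_mem _⟩ : M) ∈ K := by
    intro k
    rcases vv_tt k with e | ⟨j, e⟩
    · convert one_mem K using 1; exact Subtype.ext e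
    · convert Subgroup.Normal.conj_mem inferInstance _ htK
        ((⟨pp (.r 1), enum_mem _⟩ : M) ^ (j : ℕ)) using 1
      exact Subtype.ext e
  have hdiag : ∀ i, (⟨enum i, enum_mem i⟩ : M) ∈ K ↔ (⟨pp i.2, enum_mem _⟩ : M) ∈ K := by
    intro i
    have h : (⟨enum i, enum_mem i⟩ : M) = ⟨enum (rot (avec (enum i) 0, avec (enum i) 1,
        avec (enum i) 2)), enum_mem _⟩ * ⟨vv i.1.2, enum_mem _⟩ * ⟨pp i.2, enum_mem _⟩ :=
      Subtype.ext (enum_three i)
    rw [h, Subgroup.mul_mem_cancel_left _ (mul_mem (hrot _) (hvv _))]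
  have hone : ∀ i : Idx, i.2 = 1 → (⟨enum i, enum_mem i⟩ : M) ∈ K := fun i hi => by
    rw [hdiag, hi]
    convert one_mem K using 1; exact Subtype.ext pp_one
  -- the intersection is diagonal
  have hout : ∀ i, (⟨enum i, enum_mem i⟩ : M) ∈ K → i.2 = 1 := by
    by_contra hne
    push Not at hne
    obtain ⟨i, hiK, hi1⟩ := hne
    rw [hdiag] at hiK
    have hgen : (⟨pp (.r 1), enum_mem _⟩ : M) ∈ K := by
      have even : ∀ g, isRef g = false → g ≠ 1 → (⟨pp g, enum_mem _⟩ : M) ∈ K →
          (⟨pp (.r 1), enum_mem _⟩ : M) ∈ K := by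
        intro g hg hg1 hgK
        rcases pp_rot_gen g hg hg1 with e | e
        · convert hgK using 1; exact Subtype.ext e
        · convert mul_mem hgK hgK using 1; exact Subtype.ext e
      cases hr : isRef i.2
      · exact even _ hr hi1 hiK
      · obtain ⟨j, ej, hj, hj1⟩ := pp_ref_comm _ hr
        refine even _ hj hj1 ((hdiag j).mp ?_)
        have h2 := mul_mem hiK (Subgroup.Normal.conj_mem inferInstance _ (inv_mem hiK)
          (⟨pp (.r 1), enum_mem _⟩ : M))
        convert h2 using 1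
        ext1
        simp [ej, mul_assoc]
    have heven : ∀ j, isRef j.2 = false → (⟨enum j, enum_mem j⟩ : M) ∈ K := by
      intro j hj
      rw [hdiag]
      obtain ⟨n, hn⟩ := pp_even _ hj
      convert pow_mem hgen (n : ℕ) using 1
      exact Subtype.ext hn
    have hval : ∀ j, (χ : G → ℂ) (S.E j : G) =
        if isRef j.2 then (χ : G → ℂ) (S.ψ ⟨pp (.sr 0), enum_mem _⟩ : G) else 2 := by
      intro j
      have hEj : S.E j = S.ψ ⟨enum j, enum_mem j⟩ := rfl
      split_ifs with hr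
      · obtain ⟨j', e, hj'⟩ := pp_odd j hr
        rw [hEj, show (⟨enum j, enum_mem j⟩ : M) = ⟨enum j', enum_mem j'⟩ * ⟨pp (.sr 0), enum_mem _⟩
          from Subtype.ext e, map_mul, Subgroup.coe_mul]
        exact CharBasic.IsChar.eq_one_mul (CharBasic.IsIrr.isCharacter χ.2)
          ((hker _).mp (heven j' hj')) _
      · rw [hEj]
        exact ((hker _).mp (heven j (by simpa using hr))).trans hχ1
    have h := S.coef_spec 0 χ
    rw [hc, ind, classInner_indFun_left _ _ _
      (CharBasic.IsChar.isClassFunction (CharBasic.IsIrr.isCharacter χ.2)), classInner,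
      S.card_H, S.sum_H] at h
    have h0 : ∀ j : Idx, S.F 0 (S.E j) * conj ((χ : G → ℂ) (S.E j : G)) =
        ev2 (if isRef j.2 then (0, 0) else test 0 j) * 2 +
          (ev2 (test 0 j) - ev2 (if isRef j.2 then (0, 0) else test 0 j)) *
            conj ((χ : G → ℂ) (S.ψ ⟨pp (.sr 0), enum_mem _⟩ : G)) := by
      intro j
      rw [F_E, hval]
      split_ifs <;> simp [ev2, map_ofNat]
    simp only [h0, sum_add_distrib, ← sum_mul, sum_sub_distrib, sum_ev2, test_sum_even] at h
    have hz : ev2 (∑ j : Idx, test 0 j) = 0 := by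
      rw [ev2, Prod.fst_sum, Prod.snd_sum, (test_sum 0).1, (test_sum 0).2]; simp
    rw [hz] at h
    simp [ev2] at h
  -- the smaller setting inside the kernel
  let ι : ThreeCube.Ev →* M :=
    { toFun := fun v => ⟨SemidirectProduct.inl v.1, by
        obtain ⟨j, hj⟩ := ThreeCube.enum_surj v.1 v.2
        rw [← hj, ← inl_enum]; exact enum_mem _⟩
      map_one' := Subtype.ext (map_one _)
      map_mul' := fun u v => Subtype.ext (map_mul _ _ _) }
  have hι : ∀ v, ι v ∈ K := fun v => by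
    obtain ⟨j, hj⟩ := ThreeCube.enum_surj v.1 v.2
    convert hone (j, 1) rfl using 1
    refine Subtype.ext ?_
    show SemidirectProduct.inl v.1 = enum (j, 1)
    rw [inl_enum, hj]
  let f : ThreeCube.Ev →* N :=
    { toFun := fun v => ⟨(S.ψ (ι v) : G), hι v⟩
      map_one' := Subtype.ext (by simp)
      map_mul' := fun u v => Subtype.ext (by simp) }
  have hf : Function.Injective f := fun u v e => by
    have e1 : S.ψ (ι u) = S.ψ (ι v) := Subtype.ext (congrArg (fun p : N => (p : G)) e)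
    exact Subtype.ext (SemidirectProduct.inl_injective (congrArg Subtype.val (S.ψ.injective e1)))
  have hrange : f.range = S.H.subgroupOf N := by
    refine le_antisymm ?_ ?_
    · rintro _ ⟨v, rfl⟩
      exact (S.ψ (ι v)).2
    · intro n hn
      obtain ⟨i, hi⟩ := S.E.surjective ⟨(n : G), hn⟩
      have hEi : S.E i = S.ψ ⟨enum i, enum_mem i⟩ := rfl
      have h1 := hout i (by rw [hK, ← hEi, hi]; exact n.2)
      refine ⟨⟨ThreeCube.enum i.1, ThreeCube.enum_mem _⟩, Subtype.ext ?_⟩
      show (S.ψ (ι _) : G) = n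
      rw [show ι ⟨ThreeCube.enum i.1, ThreeCube.enum_mem _⟩ = ⟨enum i, enum_mem i⟩ from
        Subtype.ext (by
          show SemidirectProduct.inl (ThreeCube.enum i.1) = enum i
          rw [← inl_enum]; exact congrArg enum (Prod.ext rfl h1.symm)), ← hEi, hi]
  have hJN : S.J ≤ N := by
    intro j hj
    have hjH := S.J_le hj
    obtain ⟨a, ha⟩ := inJ_rot (S.π_mem ⟨j, hjH⟩) ((S.mem_J ⟨j, hjH⟩).mp hj)
    have h := hrot a
    rw [hK] at h
    have : (⟨j, hjH⟩ : S.H) = S.ψ ⟨enum (rot a), enum_mem _⟩ := S.π_inj (by rw [ha, π_ψ])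
    rwa [← this] at h
  have hJcard : Nat.card S.J = 27 := by
    have e : Nat.card S.J = Nat.card (Fin 3 × Fin 3 × Fin 3) := by
      refine (Nat.card_congr (Equiv.ofBijective
        (fun a => (⟨S.el (enum (rot a)) (enum_mem _), (S.el_mem_J _).mpr (rot_inJ a)⟩ : S.J))
        ⟨fun a b h => ?_, fun j => ?_⟩)).symm
      · have h' : enum (rot a) = enum (rot b) :=
          (S.el_congr (enum_mem _) (enum_mem _)).mp (congrArg (fun p : S.J => (p : G)) h)
        have h'' := congrArg index h'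
        rw [index_enum, index_enum] at h''
        exact congrArg (fun i : Idx => i.1.1) h''
      · obtain ⟨a, ha⟩ := inJ_rot (S.π_mem ⟨j, S.J_le j.2⟩) ((S.mem_J ⟨j, S.J_le j.2⟩).mp j.2)
        refine ⟨a, Subtype.ext ?_⟩
        exact congrArg (fun p : S.H => (p : G)) (S.π_inj (a₁ := S.ψ ⟨enum (rot a), enum_mem _⟩)
          (a₂ := ⟨j, S.J_le j.2⟩) (by rw [π_ψ, ha]))
    rw [e, Nat.card_eq_fintype_card]; rfl
  let T : Subgroup N := S.J.subgroupOf N
  have hTH : T ≤ S.H.subgroupOf N := fun n hn => S.J_le hn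
  have hNT : Subgroup.normalizer (T : Set N) = S.H.subgroupOf N := by
    refine le_antisymm (fun n hn => ?_) (fun n hn => ?_)
    · refine Subgroup.mem_subgroupOf.mpr (S.ti (S.e_mem 0) (S.e_ne 0) ?_)
      exact Subgroup.mem_subgroupOf.mp ((Subgroup.mem_normalizer_iff.mp hn
        ⟨S.e 0, hJN (S.e_mem 0)⟩).mp (Subgroup.mem_subgroupOf.mpr (S.e_mem 0)))
    · rw [Subgroup.mem_normalizer_iff]
      intro m
      have hnH : (n : G) ∈ S.H := hn
      have key : ∀ g ∈ S.H, ∀ j ∈ S.J, g * j * g⁻¹ ∈ S.J := fun g hg j hj =>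
        S.conj_mem_J hg hj
      constructor
      · exact fun hm => key _ hnH _ hm
      · intro hm
        have := key _ (inv_mem hnH) _ hm
        show (m : G) ∈ S.J
        simpa [mul_assoc] using this
  let sub : ThreeCube.Setting N :=
    { H := S.H.subgroupOf N
      T := T
      ψ := (MonoidHom.ofInjective hf).trans (MulEquiv.subgroupCongr hrange)
      hTH := hTH
      hT := by rw [Nat.card_congr (Subgroup.subgroupOfEquivOfLe hJN).toEquiv, hJcard]
      hN := hNT
      hC := fun t ht ht1 g hg => S.hC t ht (fun e => ht1 (Subtype.ext e))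
        (Subgroup.mem_centralizer_singleton_iff.mpr
          (congrArg Subtype.val (Subgroup.mem_centralizer_singleton_iff.mp hg))) }
  haveI := Fintype.ofFinite N
  have hNH : N ≤ S.H := Subgroup.subgroupOf_eq_top.mp sub.top_of_setting
  refine eq_top_iff.mpr fun g _ => S.ti (S.e_mem 0) (S.e_ne 0) ?_
  have hm : g * S.e 0 * g⁻¹ ∈ N := hN.conj_mem _ (hJN (S.e_mem 0)) g
  refine sub.mem_T_of_cube (x := ⟨_, hm⟩) (hNH hm) (Subtype.ext ?_)
  show (g * S.e 0 * g⁻¹) ^ 3 = 1
  have h3 : S.e 0 ^ 3 = 1 := congrArg Subtype.val (show (S.ψ ⟨ee 0, enum_mem _⟩) ^ 3 = 1 from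
    S.π_inj (by rw [map_pow, π_ψ, map_one]; exact cube_J _))
  rw [conj_pow, h3]; group

end Setting

end Cfsg.Agent.H70.CubeFold
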