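import Cfsg.Agent.H70.CubeFoldModel

/-!
A combination of induced characters is a test function.
-/

set_option autoImplicit false
set_option Elab.async false

namespace Cfsg.Agent.H70.CubeFold

theorem comb_eq2 : ∀ i, comb 2 (enum i) = ((test 2 i).1, (test 2 i).2, 0, 0) := by
  decide +kernel

theorem comb_eq3_even : ∀ (a : ThreeCube.Idx) (j : ZMod 3),
    comb 3 (enum (a, .r j)) = ((test 3 (a, .r j)).1, (test 3 (a, .r j)).2, 0, 0) := by
  decide +kernel

theorem comb_eq3_odd : ∀ (a : ThreeCube.Idx) (j : ZMod 3),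
    comb 3 (enum (a, .sr j)) = ((test 3 (a, .sr j)).1, (test 3 (a, .sr j)).2, 0, 0) := by
  decide +kernel

theorem comb_eq3 : ∀ i, comb 3 (enum i) = ((test 3 i).1, (test 3 i).2, 0, 0) := by
  rintro ⟨a, j | j⟩
  exacts [comb_eq3_even a j, comb_eq3_odd a j]

theorem comb_eq4 : ∀ i, comb 4 (enum i) = ((test 4 i).1, (test 4 i).2, 0, 0) := by
  decide +kernel

end Cfsg.Agent.H70.CubeFold
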