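import Cfsg.Agent.H70.CubeFoldCombA
import Cfsg.Agent.H70.CubeFoldCombB

/-!
The induced characters on the model are the test functions.
-/

set_option autoImplicit false

set_option Elab.async false

namespace Cfsg.Agent.H70.CubeFold

theorem comb_eq (w : Fin 6) (i : Idx) : comb w (enum i) = ((test w i).1, (test w i).2, 0, 0) := by
  fin_cases w
  exacts [comb_eq0 i, comb_eq1 i, comb_eq2 i, comb_eq3 i, comb_eq4 i, comb_eq5 i]

theorem reps_mem : ∀ k, ∀ r ∈ reps k, r ∈ M := by decide +kernel

theorem reps_nodup : ∀ k, (reps k).Pairwise fun r r' => ¬ dom k (r⁻¹ * r') = true := by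
  decide +kernel

theorem reps_card : ∀ k,
    (reps k).length * (Finset.univ.filter fun i : Idx => dom k (enum i) = true).card = 648 := by
  decide +kernel

/-- The complement. -/
def comp (p : Fin 4 × DihedralGroup 3) : W := enum (((0, 0, 0), p.1), p.2)

theorem enum_split : ∀ i, enum i = enum (rot (avec (enum i) 0, avec (enum i) 1, avec (enum i) 2)) *
    comp (i.1.2, i.2) := by
  decide +kernel

theorem comp_mul : ∀ p q, ∃ r, comp p * comp q = comp r := by decide +kernel

theorem comp_conj : ∀ p a, ∃ b, comp p * enum (rot a) = enum (rot b) * comp p := by decide +kernel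

theorem rot_mul : ∀ a b, ∃ c, enum (rot a) * enum (rot b) = enum (rot c) := by decide +kernel

theorem dom_split : ∀ k a p, dom k (enum (rot a) * comp p) = dom k (comp p) := by decide +kernel

theorem dom_inv : ∀ k i, dom k (enum i) = true → dom k (enum i)⁻¹ = true := by decide +kernel

theorem dom_comp : ∀ k p, dom k (comp p) = true → ∀ q, dom k (comp q) = true →
    dom k (comp p * comp q) = true ∧
      expo k (comp p * comp q) = expo k (comp p) + expo k (comp q) := by
  decide +kernel

theorem expo_rot : ∀ k a b,
    expo k (enum (rot a) * enum (rot b)) = expo k (enum (rot a)) + expo k (enum (rot b)) := by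
  decide +kernel

theorem expo_split : ∀ k p, dom k (comp p) = true → ∀ a,
    expo k (enum (rot a) * comp p) = expo k (enum (rot a)) + expo k (comp p) := by
  decide +kernel

theorem expo_conj : ∀ k p, dom k (comp p) = true → ∀ a,
    expo k (comp p * enum (rot a) * (comp p)⁻¹) = expo k (enum (rot a)) := by
  decide +kernel

theorem dom_expo_hom (k : Fin 8) {x y : W} (hx : x ∈ M) (hy : y ∈ M) (hdx : dom k x = true)
    (hdy : dom k y = true) :
    dom k (x * y) = true ∧ expo k (x * y) = expo k x + expo k y := by
  obtain ⟨a, p, rfl⟩ : ∃ a p, x = enum (rot a) * comp p :=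
    ⟨_, _, (enum_index hx).symm.trans (enum_split _)⟩
  obtain ⟨b, q, rfl⟩ : ∃ a p, y = enum (rot a) * comp p :=
    ⟨_, _, (enum_index hy).symm.trans (enum_split _)⟩
  rw [dom_split] at hdx hdy
  obtain ⟨b', hb'⟩ := comp_conj p b
  obtain ⟨c, hc⟩ := rot_mul a b'
  obtain ⟨r, hr⟩ := comp_mul p q
  have e : enum (rot a) * comp p * (enum (rot b) * comp q) = enum (rot c) * comp r := by
    rw [← hc, ← hr, mul_assoc, ← mul_assoc (comp p), hb']
    simp only [mul_assoc]
  have hbb : expo k (enum (rot b')) = expo k (enum (rot b)) := by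
    rw [show enum (rot b') = comp p * enum (rot b) * (comp p)⁻¹ by
      rw [hb', mul_inv_cancel_right]]
    exact expo_conj k p hdx b
  obtain ⟨hd, he⟩ := dom_comp k p hdx q hdy
  rw [hr] at hd he
  refine ⟨by rw [e, dom_split]; exact hd, ?_⟩
  rw [e, expo_split k r hd, expo_split k p hdx, expo_split k q hdy, he, ← hc, expo_rot, hbb]
  abel

end Cfsg.Agent.H70.CubeFold
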