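import Cfsg.Agent.H70.CubeFoldModel

/-!
A combination of induced characters is a test function.
-/

set_option autoImplicit false
set_option Elab.async false

namespace Cfsg.Agent.H70.CubeFold

theorem comb_eq0_even : ∀ (a : ThreeCube.Idx) (j : ZMod 3),
    comb 0 (enum (a, .r j)) = ((test 0 (a, .r j)).1, (test 0 (a, .r j)).2, 0, 0) := by
  decide +kernel

theorem comb_eq0_odd : ∀ (a : ThreeCube.Idx) (j : ZMod 3),
    comb 0 (enum (a, .sr j)) = ((test 0 (a, .sr j)).1, (test 0 (a, .sr j)).2, 0, 0) := by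
  decide +kernel

theorem comb_eq0 : ∀ i, comb 0 (enum i) = ((test 0 i).1, (test 0 i).2, 0, 0) := by
  rintro ⟨a, j | j⟩
  exacts [comb_eq0_even a j, comb_eq0_odd a j]

theorem comb_eq1 : ∀ i, comb 1 (enum i) = ((test 1 i).1, (test 1 i).2, 0, 0) := by
  decide +kernel

theorem comb_eq5 : ∀ i, comb 5 (enum i) = ((test 5 i).1, (test 5 i).2, 0, 0) := by
  decide +kernel

end Cfsg.Agent.H70.CubeFold
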