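import Cfsg.Agent.H70.ThreeCubeModel
import Mathlib.GroupTheory.SemidirectProduct

/-!
The normaliser in `A₉` of an elementary abelian group of order 27, as a concrete model
(`(S₃ ≀ S₃) ∩ A₉`), with the class functions used in its recognition.
-/

set_option autoImplicit false

namespace Cfsg.Agent.H70.CubeFold

open ThreeCube (V eps act actFun actFun_mul actFun_one)

/-- The coordinates of a triple. -/
def pick (v : V) : Fin 3 → DihedralGroup 3 := ![v.1, v.2.1, v.2.2]

/-- A triple from its coordinates. -/
def mk3 (f : Fin 3 → DihedralGroup 3) : V := (f 0, f 1, f 2)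

theorem pick_mk3 (f : Fin 3 → DihedralGroup 3) (i : Fin 3) : pick (mk3 f) i = f i := by
  fin_cases i <;> rfl

theorem mk3_pick (v : V) : mk3 (pick v) = v := rfl

theorem pick_mul (v w : V) (i : Fin 3) : pick (v * w) i = pick v i * pick w i := by
  fin_cases i <;> rfl

/-- Permutation of the coordinates. -/
def permAut : DihedralGroup 3 →* MulAut V where
  toFun g :=
    { toFun := fun v => mk3 fun i => pick v (actFun g⁻¹ i)
      invFun := fun v => mk3 fun i => pick v (actFun g i)
      left_inv := fun v => by
        simp only [pick_mk3, ← actFun_mul, inv_mul_cancel, actFun_one, mk3_pick]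
      right_inv := fun v => by
        simp only [pick_mk3, ← actFun_mul, mul_inv_cancel, actFun_one, mk3_pick]
      map_mul' := fun v w => by simp only [pick_mul]; rfl }
  map_one' := MulEquiv.ext fun v => by
    show (mk3 fun i => pick v (actFun 1⁻¹ i)) = v
    simp only [inv_one, actFun_one, mk3_pick]
  map_mul' g h := MulEquiv.ext fun v => by
    show (mk3 fun i => pick v (actFun (g * h)⁻¹ i)) =
      mk3 fun i => pick (mk3 fun i => pick v (actFun h⁻¹ i)) (actFun g⁻¹ i)
    simp only [pick_mk3, mul_inv_rev, actFun_mul]

/-- The wreath product. -/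
abbrev W : Type := V ⋊[permAut] DihedralGroup 3

/-- The sign of an element on the nine points. -/
def sgnFun (x : W) : ℤˣ :=
  eps x.left.1 * eps x.left.2.1 * eps x.left.2.2 * eps x.right

theorem sgn_perm : ∀ g v, eps (permAut g v).1 * eps (permAut g v).2.1 * eps (permAut g v).2.2 =
    eps v.1 * eps v.2.1 * eps v.2.2 := by
  decide +kernel

/-- The sign as a homomorphism. -/
def sgnW : W →* ℤˣ where
  toFun := sgnFun
  map_one' := by simp [sgnFun]
  map_mul' x y := by
    have h := sgn_perm x.right y.left
    simp only [sgnFun, SemidirectProduct.mul_left, SemidirectProduct.mul_right, Prod.fst_mul,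
      Prod.snd_mul, map_mul]
    calc eps x.left.1 * eps (permAut x.right y.left).1 * (eps x.left.2.1 *
          eps (permAut x.right y.left).2.1) * (eps x.left.2.2 *
          eps (permAut x.right y.left).2.2) * (eps x.right * eps y.right) =
        eps x.left.1 * eps x.left.2.1 * eps x.left.2.2 * eps x.right *
          (eps (permAut x.right y.left).1 * eps (permAut x.right y.left).2.1 *
            eps (permAut x.right y.left).2.2 * eps y.right) := by
          simp only [mul_assoc, mul_left_comm, mul_comm]
      _ = _ := by rw [h]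

/-- The model. -/
def M : Subgroup W := sgnW.ker

theorem mem_M {x : W} : x ∈ M ↔ sgnFun x = 1 := Iff.rfl

instance : DecidablePred (· ∈ M) := fun _ => decidable_of_iff _ mem_M.symm

/-- The indices: the diagonal part and the permutation of the blocks. -/
abbrev Idx : Type := ThreeCube.Idx × DihedralGroup 3

/-- The number of a symmetry. -/
def num : DihedralGroup 3 → Fin 3
  | .r i => i
  | .sr i => i

/-- Whether a symmetry is a reflection. -/
def isRef : DihedralGroup 3 → Bool
  | .r _ => false
  | .sr _ => true

/-- The compensating reflection of a permutation of the blocks. -/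
def flip : DihedralGroup 3 → V
  | .r _ => 1
  | .sr j => mk3 fun i => if (show Fin 3 from j) = i then .sr 0 else 1

/-- The index of a diagonal element. -/
def oidx (v : V) : ThreeCube.Idx :=
  ((num v.1, num v.2.1, num v.2.2),
    if isRef v.1 then (if isRef v.2.1 then 2 else 1) else (if isRef v.2.1 then 0 else 3))

/-- Enumeration of the model. -/
def enum (i : Idx) : W := ⟨ThreeCube.enum i.1 * flip i.2, i.2⟩

/-- The index of an element. -/
def index (x : W) : Idx := (oidx (x.left * flip x.right), x.right)

theorem enum_mem : ∀ i, enum i ∈ M := by decide +kernel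

theorem index_enum : ∀ i, index (enum i) = i := by decide +kernel

theorem oenum_oidx : ∀ v, v ∈ ThreeCube.Ev → ThreeCube.enum (oidx v) = v := by decide +kernel

theorem flip_sq : ∀ g, flip g * flip g = 1 := by decide +kernel

theorem eps_flip : ∀ g, eps (flip g).1 * eps (flip g).2.1 * eps (flip g).2.2 = eps g := by
  decide +kernel

theorem enum_index {x : W} (hx : x ∈ M) : enum (index x) = x := by
  have hv : x.left * flip x.right ∈ ThreeCube.Ev := by
    rw [ThreeCube.mem_Ev]
    have h1 := mem_M.mp hx
    have h2 := eps_flip x.right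
    simp only [sgnFun] at h1
    rw [← h1, ← h2]
    simp only [ThreeCube.co, Matrix.cons_val, MonoidHom.coe_comp, Function.comp_apply,
      MonoidHom.coe_fst, MonoidHom.coe_snd, Prod.fst_mul, Prod.snd_mul, map_mul]
    simp only [mul_assoc, mul_left_comm, mul_comm]
  simp only [enum, index, oenum_oidx _ hv]
  ext1
  · simp [mul_assoc, flip_sq]
  · rfl

/-- The enumeration as a bijection. -/
noncomputable def enumEquiv : Idx ≃ M where
  toFun i := ⟨enum i, enum_mem i⟩
  invFun x := index x
  left_inv := index_enum
  right_inv x := Subtype.ext (enum_index x.2)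

/-- The normal subgroup of order 27. -/
def rot (a : Fin 3 × Fin 3 × Fin 3) : Idx := ((a, 3), 1)

/-- The distinguished elements. -/
def ee : Fin 3 → W := fun w => enum (rot (![(0, 0, 1), (1, 1, 0), (1, 1, 1)] w))

/-- The four involution-like coset representatives. -/
def vv (k : Fin 4) : W := enum (((0, 0, 0), k), 1)

/-- The lifted permutations of the blocks. -/
def pp (g : DihedralGroup 3) : W := enum (((0, 0, 0), 3), g)

/-- The additive coordinate of a symmetry. -/
def coord : DihedralGroup 3 → Fin 3
  | .r i => i
  | .sr i => -(show Fin 3 from i)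

/-- Additive coordinates. -/
def avec (x : W) (i : Fin 3) : Fin 3 := coord (pick x.left i)

/-- The classes, numbered. -/
def cl (x : W) : Fin 14 :=
  match x.right with
  | .r j =>
    if j = 0 then
      if isRef x.left.1 || isRef x.left.2.1 || isRef x.left.2.2 then
        (let u : Fin 3 := if isRef x.left.1 then (if isRef x.left.2.1 then 2 else 1) else 0
         if avec x u = 0 then 1 else 6)
      else
        ![0, 5, 12, 13] ⟨(if avec x 0 = 0 then 0 else 1) + (if avec x 1 = 0 then 0 else 1) +
          (if avec x 2 = 0 then 0 else 1), by split_ifs <;> omega⟩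
    else
      (let c := x * x * x
       ![4, 10, 11] (avec c 0 * avec c 1 * avec c 2 * (show Fin 3 from j)))
  | .sr j =>
    let u : Fin 3 := j
    let y : Fin 3 := u + 1
    let z : Fin 3 := u + 2
    if isRef (pick x.left u) then
      (if (if isRef (pick x.left y) then avec x y - avec x z else avec x y + avec x z) = 0
        then 3 else 7)
    else ![2, 8, 9] (avec x u * if isRef (pick x.left y) then 1 else 2)

/-- The support of the test functions: elements with a suitable power in the normal subgroup. -/
def inD (x : W) : Prop := ¬ cl x < 5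

instance : DecidablePred inD := fun x => inferInstanceAs (Decidable (¬ cl x < 5))

/-- The test functions, doubled: rational part and part along `√3`. -/
def tab : Fin 6 → Fin 14 → ℤ × ℤ :=
  ![![0, 0, 0, 0, 0, (18, 0), (6, 0), 0, (0, -2), (0, 2), 0, (-6, 0), 0, 0],
    ![0, 0, 0, 0, 0, (6, 0), (-6, 0), 0, (0, 2), (0, -2), 0, 0, (12, 0), (18, 0)],
    ![0, 0, 0, 0, 0, (6, 0), (6, 0), 0, (6, 0), (6, 0), 0, 0, (12, 0), (18, 0)],
    ![0, 0, 0, 0, 0, 0, 0, (6, 0), 0, 0, 0, (6, 0), (18, 0), 0],
    ![0, 0, 0, 0, 0, 0, 0, 0, (0, -4), (0, 4), 0, 0, 0, 0],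
    ![0, 0, 0, 0, 0, 0, 0, 0, 0, 0, (-6, 0), (6, 0), 0, 0]]

/-- The test functions on the model. -/
def test (w : Fin 6) (i : Idx) : ℤ × ℤ := tab w (cl (enum i))

/-! ### The induced characters -/

/-- The exponents (twelfth roots of unity) of the linear characters to induce. -/
def expo : Fin 8 → W → Fin 12 :=
  let w3 : Fin 3 → Fin 12 := ![0, 4, 8]
  let f : Fin 6 → W → Fin 12 := ![fun x => w3 (avec x 2) + (match x.right with
      | .r _ => if isRef x.left.1 then 6 else 0
      | .sr _ => if isRef x.left.1 then 3 else 9),
    fun x => w3 (avec x 2),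
    fun x => w3 (avec x 0 + avec x 1),
    fun x => w3 (avec x 0 + avec x 1 + avec x 2) + w3 (num x.right),
    fun x => if isRef x.left.2.2 then 6 else 0,
    fun x => (if isRef x.left.2.2 then 6 else 0) + if isRef x.right then 6 else 0]
  ![f 0, f 1, f 2, f 3, f 4, f 5, fun x => 7 * f 0 x,
    fun x => f 3 x + w3 (num x.right)]

/-- The subgroups induced from. -/
def dom : Fin 8 → W → Bool :=
  let c : Fin 3 → W → Bool := fun w x => x * ee w = ee w * x
  let b : W → Bool := fun x => actFun x.right 2 = 2
  ![c 0, c 0, c 1, c 2, b, b, c 0, c 2]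

/-- Representatives of the cosets. -/
def reps : Fin 8 → List W :=
  let r : List W := [1, pp (.r 1), pp (.r 2)]
  let six : List W := r.flatMap fun p => [p, p * vv 0]
  let four : List W := [vv 3, vv 0, vv 1, vv 2]
  let eight : List W := four ++ four.map (pp (.sr 2) * ·)
  ![six, six, r.flatMap fun p => four.map (p * ·), eight, r, r, six, eight]

/-- A twelfth root of unity, doubled, in the basis `1, √3, i, i√3`. -/
def zeta : Fin 12 → ℤ × ℤ × ℤ × ℤ :=
  ![(2, 0, 0, 0), (0, 1, 1, 0), (1, 0, 0, 1), (0, 0, 2, 0), (-1, 0, 0, 1), (0, -1, 1, 0),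
    (-2, 0, 0, 0), (0, -1, -1, 0), (-1, 0, 0, -1), (0, 0, -2, 0), (1, 0, 0, -1), (0, 1, -1, 0)]

/-- A value of an induced linear character. -/
def monom (k : Fin 8) (x : W) : ℤ × ℤ × ℤ × ℤ :=
  ((reps k).map fun r => if dom k (r⁻¹ * x * r) then zeta (expo k (r⁻¹ * x * r)) else 0).sum

/-- The constant character. -/
def triv₂ : ℤ × ℤ × ℤ × ℤ := (2, 0, 0, 0)

/-- The degree two character. -/
def two (x : W) : ℤ × ℤ × ℤ × ℤ :=
  (((([1, pp (.r 1), pp (.r 2)] : List W).map fun r =>
    if dom 4 (r⁻¹ * x * r) then triv₂ else 0)).sum) - triv₂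

/-- The combinations of characters. -/
def comb : Fin 6 → W → ℤ × ℤ × ℤ × ℤ :=
  ![fun x => two x + monom 0 x - monom 3 x,
    fun x => monom 4 x + monom 5 x - monom 0 x,
    fun x => triv₂ + two x + monom 4 x - monom 1 x,
    fun x => triv₂ + monom 5 x - monom 2 x + monom 3 x,
    fun x => monom 0 x - monom 6 x, fun x => monom 3 x - monom 7 x]

end Cfsg.Agent.H70.CubeFold
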