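import Cfsg.Agent.H70.CubeFoldModel

/-!
The normal subgroup of order 27 of the model and its maximality.
-/

set_option autoImplicit false
set_option Elab.async false

namespace Cfsg.Agent.H70.CubeFold

/-- Membership in the normal subgroup of order 27. -/
def inJ (x : W) : Prop :=
  x.right = 1 ∧ isRef x.left.1 = false ∧ isRef x.left.2.1 = false ∧ isRef x.left.2.2 = false

instance : DecidablePred inJ := fun _ => inferInstanceAs (Decidable (_ ∧ _))

theorem enum_factor : ∀ i, ∃ a, enum i = enum (rot a) * (vv i.1.2 * pp i.2) := by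
  intro i
  refine ⟨(avec (enum i) 0, avec (enum i) 1, avec (enum i) 2), ?_⟩
  revert i
  decide +kernel

theorem rot_conj : ∀ a b, enum (rot a) * enum (rot b) * (enum (rot a))⁻¹ = enum (rot b) := by
  decide +kernel

theorem comp_conj_rot : ∀ k g a, ∃ b,
    vv k * pp g * enum (rot a) * (vv k * pp g)⁻¹ = enum (rot b) := by
  decide +kernel

theorem inJ_rot_enum : ∀ a, inJ (enum (rot a)) := by decide +kernel

theorem inJ_conj (i : Idx) (a : Fin 3 × Fin 3 × Fin 3) :
    inJ (enum i * enum (rot a) * (enum i)⁻¹) := by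
  obtain ⟨c, hc⟩ := enum_factor i
  obtain ⟨b, hb⟩ := comp_conj_rot i.1.2 i.2 a
  have : enum i * enum (rot a) * (enum i)⁻¹ =
      enum (rot c) * (vv i.1.2 * pp i.2 * enum (rot a) * (vv i.1.2 * pp i.2)⁻¹) *
        (enum (rot c))⁻¹ := by
    simp [hc, mul_assoc]
  rw [this, hb, rot_conj]
  exact inJ_rot_enum b

theorem pgroup_out' : ∀ i, ¬ inJ (enum i) → (((enum i ^ 3) ^ 3) ^ 3) ^ 3 = 1 →
    ((((enum i * vv 0 * (enum i)⁻¹ * (vv 0)⁻¹) ^ 3) ^ 3) ^ 3) ^ 3 ≠ 1 := by
  decide +kernel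

theorem pgroup_out (i : Idx) (h : ¬ inJ (enum i)) (h81 : enum i ^ 81 = 1) :
    (enum i * vv 0 * (enum i)⁻¹ * (vv 0)⁻¹) ^ 81 ≠ 1 := by
  have := pgroup_out' i h (by rw [← pow_mul, ← pow_mul, ← pow_mul]; exact h81)
  rwa [← pow_mul, ← pow_mul, ← pow_mul] at this

end Cfsg.Agent.H70.CubeFold
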