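import Cfsg.Agent.H70.CubeFoldModel

/-!
The model as a subgroup of the symmetric group on nine points.
-/

set_option autoImplicit false
set_option Elab.async false

namespace Cfsg.Agent.H70.CubeFold

/-- The embedding into the symmetric group on nine points. -/
def toPerm : W →* Equiv.Perm (Fin 9) :=
  SemidirectProduct.lift ThreeCube.toPerm
    ({ toFun := fun g =>
        (finProdFinEquiv (m := 3) (n := 3)).permCongr (Equiv.prodCongrLeft fun _ => ThreeCube.act g)
       map_one' := by decide +kernel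
       map_mul' := by decide +kernel } : DihedralGroup 3 →* Equiv.Perm (Fin 9))
    (fun g => MonoidHom.ext (by revert g; decide +kernel))

theorem toPerm_injective : Function.Injective toPerm :=
  (injective_iff_map_eq_one toPerm).mpr (by
    rintro ⟨v, g⟩; revert v g; decide +kernel)

/-- The generators. -/
def gen : Fin 4 → W :=
  ![enum (rot (1, 0, 0)), pp (.r 1), ⟨ThreeCube.enum (ThreeCube.invo 2 2 2), 1⟩,
    ⟨(1, 1, .sr 2), .sr 2⟩]

theorem gen_mem : ∀ n, gen n ∈ M := by decide +kernel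

theorem toPerm_gen : ∀ n, toPerm (gen n) =
    ![Equiv.swap (0 : Fin 9) 1 * Equiv.swap 1 2,
      Equiv.swap (0 : Fin 9) 3 * Equiv.swap 3 6 * (Equiv.swap (1 : Fin 9) 4 * Equiv.swap 4 7) *
        (Equiv.swap (2 : Fin 9) 5 * Equiv.swap 5 8),
      Equiv.swap (0 : Fin 9) 1 * Equiv.swap 3 4,
      Equiv.swap (0 : Fin 9) 3 * Equiv.swap 1 4 * Equiv.swap 2 5 * Equiv.swap 6 7] n := by
  decide +kernel

/-- The generators of the rotations. -/
def gRot (n : Fin 3) : W := gen 1 ^ n.val * gen 0 * (gen 1 ^ n.val)⁻¹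

/-- The generators of the diagonal part. -/
def gFlip : Fin 4 → W := ![gen 1 * gen 2 * (gen 1)⁻¹, gen 1 ^ 2 * gen 2 * (gen 1 ^ 2)⁻¹, gen 2, 1]

/-- The lifted generators of the permutations. -/
def gPerm : DihedralGroup 3 → W
  | .r j => gen 1 ^ (show Fin 3 from j).val
  | .sr j => gen 1 ^ (show Fin 3 from (1 : ZMod 3) + j).val * gen 3 *
      (gen 1 ^ (show Fin 3 from (1 : ZMod 3) + j).val)⁻¹

/-- The part of an element left of its generators. -/
def rest (i : Idx) : W := enum i * (gPerm i.2)⁻¹ * (gFlip i.1.2)⁻¹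

theorem enum_gen : ∀ i, rest i = gRot 0 ^ (num (rest i).left.1).val *
    gRot 1 ^ (num (rest i).left.2.1).val * gRot 2 ^ (num (rest i).left.2.2).val := by
  decide +kernel

theorem map_M : M.map toPerm = Subgroup.closure
    ({Equiv.swap (0 : Fin 9) 1 * Equiv.swap 1 2,
      Equiv.swap (0 : Fin 9) 3 * Equiv.swap 3 6 * (Equiv.swap (1 : Fin 9) 4 * Equiv.swap 4 7) *
        (Equiv.swap (2 : Fin 9) 5 * Equiv.swap 5 8),
      Equiv.swap (0 : Fin 9) 1 * Equiv.swap 3 4,
      Equiv.swap (0 : Fin 9) 3 * Equiv.swap 1 4 * Equiv.swap 2 5 * Equiv.swap 6 7} : Set (Equiv.Perm (Fin 9))) := by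
  refine le_antisymm ?_ ((Subgroup.closure_le _).mpr ?_)
  · have hg : ∀ n, toPerm (gen n) ∈ Subgroup.closure
        ({Equiv.swap (0 : Fin 9) 1 * Equiv.swap 1 2,
      Equiv.swap (0 : Fin 9) 3 * Equiv.swap 3 6 * (Equiv.swap (1 : Fin 9) 4 * Equiv.swap 4 7) *
        (Equiv.swap (2 : Fin 9) 5 * Equiv.swap 5 8),
      Equiv.swap (0 : Fin 9) 1 * Equiv.swap 3 4,
      Equiv.swap (0 : Fin 9) 3 * Equiv.swap 1 4 * Equiv.swap 2 5 * Equiv.swap 6 7} : Set (Equiv.Perm (Fin 9))) := by
      intro n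
      refine Subgroup.subset_closure ?_
      rw [toPerm_gen]
      fin_cases n <;> simp
    generalize Subgroup.closure
      ({Equiv.swap (0 : Fin 9) 1 * Equiv.swap 1 2,
      Equiv.swap (0 : Fin 9) 3 * Equiv.swap 3 6 * (Equiv.swap (1 : Fin 9) 4 * Equiv.swap 4 7) *
        (Equiv.swap (2 : Fin 9) 5 * Equiv.swap 5 8),
      Equiv.swap (0 : Fin 9) 1 * Equiv.swap 3 4,
      Equiv.swap (0 : Fin 9) 3 * Equiv.swap 1 4 * Equiv.swap 2 5 * Equiv.swap 6 7} : Set (Equiv.Perm (Fin 9))) = K at hg ⊢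
    replace hg : ∀ n, gen n ∈ K.comap toPerm := hg
    have hrot : ∀ n, gRot n ∈ K.comap toPerm := fun n =>
      mul_mem (mul_mem (pow_mem (hg 1) _) (hg 0)) (inv_mem (pow_mem (hg 1) _))
    have hflip : ∀ k, gFlip k ∈ K.comap toPerm := by
      intro k
      fin_cases k
      · exact mul_mem (mul_mem (hg 1) (hg 2)) (inv_mem (hg 1))
      · exact mul_mem (mul_mem (pow_mem (hg 1) _) (hg 2)) (inv_mem (pow_mem (hg 1) _))
      · exact hg 2
      · exact one_mem _
    have hperm : ∀ g, gPerm g ∈ K.comap toPerm := by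
      rintro (j | j)
      · exact pow_mem (hg 1) _
      · exact mul_mem (mul_mem (pow_mem (hg 1) _) (hg 3)) (inv_mem (pow_mem (hg 1) _))
    rw [Subgroup.map_le_iff_le_comap]
    intro x hx
    rw [← enum_index hx]
    generalize index x = i
    have e : enum i = rest i * gFlip i.1.2 * gPerm i.2 := by simp [rest, mul_assoc]
    rw [e, enum_gen]
    exact mul_mem (mul_mem (mul_mem (mul_mem (pow_mem (hrot 0) _) (pow_mem (hrot 1) _))
      (pow_mem (hrot 2) _)) (hflip _)) (hperm _)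
  · intro g hg
    have hn : ∀ n, toPerm (gen n) ∈ M.map toPerm := fun n => ⟨_, gen_mem n, rfl⟩
    simp only [toPerm_gen] at hn
    simp only [Set.mem_insert_iff, Set.mem_singleton_iff] at hg
    rcases hg with rfl | rfl | rfl | rfl
    exacts [hn 0, hn 1, hn 2, hn 3]

/-- The model is the subgroup of the symmetric group on nine points. -/
noncomputable def mEquiv : M ≃* Subgroup.closure
    ({Equiv.swap (0 : Fin 9) 1 * Equiv.swap 1 2,
      Equiv.swap (0 : Fin 9) 3 * Equiv.swap 3 6 * (Equiv.swap (1 : Fin 9) 4 * Equiv.swap 4 7) *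
        (Equiv.swap (2 : Fin 9) 5 * Equiv.swap 5 8),
      Equiv.swap (0 : Fin 9) 1 * Equiv.swap 3 4,
      Equiv.swap (0 : Fin 9) 3 * Equiv.swap 1 4 * Equiv.swap 2 5 * Equiv.swap 6 7} : Set (Equiv.Perm (Fin 9))) :=
  (M.equivMapOfInjective toPerm toPerm_injective).trans (MulEquiv.subgroupCongr map_M)

end Cfsg.Agent.H70.CubeFold
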