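import Mathlib

/-! Arbitrarily large groups with a prescribed prime graph, as split extensions `V^k ⋊ S`. -/

set_option autoImplicit false

namespace Cfsg.Agent.H70

theorem exists_type0 (H : Type*) [Group H] [Finite H] :
    ∃ (H₀ : Type) (_ : Group H₀) (_ : Finite H₀), Nonempty (H₀ ≃* H) := by
  obtain ⟨n, ⟨e⟩⟩ := Finite.exists_equiv_fin H
  letI : Group (Fin n) := e.symm.group
  exact ⟨Fin n, inferInstance, inferInstance, ⟨e.symm.mulEquiv⟩⟩

/-- The two groups have the same prime graph. -/
def SameGraph (A B : Type*) [Group A] [Group B] : Prop :=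
  (∀ p : ℕ, p.Prime → (p ∣ Nat.card A ↔ p ∣ Nat.card B)) ∧
    ∀ p q : ℕ, p.Prime → q.Prime → p ≠ q →
      ((∃ g : A, orderOf g = p * q) ↔ ∃ g : B, orderOf g = p * q)

theorem SameGraph.trans {A B C : Type*} [Group A] [Group B] [Group C]
    (h₁ : SameGraph A B) (h₂ : SameGraph B C) : SameGraph A C :=
  ⟨fun p hp => (h₁.1 p hp).trans (h₂.1 p hp),
    fun p q hp hq hne => (h₁.2 p q hp hq hne).trans (h₂.2 p q hp hq hne)⟩

theorem SameGraph.of_mulEquiv {A B : Type*} [Group A] [Group B] (e : A ≃* B) : SameGraph A B := by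
  refine ⟨fun p _ => by rw [Nat.card_congr e.toEquiv], fun p q _ _ _ => ⟨?_, ?_⟩⟩
  · rintro ⟨g, hg⟩; exact ⟨e g, by rw [e.orderOf_eq, hg]⟩
  · rintro ⟨g, hg⟩; exact ⟨e.symm g, by rw [e.symm.orderOf_eq, hg]⟩

theorem exists_large_sameGraph {S V : Type*} [Group S] [Finite S] [AddCommGroup V] [Finite V]
    [Nontrivial V] [DistribMulAction S V] (p : ℕ) (hp : p.Prime) (hV : ∀ v : V, p • v = 0)
    (hpS : p ∣ Nat.card S)
    (hfix : ∀ (s : S) (v : V), v ≠ 0 → s • v = v → ∃ j : ℕ, orderOf s ∣ p ^ j) (N : ℕ) :
    ∃ (H : Type) (_ : Group H) (_ : Finite H), N < Nat.card H ∧ SameGraph S H := by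
  classical
  let W := Multiplicative (Fin (N + 1) → V)
  let φ : S →* MulAut W :=
    MonoidHom.mk' (fun s => AddEquiv.toMultiplicative (DistribMulAction.toAddEquiv _ s))
      (fun s s' => MulEquiv.ext fun w => congrArg Multiplicative.ofAdd (mul_smul s s' w.toAdd))
  let X := W ⋊[φ] S
  have hX : Nat.card X = Nat.card W * Nat.card S := SemidirectProduct.card
  have : Finite X := Finite.of_equiv _ SemidirectProduct.equivProd.symm
  have hWp : ∀ w : W, w ^ p = 1 := fun w => by
    apply Multiplicative.toAdd.injective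
    funext i
    show (p • w.toAdd) i = 0
    exact hV (w.toAdd i)
  have hker : ∀ z : X, SemidirectProduct.rightHom z = 1 → z ^ p = 1 := by
    intro z hz
    have hz1 : z ∈ (SemidirectProduct.inl (φ := φ)).range := by
      rw [SemidirectProduct.range_inl_eq_ker_rightHom]; exact hz
    obtain ⟨w, rfl⟩ := hz1
    rw [← map_pow, hWp, map_one]
  have hsame : SameGraph S X := by
    refine ⟨fun r hr => ⟨fun h => hX ▸ dvd_mul_of_dvd_right h _, fun h => ?_⟩, fun r s hr hs hne => ⟨?_, ?_⟩⟩
    · rcases (hr.dvd_mul).mp (hX ▸ h) with h' | h'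
      · have := Fact.mk hr
        obtain ⟨w, hw⟩ := exists_prime_orderOf_dvd_card' r h'
        have := hw ▸ orderOf_dvd_of_pow_eq_one (hWp w)
        rwa [(Nat.prime_dvd_prime_iff_eq hr hp).mp this]
      · exact h'
    · rintro ⟨g, hg⟩
      exact ⟨SemidirectProduct.inr g, by rw [orderOf_injective _ SemidirectProduct.inr_injective, hg]⟩
    · rintro ⟨h, hh⟩
      set t := SemidirectProduct.rightHom h with ht
      have hdvd : orderOf t ∣ r * s := hh ▸ orderOf_map_dvd _ h
      have key : ∀ r s : ℕ, r.Prime → s.Prime → r ≠ s → orderOf h = r * s → orderOf t ∣ r →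
          False := by
        intro r s hr hs hne hh hdvd
        have hk : SemidirectProduct.rightHom (h ^ r) = 1 := by
          rw [map_pow]; exact orderOf_dvd_iff_pow_eq_one.mp hdvd
        have ho : orderOf (h ^ r) = s := by
          rw [orderOf_pow_of_dvd hr.ne_zero (hh ▸ dvd_mul_right r s), hh,
            Nat.mul_div_cancel_left _ hr.pos]
        have hsp : s = p :=
          (Nat.prime_dvd_prime_iff_eq hs hp).mp (ho ▸ orderOf_dvd_of_pow_eq_one (hker _ hk))
        have hz1 : h ^ r ∈ (SemidirectProduct.inl (φ := φ)).range := by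
          rw [SemidirectProduct.range_inl_eq_ker_rightHom]; exact hk
        obtain ⟨w, hw⟩ := hz1
        have hw1 : w ≠ 1 := fun e => hs.ne_one (by rw [← ho, ← hw, e, map_one, orderOf_one])
        have hcomm : h * SemidirectProduct.inl w = SemidirectProduct.inl w * h := by
          rw [hw]; exact (Commute.self_pow h r).eq
        have hfixw : φ t w = w := by
          have e := congrArg SemidirectProduct.left hcomm
          have e' : h.left * φ h.right w = w * h.left := by
            rw [SemidirectProduct.mul_left, SemidirectProduct.mul_left, SemidirectProduct.left_inl,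
              SemidirectProduct.right_inl, map_one] at e
            exact e
          rw [mul_comm w] at e'
          exact mul_left_cancel e'
        obtain ⟨i, hi⟩ : ∃ i, w.toAdd i ≠ 0 := by
          by_contra hall
          push Not at hall
          exact hw1 (Multiplicative.toAdd.injective (funext hall))
        have hti : t • w.toAdd i = w.toAdd i :=
          congrFun (congrArg Multiplicative.toAdd hfixw) i
        obtain ⟨j, hj⟩ := hfix t _ hi hti
        have hrp : r ≠ p := hsp ▸ hne
        have ht1 : orderOf t = 1 :=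
          Nat.eq_one_of_dvd_coprimes (((Nat.coprime_primes hr hp).mpr hrp).pow_right j) hdvd hj
        have := hker h (orderOf_eq_one_iff.mp ht1)
        have := orderOf_dvd_of_pow_eq_one this
        rw [hh] at this
        exact hrp ((Nat.prime_dvd_prime_iff_eq hr hp).mp ((dvd_mul_right r s).trans this))
      rcases (Nat.dvd_mul).mp hdvd with ⟨a, b, ha, hb, hab⟩
      rcases (Nat.dvd_prime hr).mp ha with rfl | rfl
      · exact (key s r hs hr hne.symm (hh.trans (Nat.mul_comm _ _)) (by rw [← hab, one_mul]; exact hb)).elim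
      · rcases (Nat.dvd_prime hs).mp hb with rfl | rfl
        · exact (key a s hr hs hne hh (by rw [← hab, mul_one])).elim
        · exact ⟨t, hab.symm⟩
  obtain ⟨H, hG, hF, ⟨e⟩⟩ := exists_type0 X
  letI := hG
  refine ⟨H, hG, hF, ?_, hsame.trans (SameGraph.of_mulEquiv e.symm)⟩
  rw [Nat.card_congr e.toEquiv, hX]
  have h1 : N < Nat.card W := by
    show N < Nat.card (Fin (N + 1) → V)
    rw [Nat.card_pi, Finset.prod_const, Finset.card_univ, Fintype.card_fin]
    calc N < 2 ^ (N + 1) := (Nat.lt_succ_self N).trans (Nat.lt_two_pow_self)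
      _ ≤ Nat.card V ^ (N + 1) := Nat.pow_le_pow_left Finite.one_lt_card _
  exact lt_of_lt_of_le h1 (Nat.le_mul_of_pos_right _ Nat.card_pos)

end Cfsg.Agent.H70
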